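import Mathlib
import Cfsg.Agent.Solvable.SchurZassenhausConj

/-!
# The number of classes of `p`-regular elements
-/

set_option autoImplicit false

namespace Cfsg.Agent.H697.Pk

/-- The classes of `p`-regular elements. -/
def PReg (p : ℕ) (G : Type*) [Group G] : Type _ :=
  {c : ConjClasses G // ∃ g : G, ConjClasses.mk g = c ∧ ¬ p ∣ orderOf g}

instance instFinitePReg (p : ℕ) (G : Type*) [Group G] [Finite G] : Finite (PReg p G) :=
  inferInstanceAs (Finite {c : ConjClasses G // ∃ g : G, ConjClasses.mk g = c ∧ ¬ p ∣ orderOf g})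

/-- A surjective map of finite sets with a collision. -/
theorem collapse {A B : Type*} [Finite A] (f : A → B) (hf : Function.Surjective f)
    {a0 a1 : A} (hne : a0 ≠ a1) (h01 : f a0 = f a1) :
    Nat.card B + 1 ≤ Nat.card A ∧ (Nat.card A ≤ Nat.card B + 1 → ∀ a a', a ≠ a' → f a = f a' →
      (a = a0 ∨ a = a1) ∧ (a' = a0 ∨ a' = a1)) := by
  classical
  have := Fintype.ofFinite A
  have : Finite B := Finite.of_surjective f hf
  have := Fintype.ofFinite B
  let g : {a // a ≠ a1} → B := fun a => f a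
  have hg : Function.Surjective g := by
    intro b
    obtain ⟨a, rfl⟩ := hf b
    by_cases h : a = a1
    · exact ⟨⟨a0, hne⟩, by rw [h]; exact h01⟩
    · exact ⟨⟨a, h⟩, rfl⟩
  have hc : Nat.card {a // a ≠ a1} + 1 = Nat.card A := by
    have h1 : Nat.card {a // a ≠ a1} = ({a1} : Set A)ᶜ.ncard := by
      rw [← Nat.card_coe_set_eq]
      rfl
    rw [h1, Set.ncard_compl, Set.ncard_singleton]
    have : 0 < Nat.card A := Nat.card_pos_iff.2 ⟨⟨a1⟩, inferInstance⟩
    omega
  have h2 := Nat.card_le_card_of_surjective g hg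
  refine ⟨by omega, fun hle => ?_⟩
  have hbij : Function.Bijective g := by
    rw [Fintype.bijective_iff_surjective_and_card]
    refine ⟨hg, ?_⟩
    rw [← Nat.card_eq_fintype_card, ← Nat.card_eq_fintype_card]
    omega
  have key : ∀ a a', a ≠ a1 → a' ≠ a1 → f a = f a' → a = a' := by
    intro a a' h h' haa
    have : (⟨a, h⟩ : {a // a ≠ a1}) = ⟨a', h'⟩ := hbij.1 haa
    exact congrArg Subtype.val this
  intro a a' hne' haa
  by_cases h : a = a1
  · have h' : a' ≠ a1 := fun h' => hne' (h.trans h'.symm)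
    have h3 : a' = a0 := key a' a0 h' hne (by rw [← haa, h, h01])
    exact ⟨Or.inr h, Or.inl h3⟩
  · by_cases h' : a' = a1
    · have h3 : a = a0 := key a a0 h hne (by rw [haa, h', h01])
      exact ⟨Or.inl h3, Or.inr h'⟩
    · exact absurd (key a a' h h' haa) hne'

section

variable {p : ℕ} [hp : Fact p.Prime] {G Q : Type*} [Group G] [Group Q]

/-- The map on regular classes. -/
def mapReg (f : G →* Q) : PReg p G → PReg p Q := fun c =>
  ⟨ConjClasses.map f c.1, by
    obtain ⟨c, g, rfl, hg⟩ := c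
    exact ⟨f g, rfl, fun h => hg (h.trans (orderOf_map_dvd f g))⟩⟩

/-- The regular class of a regular element. -/
def mkReg (g : G) (hg : ¬ p ∣ orderOf g) : PReg p G := ⟨ConjClasses.mk g, g, rfl, hg⟩

theorem mkReg_eq_iff {g h : G} (hg : ¬ p ∣ orderOf g) (hh : ¬ p ∣ orderOf h) :
    mkReg g hg = mkReg h hh ↔ IsConj g h := by
  constructor
  · intro e
    exact ConjClasses.mk_eq_mk_iff_isConj.1 (congrArg Subtype.val e)
  · intro e
    exact Subtype.ext (ConjClasses.mk_eq_mk_iff_isConj.2 e)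

theorem mapReg_mkReg (f : G →* Q) {g : G} (hg : ¬ p ∣ orderOf g) :
    mapReg f (mkReg g hg) = mkReg (f g) (fun h => hg (h.trans (orderOf_map_dvd f g))) := rfl

/-- Regular elements lift. -/
theorem exists_lift [Finite G] (f : G →* Q) (hf : Function.Surjective f) {q : Q}
    (hq : ¬ p ∣ orderOf q) : ∃ g : G, f g = q ∧ ¬ p ∣ orderOf g := by
  obtain ⟨g, rfl⟩ := hf q
  obtain ⟨a, m, hm, ham⟩ := Nat.exists_eq_pow_mul_and_not_dvd (orderOf_pos g).ne' p hp.out.ne_one
  have hcop : Nat.Coprime (p ^ a) (orderOf (f g)) :=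
    Nat.Coprime.pow_left a ((Nat.Prime.coprime_iff_not_dvd hp.out).2 hq)
  obtain ⟨b, hb⟩ : ∃ b : ℕ, f g ^ (p ^ a * b) = f g := by
    obtain ⟨b, hb⟩ := exists_pow_eq_self_of_coprime hcop
    exact ⟨b, by rw [pow_mul]; exact hb⟩
  refine ⟨g ^ (p ^ a * b), by rw [map_pow, hb], fun h => ?_⟩
  have h1 : orderOf (g ^ (p ^ a * b)) ∣ m := by
    apply orderOf_dvd_of_pow_eq_one
    rw [← pow_mul]
    have : p ^ a * b * m = orderOf g * b := by rw [ham]; ring
    rw [this, pow_mul, pow_orderOf_eq_one, one_pow]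
  exact hm (h.trans h1)

theorem mapReg_surjective [Finite G] (f : G →* Q) (hf : Function.Surjective f) :
    Function.Surjective (mapReg (p := p) f) := by
  rintro ⟨c, q, rfl, hq⟩
  obtain ⟨g, rfl, hg⟩ := exists_lift f hf hq
  exact ⟨mkReg g hg, rfl⟩

theorem card_le_of_surjective [Finite G] (f : G →* Q) (hf : Function.Surjective f) :
    Nat.card (PReg p Q) ≤ Nat.card (PReg p G) :=
  Nat.card_le_card_of_surjective _ (mapReg_surjective f hf)

/-- For `p'`-groups all classes are regular. -/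
theorem card_eq_of_not_dvd [Finite G] (h : ¬ p ∣ Nat.card G) :
    Nat.card (PReg p G) = Nat.card (ConjClasses G) := by
  refine Nat.card_congr ⟨fun c => c.1, fun c => ⟨c, ?_⟩, fun _ => rfl, fun _ => rfl⟩
  obtain ⟨g, rfl⟩ := ConjClasses.mk_surjective c
  exact ⟨g, rfl, fun hd => h (hd.trans (orderOf_dvd_natCard g))⟩

theorem card_congr (e : G ≃* Q) : Nat.card (PReg p G) = Nat.card (PReg p Q) := by
  refine Nat.card_congr ⟨mapReg e.toMonoidHom, mapReg e.symm.toMonoidHom, ?_, ?_⟩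
  · rintro ⟨c, g, rfl, hg⟩
    apply Subtype.ext
    exact congrArg ConjClasses.mk (e.symm_apply_apply g)
  · rintro ⟨c, g, rfl, hg⟩
    apply Subtype.ext
    exact congrArg ConjClasses.mk (e.apply_symm_apply g)

/-- A nontrivial normal `p'`-subgroup gives an additional class. -/
theorem card_quotient_add_one_le [Finite G] (N : Subgroup G) [N.Normal] (hN : ¬ p ∣ Nat.card N)
    (hN1 : N ≠ ⊥) :
    Nat.card (PReg p (G ⧸ N)) + 1 ≤ Nat.card (PReg p G) ∧
      (Nat.card (PReg p G) ≤ Nat.card (PReg p (G ⧸ N)) + 1 →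
        (∀ x ∈ N, ∀ y ∈ N, x ≠ 1 → y ≠ 1 → IsConj x y) ∧
        ∀ (g : G) (n : G), ¬ p ∣ orderOf g → g ∉ N → n ∈ N → ¬ p ∣ orderOf (g * n) →
          IsConj g (g * n)) := by
  classical
  have hreg : ∀ x ∈ N, ¬ p ∣ orderOf x := fun x hx hd => hN (hd.trans (Subgroup.orderOf_dvd_natCard N hx))
  obtain ⟨x₀, hx₀, hx₀1⟩ : ∃ x : G, x ∈ N ∧ x ≠ 1 := by
    by_contra hcon
    push Not at hcon
    exact hN1 ((Subgroup.eq_bot_iff_forall _).2 hcon)
  have hone : ¬ p ∣ orderOf (1 : G) := by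
    rw [orderOf_one]
    exact hp.out.one_lt.ne' ∘ Nat.dvd_one.1
  have hne : mkReg (p := p) (1 : G) hone ≠ mkReg x₀ (hreg x₀ hx₀) := by
    intro h
    rw [mkReg_eq_iff] at h
    exact hx₀1 (isConj_one_right.1 h)
  have himg : ∀ x (hx : x ∈ N), mapReg (p := p) (QuotientGroup.mk' N) (mkReg (1 : G) hone) =
      mapReg (QuotientGroup.mk' N) (mkReg x (hreg x hx)) := by
    intro x hx
    rw [mapReg_mkReg, mapReg_mkReg, mkReg_eq_iff]
    have h1 : (QuotientGroup.mk' N) x = (QuotientGroup.mk' N) 1 := by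
      rw [map_one]
      exact (QuotientGroup.eq_one_iff x).2 hx
    rw [h1]
  obtain ⟨h1, h2⟩ := collapse (mapReg (p := p) (QuotientGroup.mk' N))
    (mapReg_surjective _ (QuotientGroup.mk'_surjective N)) hne (himg x₀ hx₀)
  refine ⟨h1, fun hle => ?_⟩
  have h3 := h2 hle
  have key : ∀ x ∈ N, x ≠ 1 → IsConj x x₀ := by
    intro x hx hx1
    by_contra hcon
    have hne' : mkReg (p := p) (1 : G) hone ≠ mkReg x (hreg x hx) := by
      intro h
      rw [mkReg_eq_iff] at h
      exact hx1 (isConj_one_right.1 h)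
    rcases (h3 _ _ hne' (himg x hx)).2 with h4 | h4
    · exact hne' h4.symm
    · rw [mkReg_eq_iff] at h4
      exact hcon h4
  refine ⟨fun x hx y hy hx1 hy1 => (key x hx hx1).trans (key y hy hy1).symm, ?_⟩
  intro g n hg hgN hn hgn
  by_contra hcon
  have hne' : mkReg (p := p) g hg ≠ mkReg (g * n) hgn := by
    intro h
    rw [mkReg_eq_iff] at h
    exact hcon h
  have himg' : mapReg (p := p) (QuotientGroup.mk' N) (mkReg g hg) =
      mapReg (QuotientGroup.mk' N) (mkReg (g * n) hgn) := by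
    rw [mapReg_mkReg, mapReg_mkReg, mkReg_eq_iff]
    have h1 : (QuotientGroup.mk' N) (g * n) = (QuotientGroup.mk' N) g := by
      rw [map_mul, show (QuotientGroup.mk' N) n = 1 from (QuotientGroup.eq_one_iff n).2 hn, mul_one]
    rw [h1]
  have hNn : N.Normal := inferInstance
  rcases (h3 _ _ hne' himg').1 with h4 | h4
  · rw [mkReg_eq_iff] at h4
    apply hgN
    rw [isConj_one_left.1 h4]
    exact N.one_mem
  · rw [mkReg_eq_iff] at h4
    obtain ⟨c, hc⟩ := isConj_iff.1 h4.symm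
    apply hgN
    rw [← hc]
    exact hNn.conj_mem x₀ hx₀ c

/-- Two regular elements in the same coset of a normal `p`-subgroup are conjugate. -/
theorem isConj_of_coset [Finite G] (P : Subgroup G) [P.Normal] (hP : IsPGroup p P) {g h : G}
    (hg : ¬ p ∣ orderOf g) (hh : ¬ p ∣ orderOf h) (hgh : g⁻¹ * h ∈ P) : IsConj g h := by
  classical
  -- work in `K = P ⟨g⟩ = P ⟨h⟩`
  set K : Subgroup G := P ⊔ Subgroup.zpowers g with hK
  have hPK : P ≤ K := le_sup_left
  have hgK : g ∈ K := (le_sup_right : _ ≤ K) (Subgroup.mem_zpowers g)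
  have hhK : h ∈ K := by
    have : h = g * (g⁻¹ * h) := by group
    rw [this]
    exact K.mul_mem hgK (hPK hgh)
  let P' : Subgroup K := P.subgroupOf K
  have hP'n : P'.Normal := inferInstance
  have hP' : IsPGroup p P' := by
    have e := Subgroup.subgroupOfEquivOfLe hPK
    exact hP.of_equiv e.symm
  let g' : K := ⟨g, hgK⟩
  let h' : K := ⟨h, hhK⟩
  -- complements
  have hcomp : ∀ y : K, ¬ p ∣ orderOf y → (∀ k : K, ∃ i : ℤ, k * (y ^ i)⁻¹ ∈ P') →
      Subgroup.IsComplement' P' (Subgroup.zpowers y) := by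
    intro y hy hcov
    apply Subgroup.isComplement'_of_disjoint_and_mul_eq_univ
    · rw [Subgroup.disjoint_def]
      intro x hx hxy
      obtain ⟨n, hn⟩ := (IsPGroup.iff_orderOf.1 hP') ⟨x, hx⟩
      rw [Subgroup.orderOf_mk] at hn
      have h1 : orderOf x ∣ orderOf y := by
        obtain ⟨i, rfl⟩ := hxy
        apply orderOf_dvd_of_pow_eq_one
        show (y ^ i) ^ orderOf y = 1
        rw [← zpow_natCast, ← zpow_mul, mul_comm, zpow_mul, zpow_natCast, pow_orderOf_eq_one,
          one_zpow]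
      have h2 : n = 0 := by
        by_contra h0
        apply hy
        refine Dvd.dvd.trans ?_ h1
        rw [hn]
        exact dvd_pow_self p h0
      rw [h2, pow_zero, orderOf_eq_one_iff] at hn
      exact hn
    · rw [Set.eq_univ_iff_forall]
      intro k
      obtain ⟨i, hi⟩ := hcov k
      exact ⟨k * (y ^ i)⁻¹, hi, y ^ i, ⟨i, rfl⟩, by group⟩
  have hgo : ¬ p ∣ orderOf g' := by rw [← Subgroup.orderOf_coe]; exact hg
  have hho : ¬ p ∣ orderOf h' := by rw [← Subgroup.orderOf_coe]; exact hh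
  have hcovg : ∀ k : K, ∃ i : ℤ, k * (g' ^ i)⁻¹ ∈ P' := by
    rintro ⟨k, hk⟩
    rw [hK, ← SetLike.mem_coe, Subgroup.normal_mul] at hk
    obtain ⟨x, hx, _, ⟨i, rfl⟩, rfl⟩ := hk
    refine ⟨i, ?_⟩
    show x * g ^ i * (g ^ i)⁻¹ ∈ P
    rw [mul_inv_cancel_right]
    exact hx
  have hquot : ∀ i : ℤ, ((g' ^ i : K) : K ⧸ P') = ((h' ^ i : K) : K ⧸ P') := by
    intro i
    rw [QuotientGroup.mk_zpow, QuotientGroup.mk_zpow]
    congr 1
    rw [QuotientGroup.eq]
    exact hgh
  have hcovh : ∀ k : K, ∃ i : ℤ, k * (h' ^ i)⁻¹ ∈ P' := by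
    intro k
    obtain ⟨i, hi⟩ := hcovg k
    refine ⟨i, ?_⟩
    rw [← QuotientGroup.eq_one_iff, QuotientGroup.mk_mul, QuotientGroup.mk_inv] at hi ⊢
    rw [← hquot]
    exact hi
  have hcg := hcomp g' hgo hcovg
  have hch := hcomp h' hho hcovh
  have hcop : (Nat.card P').Coprime P'.index := by
    rw [hcg.symm.index_eq_card]
    obtain ⟨n, hn⟩ := IsPGroup.iff_card.1 hP'
    rw [hn, Nat.card_zpowers]
    exact Nat.Coprime.pow_left n ((Nat.Prime.coprime_iff_not_dvd hp.out).2 hgo)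
  have hsol : Group.IsSolvable P' := by
    have := hP'.isNilpotent
    infer_instance
  obtain ⟨k, hk⟩ := Cfsg.Agent.Solvable.SchurZassenhausConj.conj_of_solvable P' hcop (Or.inl hsol)
    _ _ hcg hch
  -- `k g k⁻¹ = h`
  have hmem : k * g' * k⁻¹ ∈ Subgroup.zpowers h' := by
    rw [← hk]
    exact ⟨g', Subgroup.mem_zpowers g', rfl⟩
  have hcoset : ((k * g' * k⁻¹ : K) : K ⧸ P') = ((h' : K) : K ⧸ P') := by
    obtain ⟨i, hi⟩ := hcovg k
    have h1 : ((k : K) : K ⧸ P') = ((g' ^ i : K) : K ⧸ P') := by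
      rw [← QuotientGroup.eq_one_iff, QuotientGroup.mk_mul, QuotientGroup.mk_inv,
        mul_inv_eq_one] at hi
      exact hi
    have h2 := hquot 1
    rw [zpow_one, zpow_one] at h2
    rw [← h2, QuotientGroup.mk_mul, QuotientGroup.mk_mul, QuotientGroup.mk_inv, h1,
      QuotientGroup.mk_zpow]
    group
  have hfin : k * g' * k⁻¹ = h' := by
    have h1 : (k * g' * k⁻¹)⁻¹ * h' ∈ P' := QuotientGroup.eq.1 hcoset
    have h2 : (k * g' * k⁻¹)⁻¹ * h' ∈ Subgroup.zpowers h' :=
      Subgroup.mul_mem _ (Subgroup.inv_mem _ hmem) (Subgroup.mem_zpowers h')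
    have h3 := Subgroup.disjoint_def.1 hch.disjoint h1 h2
    exact inv_mul_eq_one.1 h3
  rw [isConj_iff]
  exact ⟨k, congrArg Subtype.val hfin⟩

/-- A normal `p`-subgroup does not change the number of regular classes. -/
theorem card_quotient_eq [Finite G] (P : Subgroup G) [P.Normal] (hP : IsPGroup p P) :
    Nat.card (PReg p (G ⧸ P)) = Nat.card (PReg p G) := by
  symm
  refine Nat.card_congr (Equiv.ofBijective (mapReg (QuotientGroup.mk' P)) ⟨?_,
    mapReg_surjective _ (QuotientGroup.mk'_surjective P)⟩)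
  rintro ⟨c, g, rfl, hg⟩ ⟨c', g', rfl, hg'⟩ h
  have h1 : IsConj ((QuotientGroup.mk' P) g) ((QuotientGroup.mk' P) g') :=
    ConjClasses.mk_eq_mk_iff_isConj.1 (congrArg Subtype.val h)
  obtain ⟨q, hq⟩ := isConj_iff.1 h1
  obtain ⟨t, rfl⟩ := QuotientGroup.mk'_surjective P q
  apply Subtype.ext
  show ConjClasses.mk g = ConjClasses.mk g'
  rw [ConjClasses.mk_eq_mk_iff_isConj]
  have h2 : IsConj g (t * g * t⁻¹) := isConj_iff.2 ⟨t, rfl⟩
  refine h2.trans (isConj_of_coset P hP ?_ hg' ?_)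
  · rwa [show t * g * t⁻¹ = MulAut.conj t g from rfl, MulEquiv.orderOf_eq]
  · apply QuotientGroup.eq.1
    rw [← map_inv, ← map_mul, ← map_mul] at hq
    exact hq

end

end Cfsg.Agent.H697.Pk
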