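import Cfsg.Agent.H697.PSolvB
import Cfsg.Agent.Lib.MinNormalNonabelian
import Cfsg.Agent.Lib.SubnormalJoin
import Cfsg.Prelude.Def_Blocks

/-!
# Groups with one class of `p`-elements: reduction to almost simple groups
-/

set_option autoImplicit false
set_option linter.style.haveILetI false

universe u

namespace Cfsg.Agent.H697.OneClass

open Subgroup
open Cfsg.Agent.H697.Pk
open Cfsg.Agent.Lib.MinNormalNonabelian Cfsg.Agent.Lib.MinNormal

variable {p : ℕ} [hp : Fact p.Prime] {G : Type*} [Group G] [Finite G]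

theorem isPSolvable_of_not_dvd (h : ¬ p ∣ Nat.card G) : Cfsg.IsPSolvable p G := by
  have hcop : (Nat.card (⊤ : Subgroup G)).Coprime p := by
    rw [Subgroup.card_top, Nat.coprime_comm]
    exact (Nat.Prime.coprime_iff_not_dvd hp.out).2 h
  apply Lib.PSolvable.IsPSolvable_of_quotient p (⊤ : Subgroup G) (Or.inr hcop)
  have : Subsingleton (G ⧸ (⊤ : Subgroup G)) := QuotientGroup.subsingleton_quotient_top
  have : Group.IsSolvable (G ⧸ (⊤ : Subgroup G)) := inferInstance
  exact Lib.PSolvable.IsPSolvable_of_solvable p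

/-- **Reduction to almost simple groups.** -/
theorem almost_simple (hns : ¬ Cfsg.IsPSolvable p G) (hcore : Cfsg.pPrimeCore p G = ⊥)
    (hconj : ∀ x y : G, x ≠ 1 → y ≠ 1 → (∃ k : ℕ, orderOf x = p ^ k) →
      (∃ k : ℕ, orderOf y = p ^ k) → IsConj x y) :
    ∃ T : Subgroup G, T.Normal ∧ IsSimpleGroup T ∧ (∀ z ∈ T, (∀ t ∈ T, Commute z t) → z = 1) ∧
      (∀ g : G, (∀ t ∈ T, Commute g t) → g = 1) ∧ ∀ x : G, (∃ k : ℕ, orderOf x = p ^ k) → x ∈ T := by
  classical
  have hp' : p.Prime := hp.out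
  have hdiv : p ∣ Nat.card G := by
    by_contra h
    exact hns (isPSolvable_of_not_dvd h)
  have : Nontrivial G := by
    rw [← Finite.one_lt_card_iff_nontrivial]
    exact lt_of_lt_of_le hp'.one_lt (Nat.le_of_dvd Nat.card_pos hdiv)
  have hcp : ∀ K : Subgroup G, K.Normal → K ≠ ⊥ → p ∣ Nat.card K := by
    intro K hK hK0
    by_contra h
    apply hK0
    rw [eq_bot_iff, ← hcore]
    apply Lib.Cores.le_pPrimeCore hK
    rw [Nat.coprime_comm]
    exact (Nat.Prime.coprime_iff_not_dvd hp').2 h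
  -- `O_p(G) = 1`
  have hpc : Cfsg.pCore p G = ⊥ := by
    by_contra h0
    obtain ⟨x, hx1⟩ := (Subgroup.ne_bot_iff_exists_ne_one).1 h0
    have hPG := Lib.Cores.pCore_isPGroup (G := G) p
    obtain ⟨P⟩ : Nonempty (Sylow p G) := inferInstance
    have hPn := Lib.Cores.pCore_normal (G := G) p
    have hle : (P : Subgroup G) ≤ Cfsg.pCore p G := by
      intro y hy
      by_cases hy1 : y = 1
      · rw [hy1]; exact one_mem _
      · obtain ⟨k, hk⟩ := (IsPGroup.iff_orderOf.1 hPG) x
        obtain ⟨l, hl⟩ := (IsPGroup.iff_orderOf.1 P.isPGroup') ⟨y, hy⟩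
        rw [← Subgroup.orderOf_coe] at hk hl
        obtain ⟨c, hc⟩ := isConj_iff.1 (hconj x y (fun h => hx1 (Subtype.ext h)) hy1 ⟨k, hk⟩ ⟨l, hl⟩)
        rw [← hc]
        exact hPn.conj_mem x x.2 c
    have heq : (P : Subgroup G) = Cfsg.pCore p G := le_antisymm hle (Lib.Cores.pCore_le_sylow P)
    apply hns
    have h1 : ¬ p ∣ Nat.card (G ⧸ Cfsg.pCore p G) := by
      rw [← Subgroup.index_eq_card, ← heq]
      exact P.not_dvd_index
    exact Lib.PSolvable.IsPSolvable_of_quotient p (Cfsg.pCore p G)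
      (Or.inl (IsPGroup.iff_card.1 hPG)) (isPSolvable_of_not_dvd h1)
  obtain ⟨N, hN, hN0, hmin⟩ := Lib.SubnormalJoin.exists_minimal_normal G
  have hna : ¬ ∀ x ∈ N, ∀ y ∈ N, Commute x y := by
    intro hab
    obtain ⟨r, hr, hrN, -⟩ := abelian_structure N hN0 hmin hab
    have : Fact r.Prime := ⟨hr⟩
    have h1 := hcp N hN hN0
    obtain ⟨m, hm⟩ := IsPGroup.iff_card.1 hrN
    rw [hm] at h1
    have h2 : p = r := (Nat.prime_dvd_prime_iff_eq hp' hr).1 (hp'.dvd_of_dvd_pow h1)
    subst h2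
    apply hN0
    rw [eq_bot_iff, ← hpc]
    exact Lib.Cores.le_pCore hN hrN
  obtain ⟨⟨T, hT⟩, hind, hsup, hsimple, hcent, htrans⟩ := nonabelian_structure N hmin hna
  have hcomm : ∀ {S R : Subgroup G}, S ∈ minSet N → R ∈ minSet N → S ≠ R → ∀ {x y : G}, x ∈ S →
      y ∈ R → Commute x y := by
    intro S R hS hR hne x y hx hy
    exact commute_of_mem hind (fun S hS => hS.2.2.1) (fun S hS => hS.1) hS hR hne hx hy
  have hdT : ∀ R ∈ minSet N, p ∣ Nat.card R := by
    intro R hR
    by_contra h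
    apply hR.2.1
    have h1 : (R.subgroupOf N).Normal := by
      rw [Subgroup.normal_subgroupOf_iff_le_normalizer hR.1]
      exact hR.2.2.1
    have h2 : (Nat.card (R.subgroupOf N)).Coprime p := by
      rw [Nat.card_congr (Subgroup.subgroupOfEquivOfLe hR.1).toEquiv, Nat.coprime_comm]
      exact (Nat.Prime.coprime_iff_not_dvd hp').2 h
    have h3 := Lib.Cores.le_pPrimeCore h1 h2
    have h4 : (R.subgroupOf N).map N.subtype ≤ (Cfsg.pPrimeCore p N).map N.subtype :=
      Subgroup.map_mono h3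
    rw [Subgroup.map_subgroupOf_eq_of_le hR.1, Lib.Cores.map_subtype_pPrimeCore p hN, hcore,
      inf_bot_eq] at h4
    exact le_bot_iff.1 h4
  -- an element of order `p`
  obtain ⟨⟨x, hxT⟩, hx⟩ := exists_prime_orderOf_dvd_card' (G := T) p (hdT T hT)
  rw [← Subgroup.orderOf_coe] at hx
  have hx' : orderOf x = p := hx
  have hx1 : x ≠ 1 := by
    rintro rfl
    rw [orderOf_one] at hx'
    exact hp'.one_lt.ne hx'
  have honly : ∀ S ∈ minSet N, S = T := by
    intro S hS
    by_contra hne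
    obtain ⟨g, hg⟩ := htrans T hT S hS
    have hyS : g * x * g⁻¹ ∈ S := by
      rw [hg]
      exact ⟨x, hxT, rfl⟩
    set y := g * x * g⁻¹ with hy
    have hy1 : y ≠ 1 := by
      intro h
      apply hx1
      rw [hy] at h
      exact conj_eq_one_iff.1 h
    have hyT : ∀ t ∈ T, Commute y t := fun t ht => hcomm hS hT hne hyS ht
    have hyp : y ^ p = 1 := by
      rw [hy, conj_pow, ← hx', pow_orderOf_eq_one]
      group
    have hxy : Commute x y := (hyT x hxT).symm
    have hxyp : (x * y) ^ p = 1 := by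
      rw [hxy.mul_pow, hyp, ← hx', pow_orderOf_eq_one, one_mul]
    have hxy1 : x * y ≠ 1 := by
      intro h
      have h1 : x = y⁻¹ := mul_eq_one_iff_eq_inv.1 h
      apply hx1
      apply hcent T hT x hxT
      intro t ht
      rw [h1]
      exact (hyT t ht).inv_left
    obtain ⟨h, hh⟩ := isConj_iff.1 (hconj x (x * y) hx1 hxy1 ⟨1, by rw [pow_one]; exact hx'⟩
      ⟨1, by rw [pow_one]; exact orderOf_eq_prime hxyp hxy1⟩)
    have hR := map_conj_mem_minSet hT h
    have hmem : x * y ∈ T.map (MulAut.conj h).toMonoidHom := by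
      rw [← hh]
      exact ⟨x, hxT, rfl⟩
    by_cases hRT : T.map (MulAut.conj h).toMonoidHom = T
    · rw [hRT] at hmem
      have h1 : y ∈ T := by
        have := T.mul_mem (T.inv_mem hxT) hmem
        rwa [inv_mul_cancel_left] at this
      exact hy1 (hcent T hT y h1 hyT)
    · apply hx1
      apply hcent T hT x hxT
      intro t ht
      have h1 : Commute (x * y) t := hcomm hR hT hRT hmem ht
      have h2 : Commute (x * y * y⁻¹) t := h1.mul_left (hyT t ht).inv_left
      rwa [mul_inv_cancel_right] at h2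
  have hNT : N = T := by
    rw [← hsup]
    apply le_antisymm
    · apply sSup_le
      intro S hS
      rw [honly S hS]
    · exact le_sSup hT
  rw [hNT] at hN
  have hpT : ∀ z : G, (∃ k : ℕ, orderOf z = p ^ k) → z ∈ T := by
    intro z hz
    by_cases hz1 : z = 1
    · rw [hz1]; exact T.one_mem
    · obtain ⟨c, hc⟩ := isConj_iff.1 (hconj x z hx1 hz1 ⟨1, by rw [pow_one]; exact hx'⟩ hz)
      rw [← hc]
      exact hN.conj_mem x hxT c
  refine ⟨T, hN, hsimple T hT, hcent T hT, ?_, hpT⟩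
  -- the centraliser
  let C : Subgroup G := Subgroup.centralizer (T : Set G)
  have hCn : C.Normal := inferInstance
  have hC : C = ⊥ := by
    by_contra hC0
    obtain ⟨⟨z, hzC⟩, hz⟩ := exists_prime_orderOf_dvd_card' (G := C) p (hcp C hCn hC0)
    rw [← Subgroup.orderOf_coe] at hz
    have hz' : orderOf z = p := hz
    have hzT := hpT z ⟨1, by rw [pow_one]; exact hz'⟩
    have h1 : z = 1 := hcent T hT z hzT (fun t ht => ((Subgroup.mem_centralizer_iff.1 hzC) t ht).symm)
    rw [h1, orderOf_one] at hz'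
    exact hp'.one_lt.ne hz'
  intro g hg
  have h1 : g ∈ C := Subgroup.mem_centralizer_iff.2 (fun t ht => ((hg t ht).symm : Commute t g))
  rw [hC] at h1
  exact h1

/-- Cyclic Sylow subgroups have order `p`. -/
theorem card_sylow (hdiv : p ∣ Nat.card G)
    (hconj : ∀ x y : G, x ≠ 1 → y ≠ 1 → (∃ k : ℕ, orderOf x = p ^ k) →
      (∃ k : ℕ, orderOf y = p ^ k) → IsConj x y) (P : Sylow p G)
    (hP : IsCyclic (P : Subgroup G)) : Nat.card (P : Subgroup G) = p := by
  have hp' : p.Prime := hp.out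
  obtain ⟨⟨x, hxP⟩, hx⟩ := IsCyclic.exists_ofOrder_eq_natCard (α := (P : Subgroup G))
  rw [← Subgroup.orderOf_coe] at hx
  have hx2 : orderOf x = Nat.card (P : Subgroup G) := hx
  have h1 := P.dvd_card_of_dvd_card hdiv
  obtain ⟨⟨z, hzP⟩, hz⟩ := exists_prime_orderOf_dvd_card' (G := (P : Subgroup G)) p h1
  rw [← Subgroup.orderOf_coe] at hz
  have hz2 : orderOf z = p := hz
  have hx1 : x ≠ 1 := by
    rintro rfl
    rw [orderOf_one] at hx2
    rw [← hx2] at h1
    exact hp'.one_lt.ne' (Nat.dvd_one.1 h1)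
  have hz1 : z ≠ 1 := by
    rintro rfl
    rw [orderOf_one] at hz2
    exact hp'.one_lt.ne hz2
  obtain ⟨k, hk⟩ := (IsPGroup.iff_card).1 P.isPGroup'
  obtain ⟨c, hc⟩ := isConj_iff.1 (hconj z x hz1 hx1 ⟨1, by rw [pow_one]; exact hz2⟩
    ⟨k, by rw [hx2, hk]⟩)
  rw [← hx2, ← hz2, ← hc]
  exact (MulEquiv.orderOf_eq (MulAut.conj c) z)

/-- The statement for non-cyclic Sylow subgroups (S4883). -/
def RowNC (p : ℕ) : Prop :=
  ∀ (S : Type u) [Group S] [Finite S] [IsSimpleGroup S], ¬ IsMulCommutative S →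
    ∀ (P : Sylow p S), ¬ IsCyclic (P : Subgroup S) → ∀ (G : Subgroup (MulAut S)),
    (MulAut.conj : S →* MulAut S).range ≤ G → p ≤ Nat.card (PReg p G)

/-- The statement for Sylow subgroups of order `p`: a character of degree divisible by `p`. -/
def RowIM (p : ℕ) : Prop :=
  ∀ (G : Type u) [Group G] [Finite G] (P : Sylow p G), ¬ (P : Subgroup G).Normal →
    ∃ χ : Cfsg.IrrCharacter G, p ∣ Cfsg.charDegree (χ : G → ℂ)

/-- Block theory for Sylow subgroups of order `p`. -/
def RowCyc (p : ℕ) : Prop :=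
  ∀ (G : Type u) [Group G] [Finite G] (P : Sylow p G), Nat.card (P : Subgroup G) = p →
    (∀ x y : G, x ≠ 1 → y ≠ 1 → (∃ k : ℕ, orderOf x = p ^ k) →
      (∃ k : ℕ, orderOf y = p ^ k) → IsConj x y) →
    ∀ χ : Cfsg.IrrCharacter G, p ∣ Cfsg.charDegree (χ : G → ℂ) → p ≤ Nat.card (PReg p G)

/-- The case of a trivial `p'`-core. -/
theorem core_case {G : Type u} [Group G] [Finite G] (h1 : RowNC.{u} p) (h2 : RowIM.{u} p)
    (h3 : RowCyc.{u} p) (hns : ¬ Cfsg.IsPSolvable p G) (hcore : Cfsg.pPrimeCore p G = ⊥)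
    (hconj : ∀ x y : G, x ≠ 1 → y ≠ 1 → (∃ k : ℕ, orderOf x = p ^ k) →
      (∃ k : ℕ, orderOf y = p ^ k) → IsConj x y) : p ≤ Nat.card (PReg p G) := by
  classical
  have hp' : p.Prime := hp.out
  obtain ⟨T, hTn, hTs, hTc, hTC, hTp⟩ := almost_simple hns hcore hconj
  have hdiv : p ∣ Nat.card G := by
    by_contra h
    exact hns (isPSolvable_of_not_dvd h)
  have hTna : ¬ IsMulCommutative T := by
    intro h
    have : Nontrivial T := hTs.toNontrivial
    obtain ⟨z, hz⟩ := exists_ne (1 : T)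
    apply hz
    apply Subtype.ext
    apply hTc z z.2
    intro t ht
    exact congrArg Subtype.val (h.is_comm.comm z ⟨t, ht⟩)
  by_cases hcyc : ∀ P : Sylow p T, IsCyclic (P : Subgroup T)
  · -- `|P| = p`
    obtain ⟨P⟩ : Nonempty (Sylow p G) := inferInstance
    have hPT : (P : Subgroup G) ≤ T := by
      intro x hx
      apply hTp
      obtain ⟨k, hk⟩ := (IsPGroup.iff_orderOf.1 P.isPGroup') ⟨x, hx⟩
      rw [← Subgroup.orderOf_coe] at hk
      exact ⟨k, hk⟩
    have hPc : IsCyclic (P : Subgroup G) := by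
      have h4 := hcyc (P.subtype hPT)
      have h5 : ((P.subtype hPT : Sylow p T) : Subgroup T) = (P : Subgroup G).subgroupOf T := rfl
      rw [h5] at h4
      exact isCyclic_of_surjective (Subgroup.subgroupOfEquivOfLe hPT).toMonoidHom
        (Subgroup.subgroupOfEquivOfLe hPT).surjective
    have hPcard := card_sylow hdiv hconj P hPc
    have hPn : ¬ (P : Subgroup G).Normal := by
      intro hn
      have h4 : ((P : Subgroup G).subgroupOf T).Normal := inferInstance
      rcases hTs.eq_bot_or_eq_top_of_normal _ h4 with h5 | h5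
      · rw [Subgroup.subgroupOf_eq_bot] at h5
        have h6 : (P : Subgroup G) = ⊥ := by
          rw [eq_bot_iff]
          intro x hx
          exact Subgroup.disjoint_def.1 h5 hx (hPT hx)
        rw [h6, Subgroup.card_bot] at hPcard
        exact hp'.one_lt.ne hPcard
      · rw [Subgroup.subgroupOf_eq_top] at h5
        apply hTna
        refine ⟨⟨fun a b => Subtype.ext ?_⟩⟩
        have h6 := congrArg Subtype.val ((IsCyclic.commGroup (α := (P : Subgroup G))).mul_comm
          ⟨a, h5 a.2⟩ ⟨b, h5 b.2⟩)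
        exact h6
    obtain ⟨χ, hχ⟩ := h2 G P hPn
    exact h3 G P hPcard hconj χ hχ
  · push Not at hcyc
    obtain ⟨P, hP⟩ := hcyc
    let φ : G →* MulAut T := MulAut.conjNormal
    have hφ : Function.Injective φ := by
      rw [← MonoidHom.ker_eq_bot_iff, eq_bot_iff]
      intro g hg
      rw [Subgroup.mem_bot]
      apply hTC
      intro t ht
      have h4 : φ g ⟨t, ht⟩ = ⟨t, ht⟩ := by
        rw [MonoidHom.mem_ker] at hg
        rw [hg]
        rfl
      have h5 : g * t * g⁻¹ = t := by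
        have := congrArg Subtype.val h4
        rwa [MulAut.conjNormal_apply] at this
      exact mul_inv_eq_iff_eq_mul.1 h5
    have hle : (MulAut.conj : T →* MulAut T).range ≤ φ.range := by
      rintro _ ⟨t, rfl⟩
      refine ⟨t, ?_⟩
      apply MulEquiv.ext
      intro s
      apply Subtype.ext
      rw [MulAut.conjNormal_apply]
      rfl
    rw [card_congr (MonoidHom.ofInjective hφ)]
    exact h1 T hTna P hP φ.range hle

/-- **S4877 from its two inputs.** -/
theorem main {G : Type u} [Group G] [Finite G] (h1 : RowNC.{u} p) (h2 : RowIM.{u} p)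
    (h3 : RowCyc.{u} p) (hdiv : p ∣ Nat.card G)
    (hconj : ∀ x y : G, x ≠ 1 → y ≠ 1 → (∃ k : ℕ, orderOf x = p ^ k) →
      (∃ k : ℕ, orderOf y = p ^ k) → IsConj x y) :
    p ≤ Nat.card (PReg p G) ∨
      (Nat.card (PReg p G) = p - 1 ∧ Nonempty (G ≃* Cfsg.affineGroup (ZMod p))) ∨
      (p = 11 ∧ Nat.card (PReg p G) = 9 ∧ (Nat.card G = 121 * 120 ∧
        ∃ H : Subgroup G, Cfsg.IsFrobeniusComplement H ∧ Nonempty (H ≃* SL25.S))) := by
  classical
  by_cases hs : Cfsg.IsPSolvable p G
  · exact PSolvB.main p hs hdiv hconj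
  left
  have hf : Function.Surjective (QuotientGroup.mk' (Cfsg.pPrimeCore p G)) :=
    QuotientGroup.mk'_surjective _
  refine le_trans ?_ (card_le_of_surjective (QuotientGroup.mk' (Cfsg.pPrimeCore p G)) hf)
  apply core_case h1 h2 h3
  · intro h
    exact hs (Lib.PSolvable.IsPSolvable_of_quotient p (Cfsg.pPrimeCore p G)
      (Or.inr (Lib.Cores.pPrimeCore_coprime p)) h)
  · exact Lib.Cores.pPrimeCore_quotient_pPrimeCore p
  · exact PSolvA.hconj_map _ hf hconj

end Cfsg.Agent.H697.OneClass
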