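import Cfsg.Agent.H697.PSolvA

/-!
# `p`-solvable groups with one class of nontrivial `p`-elements: the exceptional case
-/

set_option autoImplicit false

namespace Cfsg.Agent.H697.PSolvB

open Pk

/-- A nontrivial `11'`-group below the exceptional group contributes at least two classes. -/
theorem exceptional {G : Type*} [Group G] [Finite G] (N : Subgroup G) [N.Normal] (hN1 : N ≠ ⊥)
    (h11 : ¬ 11 ∣ Nat.card N) (V H : Subgroup (G ⧸ N)) (hVn : V.Normal)
    (hVc : ∀ x ∈ V, ∀ y ∈ V, x * y = y * x) (hVp : ∀ x ∈ V, x ^ 11 = 1) (hV : Nat.card V = 121)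
    (hH : Nat.card H = 120) (hVH : Subgroup.IsComplement' V H) (e : H ≃* SL25.S)
    (htr : ∀ v ∈ V, ∀ w ∈ V, v ≠ 1 → w ≠ 1 → ∃ h ∈ H, h * v * h⁻¹ = w)
    (hκ : Nat.card (PReg 11 (G ⧸ N)) = 9) : 11 ≤ Nat.card (PReg 11 G) := by
  classical
  have : Fact (Nat.Prime 11) := ⟨by norm_num⟩
  have hp11 : Nat.Prime 11 := by norm_num
  by_contra hcon
  push Not at hcon
  obtain ⟨-, h2⟩ := card_quotient_add_one_le (p := 11) N h11 hN1
  rw [hκ] at h2
  obtain ⟨hconjN, -⟩ := h2 (by omega)
  obtain ⟨r, hr, hNr, hNc⟩ := LemmaY.elementary (N := N) hN1 hconjN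
  have : Fact r.Prime := ⟨hr⟩
  have hcardQ : Nat.card (G ⧸ N) = 121 * 120 := by rw [← hVH.card_mul_card, hV, hH]
  have hcardG : Nat.card G = 121 * 120 * Nat.card N := by
    rw [Subgroup.card_eq_card_quotient_mul_card_subgroup N, hcardQ]
  let f := QuotientGroup.mk' N
  have hfker : ∀ x, f x = 1 ↔ x ∈ N := fun x => by
    rw [← MonoidHom.mem_ker, QuotientGroup.ker_mk']
  have hfs : Function.Surjective f := QuotientGroup.mk'_surjective N
  let P : Sylow 11 G := default
  have hPcard : Nat.card P = 121 := by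
    rw [Sylow.card_eq_multiplicity, hcardG, Nat.factorization_mul (by norm_num) Nat.card_pos.ne']
    rw [Finsupp.add_apply, Nat.factorization_eq_zero_of_not_dvd h11, add_zero,
      Nat.factorization_mul (by norm_num) (by norm_num), Finsupp.add_apply,
      Nat.factorization_eq_zero_of_not_dvd (n := 120) (by norm_num), add_zero,
      show (121 : ℕ) = 11 ^ 2 by norm_num, hp11.factorization_pow]
    simp
  have hPN : ∀ x ∈ (P : Subgroup G), x ∈ N → x = 1 := by
    intro x hx hxN
    have h1 : orderOf x ∣ Nat.card P := Subgroup.orderOf_dvd_natCard _ hx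
    have h3 : orderOf x ∣ Nat.card N := Subgroup.orderOf_dvd_natCard _ hxN
    have h4 : Nat.Coprime (Nat.card P) (Nat.card N) := by
      rw [hPcard, show (121 : ℕ) = 11 ^ 2 by norm_num]
      exact Nat.Coprime.pow_left 2 ((Nat.Prime.coprime_iff_not_dvd hp11).2 h11)
    exact orderOf_eq_one_iff.1 (Nat.dvd_one.1 (h4 ▸ Nat.dvd_gcd h1 h3))
  -- the image of `P` is `V`
  have hPV : ∀ x ∈ (P : Subgroup G), f x ∈ V := by
    intro x hx
    have h1 : (QuotientGroup.mk' V) (f x) = 1 := by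
      have h3 : orderOf ((QuotientGroup.mk' V) (f x)) ∣ Nat.card P :=
        (orderOf_map_dvd _ _).trans ((orderOf_map_dvd _ _).trans (Subgroup.orderOf_dvd_natCard _ hx))
      have h4 : orderOf ((QuotientGroup.mk' V) (f x)) ∣ 120 := by
        have h5 : Nat.card ((G ⧸ N) ⧸ V) = 120 := by
          rw [← hH]
          exact Nat.card_congr hVH.symm.QuotientMulEquiv.toEquiv
        rw [← h5]
        exact orderOf_dvd_natCard _
      rw [hPcard] at h3
      have h6 : Nat.Coprime 121 120 := by norm_num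
      exact orderOf_eq_one_iff.1 (Nat.dvd_one.1 (h6 ▸ Nat.dvd_gcd h3 h4))
    rwa [← MonoidHom.mem_ker, QuotientGroup.ker_mk'] at h1
  have hPmap : (P : Subgroup G).map f = V := by
    apply Subgroup.eq_of_le_of_card_ge
    · rintro _ ⟨x, hx, rfl⟩
      exact hPV x hx
    · rw [hV, ← hPcard]
      apply le_of_eq
      symm
      refine Nat.card_congr (Equiv.ofBijective (fun x : P => (⟨f x, ⟨x, x.2, rfl⟩⟩ :
        (P : Subgroup G).map f)) ⟨?_, ?_⟩) |>.symm
      · intro a b hab
        have h1 : f a = f b := congrArg Subtype.val hab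
        have h3 : f ((a : G)⁻¹ * b) = 1 := by rw [map_mul, map_inv, h1, inv_mul_cancel]
        have h4 := hPN _ ((P : Subgroup G).mul_mem ((P : Subgroup G).inv_mem a.2) b.2) ((hfker _).1 h3)
        exact Subtype.ext (inv_mul_eq_one.1 h4)
      · rintro ⟨_, x, hx, rfl⟩
        exact ⟨⟨x, hx⟩, rfl⟩
  have hP11 : ∀ x ∈ (P : Subgroup G), x ^ 11 = 1 := by
    intro x hx
    apply hPN _ ((P : Subgroup G).pow_mem hx 11)
    rw [← hfker, map_pow]
    exact hVp _ (hPV x hx)
  have hncyc : ¬ IsCyclic (P : Subgroup G) := by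
    intro h
    obtain ⟨g, hg⟩ := h.exists_generator
    have h1 : orderOf g = Nat.card P := orderOf_eq_card_of_forall_mem_zpowers hg
    have h3 : orderOf g ∣ 11 := orderOf_dvd_of_pow_eq_one (Subtype.ext (hP11 g g.2))
    rw [h1, hPcard] at h3
    revert h3; norm_num
  let K := V.comap f
  have hK : K.Normal := inferInstance
  have hKc : ∀ a ∈ K, ∀ b ∈ K, ∀ v ∈ N, a * b * v * (a * b)⁻¹ = b * a * v * (b * a)⁻¹ := by
    intro a ha b hb v hv
    have h1 : (b * a)⁻¹ * (a * b) ∈ N := by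
      rw [← hfker, map_mul, map_inv, map_mul, map_mul, hVc _ ha _ hb, inv_mul_cancel]
    have h3 := hNc _ h1 v hv
    have h4 : a * b * v * (a * b)⁻¹ = (b * a) * (((b * a)⁻¹ * (a * b)) * v) * (a * b)⁻¹ := by group
    rw [h4, h3]
    group
  by_cases hPC : ∀ a ∈ (P : Subgroup G), (∀ v ∈ N, a * v = v * a) → a = 1
  · exact hncyc (CycAct.grp_cyclic (r := r) N inferInstance hNc hNr hN1
      (fun v hv w hw hv1 hw1 => hconjN v hv w hw hv1 hw1) K hK hKc P
      (fun x hx => hPV x hx) hPC)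
  push Not at hPC
  obtain ⟨a, haP, haC, ha1⟩ := hPC
  -- then `P` centralises `N`
  have hcentP : ∀ x ∈ (P : Subgroup G), ∀ v ∈ N, x * v = v * x := by
    intro x hx
    by_cases hx1 : x = 1
    · intro v _
      rw [hx1, one_mul, mul_one]
    have hfx : f x ≠ 1 := fun h => hx1 (hPN x hx ((hfker x).1 h))
    have hfa : f a ≠ 1 := fun h => ha1 (hPN a haP ((hfker a).1 h))
    obtain ⟨h, -, hh⟩ := htr (f a) (hPV a haP) (f x) (hPV x hx) hfa hfx
    obtain ⟨g, rfl⟩ := hfs h
    have h1 : f (x⁻¹ * (g * a * g⁻¹)) = 1 := by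
      rw [map_mul, map_inv, map_mul, map_mul, map_inv, hh, inv_mul_cancel]
    have h3 : x⁻¹ * (g * a * g⁻¹) ∈ N := (hfker _).1 h1
    have hga : ∀ v ∈ N, (g * a * g⁻¹) * v = v * (g * a * g⁻¹) := by
      intro v hv
      have h4 : g⁻¹ * v * g ∈ N := by
        have := (inferInstance : N.Normal).conj_mem v hv g⁻¹
        simpa using this
      have h5 := haC _ h4
      have h6 : (g * a * g⁻¹) * v = g * (a * (g⁻¹ * v * g)) * g⁻¹ := by group
      rw [h6, h5]
      group
    intro v hv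
    have h7 : x = (g * a * g⁻¹) * (x⁻¹ * (g * a * g⁻¹))⁻¹ := by group
    have h8 := hNc _ (N.inv_mem h3) v hv
    rw [h7, mul_assoc, h8, ← mul_assoc, hga v hv, mul_assoc]
  -- hence `P` is normal
  have hPchar : ∀ z ∈ K, z ^ 11 = 1 → z ∈ (P : Subgroup G) := by
    intro z hz hz11
    have h1 : f z ∈ (P : Subgroup G).map f := by rw [hPmap]; exact hz
    obtain ⟨x, hx, hxz⟩ := h1
    have h3 : x⁻¹ * z ∈ N := by
      rw [← hfker, map_mul, map_inv, hxz, inv_mul_cancel]
    have hcomm : Commute x (x⁻¹ * z) := hcentP x hx _ h3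
    have h4 : (x⁻¹ * z) ^ 11 = 1 := by
      have h5 : (x * (x⁻¹ * z)) ^ 11 = 1 := by
        rw [mul_inv_cancel_left]; exact hz11
      rw [hcomm.mul_pow, hP11 x hx, one_mul] at h5
      exact h5
    have h5 : orderOf (x⁻¹ * z) ∣ 11 := orderOf_dvd_of_pow_eq_one h4
    have h6 : orderOf (x⁻¹ * z) ∣ Nat.card N := Subgroup.orderOf_dvd_natCard _ h3
    have h7 : orderOf (x⁻¹ * z) = 1 := by
      rcases (Nat.dvd_prime hp11).1 h5 with h | h
      · exact h
      · exact absurd (h ▸ h6) h11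
    have h8 : x⁻¹ * z = 1 := orderOf_eq_one_iff.1 h7
    rw [← inv_mul_eq_one.1 h8]
    exact hx
  have hPn : (P : Subgroup G).Normal := by
    refine ⟨fun x hx g => hPchar _ (hK.conj_mem x (hPV x hx) g) ?_⟩
    rw [conj_pow, hP11 x hx]
    group
  -- pass to `G / P`
  let π := QuotientGroup.mk' (P : Subgroup G)
  have hπs : Function.Surjective π := QuotientGroup.mk'_surjective _
  have hπker : ∀ x, π x = 1 ↔ x ∈ (P : Subgroup G) := fun x => by
    rw [← MonoidHom.mem_ker, QuotientGroup.ker_mk']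
  have hN' : (N.map π).Normal := (inferInstance : N.Normal).map π hπs
  have hN'1 : N.map π ≠ ⊥ := by
    intro h
    apply hN1
    rw [eq_bot_iff]
    intro x hx
    have h1 : π x ∈ N.map π := ⟨x, hx, rfl⟩
    rw [h] at h1
    exact hPN x ((hπker x).1 h1) hx
  have h11' : ¬ 11 ∣ Nat.card (N.map π) := fun h => h11 (h.trans (Subgroup.card_map_dvd N π))
  let φ : G →* SL25.S := (e.toMonoidHom.comp hVH.symm.QuotientMulEquiv.toMonoidHom).comp
    ((QuotientGroup.mk' V).comp f)
  have hφs : Function.Surjective φ :=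
    (e.surjective.comp hVH.symm.QuotientMulEquiv.surjective).comp
      ((QuotientGroup.mk'_surjective V).comp hfs)
  have hφker : φ.ker = K := by
    ext x
    rw [MonoidHom.mem_ker]
    show e (hVH.symm.QuotientMulEquiv ((QuotientGroup.mk' V) (f x))) = 1 ↔ f x ∈ V
    rw [map_eq_one_iff _ e.injective, map_eq_one_iff _ hVH.symm.QuotientMulEquiv.injective,
      ← MonoidHom.mem_ker, QuotientGroup.ker_mk']
  let ψ : G →* (G ⧸ (P : Subgroup G)) ⧸ (N.map π) := (QuotientGroup.mk' (N.map π)).comp π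
  have hψs : Function.Surjective ψ := (QuotientGroup.mk'_surjective _).comp hπs
  have hψker : ψ.ker = K := by
    ext x
    rw [MonoidHom.mem_ker]
    show (QuotientGroup.mk' (N.map π)) (π x) = 1 ↔ f x ∈ V
    rw [← MonoidHom.mem_ker, QuotientGroup.ker_mk']
    constructor
    · rintro ⟨n, hn, hnx⟩
      have h1 : n⁻¹ * x ∈ (P : Subgroup G) := by
        rw [← hπker, map_mul, map_inv, hnx, inv_mul_cancel]
      have h3 : f x = f (n⁻¹ * x) := by
        rw [map_mul, map_inv, (hfker n).2 hn, inv_one, one_mul]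
      rw [h3]
      exact hPV _ h1
    · intro hx
      have h1 : f x ∈ (P : Subgroup G).map f := by rw [hPmap]; exact hx
      obtain ⟨y, hy, hyx⟩ := h1
      refine ⟨x * y⁻¹, ?_, ?_⟩
      · rw [SetLike.mem_coe, ← hfker, map_mul, map_inv, hyx, mul_inv_cancel]
      · rw [map_mul, map_inv, (hπker y).2 hy, inv_one, mul_one]
  have e' : (G ⧸ (P : Subgroup G)) ⧸ (N.map π) ≃* SL25.S :=
    ((QuotientGroup.quotientKerEquivOfSurjective ψ hψs).symm.trans
      (QuotientGroup.quotientMulEquivOfEq (hψker.trans hφker.symm))).trans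
      (QuotientGroup.quotientKerEquivOfSurjective φ hφs)
  have hmain := LemmaY.main (N.map π) hN'1 e' h11'
  have hcardP : ¬ 11 ∣ Nat.card (G ⧸ (P : Subgroup G)) := by
    rw [Subgroup.card_eq_card_quotient_mul_card_subgroup (N.map π), Nat.card_congr e'.toEquiv,
      SL25.natCard_S]
    intro h
    rcases (Nat.Prime.dvd_mul hp11).1 h with h | h
    · revert h; decide
    · exact h11' h
  rw [← card_eq_of_not_dvd hcardP, card_quotient_eq (p := 11) (P : Subgroup G) P.isPGroup'] at hmain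
  omega

/-- The assembled theorem. -/
theorem main {G : Type*} [Group G] [Finite G] (p : ℕ) [Fact p.Prime]
    (hsolv : Cfsg.IsPSolvable p G) (hdiv : p ∣ Nat.card G)
    (hconj : ∀ x y : G, x ≠ 1 → y ≠ 1 → (∃ k : ℕ, orderOf x = p ^ k) →
      (∃ k : ℕ, orderOf y = p ^ k) → IsConj x y) :
    p ≤ Nat.card (PReg p G) ∨
      (Nat.card (PReg p G) = p - 1 ∧ Nonempty (G ≃* Cfsg.affineGroup (ZMod p))) ∨
      (p = 11 ∧ Nat.card (PReg p G) = 9 ∧ (Nat.card G = 121 * 120 ∧
        ∃ H : Subgroup G, Cfsg.IsFrobeniusComplement H ∧ Nonempty (H ≃* SL25.S))) := by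
  classical
  have hp' : p.Prime := Fact.out
  by_cases hN : Cfsg.pPrimeCore p G = ⊥
  · rcases PSolvA.core_case hsolv hN hdiv hconj with h | h | ⟨h1, h2, V, H, hVn, hVc, hVp, hV, hH,
      hVH, he, htr⟩
    · exact Or.inl h
    · exact Or.inr (Or.inl h)
    · right; right
      refine ⟨h1, h2, ?_, H, ?_, he⟩
      · rw [← hVH.card_mul_card, hV, hH]
      · exact PSolvA.isFrobeniusComplement V H hVn hVH (by omega) (by omega) htr
  · left
    have hNn : (Cfsg.pPrimeCore p G).Normal := Lib.Cores.pPrimeCore_normal p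
    have hNp : ¬ p ∣ Nat.card (Cfsg.pPrimeCore p G) := by
      have := Lib.Cores.pPrimeCore_coprime (G := G) p
      exact (Nat.Prime.coprime_iff_not_dvd hp').1 this.symm
    have hsolQ := Lib.PSolvable.IsPSolvable_of_surjective p hsolv
      (QuotientGroup.mk' (Cfsg.pPrimeCore p G)) (QuotientGroup.mk'_surjective _)
    have hcoreQ := Lib.Cores.pPrimeCore_quotient_pPrimeCore (G := G) p
    have hdivQ : p ∣ Nat.card (G ⧸ Cfsg.pPrimeCore p G) := by
      have h1 := Subgroup.card_eq_card_quotient_mul_card_subgroup (Cfsg.pPrimeCore p G)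
      rw [h1] at hdiv
      exact ((Nat.Prime.dvd_mul hp').1 hdiv).resolve_right hNp
    have hconjQ := PSolvA.hconj_map (p := p) (QuotientGroup.mk' (Cfsg.pPrimeCore p G))
      (QuotientGroup.mk'_surjective _) hconj
    have hle := (card_quotient_add_one_le (p := p) (Cfsg.pPrimeCore p G) hNp hN).1
    rcases PSolvA.core_case hsolQ hcoreQ hdivQ hconjQ with h | ⟨h, -⟩ | ⟨h1, h2, V, H, hVn, hVc,
      hVp, hV, hH, hVH, ⟨e⟩, htr⟩
    · omega
    · have := hp'.one_lt
      omega
    · subst h1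
      exact exceptional (Cfsg.pPrimeCore 11 G) hN hNp V H hVn hVc hVp hV hH hVH e htr h2

end Cfsg.Agent.H697.PSolvB
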