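import Mathlib

/-!
# Elementary lower bounds for the number of conjugacy classes
-/

set_option autoImplicit false

namespace Cfsg.Agent.H697.ClassCount

section

variable {G : Type*} [Group G]

theorem index_centralizer (g : G) :
    (Subgroup.centralizer ({g} : Set G)).index = (ConjClasses.mk g).carrier.ncard := by
  rw [Subgroup.centralizer_eq_comap_stabilizer, ← ConjAct.orbit_eq_carrier_conjClasses,
    ← MulAction.index_stabilizer]
  exact Subgroup.index_comap_of_surjective _ (MulEquiv.surjective _)

variable [Finite G]

/-- A commutative subgroup of index `m` with `a` elements: at least `a / m` classes. -/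
theorem card_le_mul_index (A : Subgroup G) (hA : ∀ a ∈ A, ∀ b ∈ A, a * b = b * a) :
    Nat.card A ≤ A.index * Nat.card (ConjClasses G) := by
  classical
  have := Fintype.ofFinite G
  have := Fintype.ofFinite A
  have := Fintype.ofFinite (ConjClasses G)
  let f : A → ConjClasses G := fun a => ConjClasses.mk (a : G)
  have h1 : ∀ c ∈ (Finset.univ : Finset (ConjClasses G)),
      (Finset.univ.filter fun a : A => f a = c).card ≤ A.index := by
    intro c _
    rcases (Finset.univ.filter fun a : A => f a = c).eq_empty_or_nonempty with h0 | ⟨a, ha⟩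
    · rw [h0, Finset.card_empty]; exact Nat.zero_le _
    · have hfa : f a = c := (Finset.mem_filter.1 ha).2
      have h2 : (Finset.univ.filter fun b : A => f b = c).card ≤ (ConjClasses.mk (a : G)).carrier.ncard := by
        rw [← Finset.card_image_of_injective _ (Subtype.val_injective (p := fun x => x ∈ A)),
          ← Set.ncard_coe_finset]
        apply Set.ncard_le_ncard
        · intro x hx
          simp only [Finset.coe_image, Set.mem_image, Finset.mem_coe, Finset.mem_filter,
            Finset.mem_univ, true_and] at hx
          obtain ⟨b, hb, rfl⟩ := hx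
          rw [ConjClasses.mem_carrier_iff_mk_eq]
          exact hb.trans hfa.symm
        · exact Set.toFinite _
      refine h2.trans ?_
      rw [← index_centralizer]
      apply Nat.le_of_dvd (Nat.pos_of_ne_zero Subgroup.index_ne_zero_of_finite)
      apply Subgroup.index_dvd_of_le
      intro b hb
      rw [Subgroup.mem_centralizer_singleton_iff]
      exact hA b hb a a.2
  have h2 := Finset.card_le_mul_card_image_of_maps_to
    (s := (Finset.univ : Finset A)) (t := (Finset.univ : Finset (ConjClasses G)))
    (f := f) (fun a _ => Finset.mem_univ _) A.index h1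
  rw [Finset.card_univ, Finset.card_univ, ← Nat.card_eq_fintype_card, ← Nat.card_eq_fintype_card] at h2
  exact h2

/-- Elements of different orders are in different classes. -/
theorem card_orders_le (S : Finset ℕ) (h : ∀ d ∈ S, ∃ g : G, orderOf g = d) :
    S.card ≤ Nat.card (ConjClasses G) := by
  classical
  choose! g hg using h
  have hinj : Function.Injective fun d : S => ConjClasses.mk (g d) := by
    rintro ⟨d, hd⟩ ⟨e, he⟩ hde
    have h1 : IsConj (g d) (g e) := ConjClasses.mk_eq_mk_iff_isConj.1 hde
    obtain ⟨c, hc⟩ := isConj_iff.1 h1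
    have h2 : orderOf (g e) = orderOf (g d) := by
      rw [← hc]
      exact MulEquiv.orderOf_eq (MulAut.conj c) (g d)
    apply Subtype.ext
    show d = e
    rw [← hg d hd, ← hg e he, h2]
  have h1 := Nat.card_le_card_of_injective _ hinj
  rwa [Nat.card_eq_fintype_card, Fintype.card_coe] at h1

theorem card_conjClasses_congr {G H : Type*} [Group G] [Group H] (e : G ≃* H) :
    Nat.card (ConjClasses G) = Nat.card (ConjClasses H) := by
  refine Nat.card_congr
    { toFun := ConjClasses.map e.toMonoidHom
      invFun := ConjClasses.map e.symm.toMonoidHom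
      left_inv := ?_
      right_inv := ?_ }
  · intro c
    obtain ⟨a, rfl⟩ := ConjClasses.mk_surjective c
    exact congrArg ConjClasses.mk (e.symm_apply_apply a)
  · intro c
    obtain ⟨a, rfl⟩ := ConjClasses.mk_surjective c
    exact congrArg ConjClasses.mk (e.apply_symm_apply a)

/-- A group with two classes has order two. -/
theorem card_le_two (h : Nat.card (ConjClasses G) ≤ 2) : Nat.card G ≤ 2 := by
  classical
  by_contra hG
  push Not at hG
  have : Nontrivial G := Finite.one_lt_card_iff_nontrivial.1 (by omega)
  obtain ⟨g, hg⟩ := exists_ne (1 : G)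
  have hne : ConjClasses.mk g ≠ ConjClasses.mk (1 : G) := by
    intro hc
    have h1 : IsConj g 1 := ConjClasses.mk_eq_mk_iff_isConj.1 hc
    exact hg (isConj_one_left.1 h1)
  have hall : ∀ x : G, x ≠ 1 → ConjClasses.mk x = ConjClasses.mk g := by
    intro x hx
    by_contra hxg
    have h1 : ConjClasses.mk x ≠ ConjClasses.mk (1 : G) := by
      intro hc
      have h1 : IsConj x 1 := ConjClasses.mk_eq_mk_iff_isConj.1 hc
      exact hx (isConj_one_left.1 h1)
    have h2 : ({ConjClasses.mk (1 : G), ConjClasses.mk g, ConjClasses.mk x} : Finset (ConjClasses G)).card = 3 :=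
      Finset.card_eq_three.2 ⟨_, _, _, hne.symm, h1.symm, Ne.symm hxg, rfl⟩
    have h3 : ({ConjClasses.mk (1 : G), ConjClasses.mk g, ConjClasses.mk x} : Finset (ConjClasses G)).card ≤
        Nat.card (ConjClasses G) := by
      have := Fintype.ofFinite (ConjClasses G)
      rw [Nat.card_eq_fintype_card]
      exact Finset.card_le_univ _
    omega
  have hcar : (ConjClasses.mk g).carrier = {x : G | x ≠ 1} := by
    ext x
    rw [ConjClasses.mem_carrier_iff_mk_eq]
    constructor
    · rintro hx rfl
      exact hne hx.symm
    · intro hx
      exact hall x hx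
  have h1 := index_centralizer g
  rw [hcar] at h1
  have h2 : {x : G | x ≠ 1} = ({1} : Set G)ᶜ := by
    ext x
    simp
  rw [h2, Set.ncard_compl, Set.ncard_singleton] at h1
  have h3 : (Subgroup.centralizer ({g} : Set G)).index ∣ Nat.card G := Subgroup.index_dvd_card _
  rw [h1] at h3
  have h4 : Nat.card G - 1 ∣ 1 := by
    have := Nat.dvd_sub h3 (dvd_refl (Nat.card G - 1))
    rwa [Nat.sub_sub_self (by omega)] at this
  have := Nat.le_of_dvd (by norm_num) h4
  omega

end

end Cfsg.Agent.H697.ClassCount
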