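import Cfsg.Agent.H697.ThreeA

/-!
# `p`-solvable groups with three classes of `p`-elements: assembly
-/

set_option autoImplicit false
set_option linter.style.haveILetI false

universe u

namespace Cfsg.Agent.H697.Three

open Pk Module
open scoped Pointwise

variable {p : ℕ} [hp : Fact p.Prime]

/-- The linear part of an affine map. -/
theorem affine_lin {σ : Equiv.Perm (ZMod p)} (h : σ ∈ Cfsg.affineGroup (ZMod p)) (x y : ZMod p) :
    σ x - σ y = (σ 1 - σ 0) * (x - y) := by
  obtain ⟨a, b, hab⟩ := h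
  rw [hab, hab, hab, hab]
  ring

/-- Subgroups of the affine group of order `p (p - 1) / 2`. -/
theorem eq_of_embed {G : Type*} [Group G] [Finite G] (hp2 : p ≠ 2)
    (hcard : 2 * Nat.card G = p * (p - 1)) (f : G →* Cfsg.affineGroup (ZMod p))
    (hf : Function.Injective f) : 2 * Nat.card (PReg p G) = p - 1 := by
  classical
  have hp' : p.Prime := hp.out
  have hp3 : 3 ≤ p := by
    have := hp'.two_le
    omega
  let χ : G →* ZMod p :=
    { toFun := fun g => ((f g : Equiv.Perm (ZMod p)) 1 - (f g : Equiv.Perm (ZMod p)) 0)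
      map_one' := by
        have h1 : f 1 = 1 := f.map_one
        rw [h1]
        show (1 : ZMod p) - 0 = 1
        ring
      map_mul' := fun a b => by
        have h1 : f (a * b) = f a * f b := f.map_mul a b
        rw [h1]
        show (f a : Equiv.Perm (ZMod p)) ((f b : Equiv.Perm (ZMod p)) 1) -
          (f a : Equiv.Perm (ZMod p)) ((f b : Equiv.Perm (ZMod p)) 0) = _
        exact affine_lin (f a).2 _ _ }
  have hχ : ∀ g, χ g = (f g : Equiv.Perm (ZMod p)) 1 - (f g : Equiv.Perm (ZMod p)) 0 := fun _ => rfl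
  let ψ : G →* (ZMod p)ˣ := χ.toHomUnits
  have hψ : ∀ g, g ∈ ψ.ker ↔ χ g = 1 := by
    intro g
    rw [MonoidHom.mem_ker, Units.ext_iff]
    rfl
  set V := ψ.ker with hV
  have hVx : ∀ g ∈ V, ∀ x, (f g : Equiv.Perm (ZMod p)) x = x + (f g : Equiv.Perm (ZMod p)) 0 := by
    intro g hg x
    have h1 := affine_lin (f g).2 x 0
    rw [← hχ, (hψ g).1 hg, one_mul, sub_zero] at h1
    exact sub_eq_iff_eq_add.1 h1
  let τ : V →* Multiplicative (ZMod p) :=
    { toFun := fun g => Multiplicative.ofAdd ((f g : Equiv.Perm (ZMod p)) 0)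
      map_one' := by
        rw [Subgroup.coe_one, map_one]
        rfl
      map_mul' := fun a b => by
        rw [Subgroup.coe_mul, map_mul, ← ofAdd_add]
        congr 1
        show (f a : Equiv.Perm (ZMod p)) ((f b : Equiv.Perm (ZMod p)) 0) = _
        rw [hVx a a.2, add_comm] }
  have hτ : Function.Injective τ := by
    intro a b hab
    apply Subtype.ext
    apply hf
    apply Subtype.ext
    apply Equiv.ext
    intro x
    have h1 : (f a : Equiv.Perm (ZMod p)) 0 = (f b : Equiv.Perm (ZMod p)) 0 := hab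
    rw [hVx a a.2, hVx b b.2, h1]
  have hVp : Nat.card V ∣ p := by
    have h1 := Subgroup.card_dvd_of_injective τ hτ
    rwa [Nat.card_eq_fintype_card (α := Multiplicative (ZMod p)), Fintype.card_multiplicative,
      ZMod.card] at h1
  have hQ : Nat.card (G ⧸ V) ∣ p - 1 := by
    rw [Nat.card_congr (QuotientGroup.quotientKerEquivRange ψ).toEquiv]
    have h1 := Subgroup.card_subgroup_dvd_card ψ.range
    rwa [Nat.card_eq_fintype_card (α := (ZMod p)ˣ), ZMod.card_units] at h1
  have hmul : Nat.card G = Nat.card (G ⧸ V) * Nat.card V :=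
    Subgroup.card_eq_card_quotient_mul_card_subgroup V
  have hQle : Nat.card (G ⧸ V) ≤ p - 1 := Nat.le_of_dvd (by omega) hQ
  have hVcard : Nat.card V = p := by
    rcases (Nat.dvd_prime hp').1 hVp with h | h
    · exfalso
      rw [h, mul_one] at hmul
      have h1 : p * (p - 1) ≤ 2 * (p - 1) := by rw [← hcard]; omega
      have h2 := Nat.le_of_mul_le_mul_right h1 (by omega)
      omega
    · exact h
  have hQcard : 2 * Nat.card (G ⧸ V) = p - 1 := by
    rw [hmul, hVcard] at hcard
    have h1 : p * (2 * Nat.card (G ⧸ V)) = p * (p - 1) := by rw [← hcard]; ring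
    exact Nat.eq_of_mul_eq_mul_left hp'.pos h1
  have hVpg : IsPGroup p V := IsPGroup.of_card (n := 1) (by rw [hVcard, pow_one])
  have hndvd : ¬ p ∣ Nat.card (G ⧸ V) := by
    intro h
    have h1 := Nat.le_of_dvd Nat.card_pos h
    omega
  rw [← card_quotient_eq V hVpg, card_eq_of_not_dvd hndvd, ← hQcard]
  congr 1
  let e := QuotientGroup.quotientKerEquivRange ψ
  have hcomm : ∀ a b : G ⧸ V, a * b = b * a := by
    intro a b
    apply e.injective
    rw [map_mul, map_mul]
    exact Subtype.ext (mul_comm _ _)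
  refine Nat.card_congr (Equiv.ofBijective (ConjClasses.mk : G ⧸ V → ConjClasses (G ⧸ V))
    ⟨?_, ConjClasses.mk_surjective⟩).symm
  intro a b hab
  obtain ⟨c, hc⟩ := isConj_iff.1 (ConjClasses.mk_eq_mk_iff_isConj.1 hab)
  rw [hcomm, inv_mul_cancel_left] at hc
  exact hc

/-- The conclusion in the equality case. -/
def EqCase (p : ℕ) [Fact p.Prime] (G : Type u) [Group G] : Prop :=
  2 * Nat.card (PReg p G) = p - 1 ∧ p ≠ 2 ∧ 2 * Nat.card G = p * (p - 1) ∧
    ∃ f : G →* Cfsg.affineGroup (ZMod p), Function.Injective f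

/-- Two orbits of a complement: the group action version. -/
theorem act_two {D E : Type u} [Group D] [Finite D] [AddCommGroup E] [Finite E] [Nontrivial E]
    [DistribMulAction D E] [FaithfulSMul D E] (hE : ∀ e : E, p • e = 0) (hlin : LinStmt.{u} p)
    {v₁ v₂ : E} (hv₁ : v₁ ≠ 0) (hv₂ : v₂ ≠ 0) (hne : ∀ d : D, d • v₁ ≠ v₂)
    (htr : ∀ w : E, w ≠ 0 → (∃ d : D, d • v₁ = w) ∨ (∃ d : D, d • v₂ = w))
    (hirr : ∀ W : AddSubgroup E, (∀ (d : D), ∀ w ∈ W, d • w ∈ W) → W = ⊥ ∨ W = ⊤)
    (hpD : ¬ p ∣ Nat.card D) (hcard : Nat.card E ≠ p) :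
    p ≤ 2 * Nat.card (ConjClasses D) := by
  classical
  obtain ⟨_inst⟩ : Nonempty (Module (ZMod p) E) := ⟨AddCommGroup.zmodModule hE⟩
  let lin : D → (E ≃ₗ[ZMod p] E) := fun d =>
    { toFun := fun x => d • x
      invFun := fun x => d⁻¹ • x
      map_add' := fun x y => smul_add d x y
      map_smul' := fun c x => by
        have h := ((DistribSMul.toAddMonoidHom E d).toZModLinearMap p).map_smul c x
        exact h
      left_inv := fun x => inv_smul_smul d x
      right_inv := fun x => smul_inv_smul d x }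
  have hlin' : ∀ d x, lin d x = d • x := fun _ _ => rfl
  let φ : D →* (E ≃ₗ[ZMod p] E) :=
    { toFun := lin
      map_one' := by
        apply LinearEquiv.ext
        intro x
        rw [hlin', one_smul]
        rfl
      map_mul' := fun a b => by
        apply LinearEquiv.ext
        intro x
        rw [LinearEquiv.mul_apply, hlin', hlin', hlin', mul_smul] }
  have hφ : ∀ d x, φ d x = d • x := fun _ _ => rfl
  have hinj : Function.Injective φ := by
    intro a b hab
    apply FaithfulSMul.eq_of_smul_eq_smul (α := E)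
    intro x
    rw [← hφ, ← hφ, hab]
  let e : D ≃* φ.range := MonoidHom.ofInjective hinj
  have hcardR : Nat.card φ.range = Nat.card D := (Nat.card_congr e.toEquiv).symm
  rw [ClassCount.card_conjClasses_congr e]
  apply hlin E φ.range (by rw [hcardR]; exact hpD)
  · refine ⟨v₁, v₂, hv₁, hv₂, ?_, ?_⟩
    · rintro _ ⟨d, rfl⟩
      exact hne d
    · intro w hw
      rcases htr w hw with ⟨d, hd⟩ | ⟨d, hd⟩
      · exact Or.inl ⟨φ d, ⟨d, rfl⟩, hd⟩
      · exact Or.inr ⟨φ d, ⟨d, rfl⟩, hd⟩
  · intro W hW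
    rcases hirr W.toAddSubgroup (fun d w hw => hW (φ d) ⟨d, rfl⟩ w hw) with h | h
    · left
      rw [eq_bot_iff]
      intro w hw
      have h1 : w ∈ W.toAddSubgroup := hw
      rw [h] at h1
      exact h1
    · right
      rw [eq_top_iff]
      intro w _
      have h1 : w ∈ W.toAddSubgroup := by rw [h]; trivial
      exact h1
  · by_contra hcon
    have hE' := Hering.card_eq (p := p) (V := E)
    have : Module.Finite (ZMod p) E := Module.Finite.of_finite
    have hpos : 0 < finrank (ZMod p) E := Module.finrank_pos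
    have h1 : finrank (ZMod p) E = 1 := by omega
    rw [h1, pow_one] at hE'
    exact hcard hE'

/-- The case of a trivial `p'`-core. -/
theorem core {G : Type u} [Group G] [Finite G] (hlin : LinStmt.{u} p)
    (hsolv : Cfsg.IsPSolvable p G) (hcore : Cfsg.pPrimeCore p G = ⊥) (hT : TwoCl p G) :
    p - 1 < 2 * Nat.card (PReg p G) ∨ EqCase p G := by
  classical
  have hp' : p.Prime := hp.out
  have hcent := Cfsg.Agent.Lib.PSolvable.centralizer_pCore_le_of_pSolvable p hsolv hcore
  obtain ⟨x₁, x₂, hx₁, hx₂, hk₁, hk₂, hne, hall⟩ := id hT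
  set V := Cfsg.pCore p G with hV
  have hVn : V.Normal := by rw [hV]; exact Cfsg.Agent.Lib.Cores.pCore_normal p
  have hVp : IsPGroup p V := by rw [hV]; exact Cfsg.Agent.Lib.Cores.pCore_isPGroup p
  have hV1 : V ≠ ⊥ := by
    intro h
    rw [h] at hcent
    have h1 : x₁ ∈ Subgroup.centralizer ((⊥ : Subgroup G) : Set G) := by
      rw [Subgroup.mem_centralizer_iff]
      intro x hx
      have hx' : x = 1 := hx
      rw [hx', one_mul, mul_one]
    exact hx₁ (hcent h1)
  have hpe : ∀ x ∈ V, ∃ k : ℕ, orderOf x = p ^ k := by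
    intro x hx
    obtain ⟨k, hk⟩ := (IsPGroup.iff_orderOf.1 hVp) ⟨x, hx⟩
    rw [Subgroup.orderOf_mk] at hk
    exact ⟨k, hk⟩
  obtain ⟨x₀, hx₀, hx₀1⟩ : ∃ x : G, x ∈ V ∧ x ≠ 1 := by
    by_contra hcon
    push Not at hcon
    exact hV1 ((Subgroup.eq_bot_iff_forall _).2 hcon)
  by_cases hout : ∃ b : G, b ∉ V ∧ ∃ k : ℕ, orderOf b = p ^ k
  · obtain ⟨b, hb, hkb⟩ := hout
    exact Or.inl (strict_of_normal hsolv hT V hVn hx₀ hx₀1 (hpe x₀ hx₀) hb hkb)
  push Not at hout
  have hmem : ∀ b : G, (∃ k : ℕ, orderOf b = p ^ k) → b ∈ V := by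
    intro b hb
    by_contra hbV
    obtain ⟨k, hk⟩ := hb
    exact hout b hbV k hk
  -- proper normal subgroups
  by_cases hmin : ∃ U : Subgroup G, U.Normal ∧ U ≤ V ∧ U ≠ ⊥ ∧ U ≠ V
  · obtain ⟨U, hU, hUV, hU1, hU2⟩ := hmin
    obtain ⟨a, ha, ha1⟩ : ∃ x : G, x ∈ U ∧ x ≠ 1 := by
      by_contra hcon
      push Not at hcon
      exact hU1 ((Subgroup.eq_bot_iff_forall _).2 hcon)
    obtain ⟨b, hb, hbU⟩ := SetLike.exists_of_lt (lt_of_le_of_ne hUV hU2)
    exact Or.inl (strict_of_normal hsolv hT U hU ha ha1 (hpe a (hUV ha)) hbU (hpe b hb))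
  push Not at hmin
  have hmin' : ∀ U : Subgroup G, U.Normal → U ≤ V → U = ⊥ ∨ U = V := by
    intro U h1 h2
    by_cases h3 : U = ⊥
    · exact Or.inl h3
    · exact Or.inr (hmin U h1 h2 h3)
  -- `V` is commutative
  have hVc : ∀ x ∈ V, ∀ y ∈ V, x * y = y * x := by
    have hZn : ((Subgroup.center V).map V.subtype).Normal := by
      refine ⟨?_⟩
      rintro _ ⟨z, hz, rfl⟩ g
      have hz' : ∀ y : V, y * z = z * y := Subgroup.mem_center_iff.1 hz
      refine ⟨⟨g * z * g⁻¹, hVn.conj_mem z z.2 g⟩, ?_, rfl⟩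
      rw [SetLike.mem_coe, Subgroup.mem_center_iff]
      intro y
      apply Subtype.ext
      have h1 := congrArg Subtype.val (hz' ⟨g⁻¹ * y * g⁻¹⁻¹, hVn.conj_mem y y.2 g⁻¹⟩)
      have h2 : g⁻¹ * (y : G) * g⁻¹⁻¹ * z = z * (g⁻¹ * (y : G) * g⁻¹⁻¹) := h1
      show (y : G) * (g * z * g⁻¹) = g * z * g⁻¹ * y
      have h3 : (y : G) * (g * z * g⁻¹) = g * (g⁻¹ * (y : G) * g⁻¹⁻¹ * z) * g⁻¹ := by group
      rw [h3, h2]
      group
    have hZ1 : (Subgroup.center V).map V.subtype ≠ ⊥ := by
      intro h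
      have hnt : Nontrivial V := (Subgroup.nontrivial_iff_ne_bot V).2 hV1
      have h1 := hVp.bot_lt_center
      rw [Subgroup.map_eq_bot_iff, Subgroup.ker_subtype] at h
      exact absurd (h1.trans_le h) (lt_irrefl _)
    have hZV := (hmin' _ hZn (Subgroup.map_subtype_le _)).resolve_left hZ1
    intro x hx y hy
    have hx' : x ∈ (Subgroup.center V).map V.subtype := by rw [hZV]; exact hx
    obtain ⟨z, hz, rfl⟩ := hx'
    have h1 := Subgroup.mem_center_iff.1 hz ⟨y, hy⟩
    exact (congrArg Subtype.val h1).symm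
  -- `V` has exponent `p`
  have hVe : ∀ x ∈ V, x ^ p = 1 := by
    let Ω : Subgroup G :=
      { carrier := {x | x ∈ V ∧ x ^ p = 1}
        one_mem' := ⟨V.one_mem, one_pow _⟩
        mul_mem' := fun {a b} ha hb => ⟨V.mul_mem ha.1 hb.1, by
          rw [(show Commute a b from hVc a ha.1 b hb.1).mul_pow, ha.2, hb.2, one_mul]⟩
        inv_mem' := fun {a} ha => ⟨V.inv_mem ha.1, by rw [inv_pow, ha.2, inv_one]⟩ }
    have hΩn : Ω.Normal := by
      refine ⟨fun x hx g => ⟨hVn.conj_mem x hx.1 g, ?_⟩⟩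
      rw [conj_pow, hx.2]
      group
    have hΩ1 : Ω ≠ ⊥ := by
      obtain ⟨k, hk⟩ := hpe x₀ hx₀
      have hk0 : k ≠ 0 := by
        rintro rfl
        rw [pow_zero, orderOf_eq_one_iff] at hk
        exact hx₀1 hk
      obtain ⟨j, rfl⟩ := Nat.exists_eq_succ_of_ne_zero hk0
      intro h
      have h1 : x₀ ^ (p ^ j) ∈ Ω := by
        refine ⟨V.pow_mem hx₀ _, ?_⟩
        rw [← pow_mul, ← pow_succ, ← hk, pow_orderOf_eq_one]
      rw [h, Subgroup.mem_bot] at h1
      have h2 := orderOf_dvd_of_pow_eq_one h1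
      rw [hk] at h2
      have h3 := Nat.le_of_dvd (pow_pos hp'.pos _) h2
      have h4 : p ^ j < p ^ (j + 1) := Nat.pow_lt_pow_right hp'.one_lt (Nat.lt_succ_self j)
      have h5 : p ^ j.succ = p ^ (j + 1) := rfl
      omega
    have hΩV := (hmin' Ω hΩn (fun x hx => hx.1)).resolve_left hΩ1
    intro x hx
    rw [← hΩV] at hx
    exact hx.2
  -- the complement
  obtain ⟨S⟩ : Nonempty (Sylow p G) := inferInstance
  have hSV : (S : Subgroup G) ≤ V := by
    intro y hy
    apply hmem
    obtain ⟨k, hk⟩ := (IsPGroup.iff_orderOf.1 S.isPGroup') ⟨y, hy⟩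
    rw [Subgroup.orderOf_mk] at hk
    exact ⟨k, hk⟩
  have hVS : V = (S : Subgroup G) := S.is_maximal' hVp hSV
  have hidx : ¬ p ∣ V.index := by
    rw [hVS]
    exact S.not_dvd_index
  have hcop : (Nat.card V).Coprime V.index := by
    obtain ⟨n, hn⟩ := IsPGroup.iff_card.1 hVp
    rw [hn]
    exact Nat.Coprime.pow_left n ((Nat.Prime.coprime_iff_not_dvd hp').2 hidx)
  obtain ⟨H, hH⟩ := Subgroup.exists_right_complement'_of_coprime hcop
  have hHc : Nat.card H = V.index := hH.symm.index_eq_card.symm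
  have hpH : ¬ p ∣ Nat.card H := by rw [hHc]; exact hidx
  have hcentV : ∀ g : G, (∀ v ∈ V, g * v = v * g) → g ∈ V := by
    intro g hg
    apply hcent
    rw [Subgroup.mem_centralizer_iff]
    intro v hv
    exact (hg v hv).symm
  have hfaith : ∀ h ∈ H, (∀ v ∈ V, h * v = v * h) → h = 1 := by
    intro h hh hc
    exact Subgroup.disjoint_def.1 hH.disjoint (hcentV h hc) hh
  -- conjugacy in `V` is realised by `H`
  have hconjH : ∀ v ∈ V, ∀ w : G, IsConj v w → ∃ h ∈ H, h * v * h⁻¹ = w := by
    intro v hv w hvw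
    obtain ⟨g, hg⟩ := isConj_iff.1 hvw
    have hg' : g ∈ (V : Set G) * (H : Set G) := by
      rw [Subgroup.IsComplement.mul_eq hH]; trivial
    obtain ⟨x, hx, h, hh, rfl⟩ := hg'
    refine ⟨h, hh, ?_⟩
    have h1 : h * v * h⁻¹ ∈ V := hVn.conj_mem v hv h
    have h2 := hVc x hx _ h1
    have hg2 : x * h * v * (x * h)⁻¹ = w := hg
    rw [← hg2]
    have h3 : x * h * v * (x * h)⁻¹ = x * (h * v * h⁻¹) * x⁻¹ := by group
    rw [h3, h2, mul_inv_cancel_right]
  have hκ : Nat.card (PReg p G) = Nat.card (ConjClasses H) := by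
    rw [← card_quotient_eq V hVp, card_congr hH.symm.QuotientMulEquiv, card_eq_of_not_dvd hpH]
  have hx₁V := hmem x₁ hk₁
  have hx₂V := hmem x₂ hk₂
  by_cases hcard : Nat.card V = p
  · -- dimension one
    right
    have hreg : ∀ v ∈ V, v ≠ 1 → ∀ h ∈ H, h * v * h⁻¹ = v → h = 1 := by
      intro v hv hv1 h hh hhv
      apply hfaith h hh
      have hvz : Subgroup.zpowers v = V := by
        apply Subgroup.eq_of_le_of_card_ge (by rw [Subgroup.zpowers_le]; exact hv)
        rw [hcard, Nat.card_zpowers, orderOf_eq_prime (hVe v hv) hv1]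
      intro w hw
      rw [← hvz] at hw
      obtain ⟨i, rfl⟩ := hw
      have h1 : h * v = v * h := by
        have := congrArg (fun z => z * h) hhv
        simpa [mul_assoc] using this
      exact ((show Commute h v from h1).zpow_right i).eq
    have hHcomm : ∀ a ∈ H, ∀ b ∈ H, a * b = b * a := by
      -- automorphisms of a cyclic group commute
      intro a ha b hb
      have hvz : Subgroup.zpowers x₁ = V := by
        apply Subgroup.eq_of_le_of_card_ge (by rw [Subgroup.zpowers_le]; exact hx₁V)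
        rw [hcard, Nat.card_zpowers, orderOf_eq_prime (hVe x₁ hx₁V) hx₁]
      obtain ⟨i, hi⟩ : ∃ i : ℤ, x₁ ^ i = a * x₁ * a⁻¹ := by
        have := hVn.conj_mem x₁ hx₁V a
        rw [← hvz] at this
        exact this
      obtain ⟨j, hj⟩ : ∃ j : ℤ, x₁ ^ j = b * x₁ * b⁻¹ := by
        have := hVn.conj_mem x₁ hx₁V b
        rw [← hvz] at this
        exact this
      have h1 : a * b * x₁ * (a * b)⁻¹ = x₁ ^ (i * j) := by
        have : a * b * x₁ * (a * b)⁻¹ = a * (b * x₁ * b⁻¹) * a⁻¹ := by group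
        rw [this, ← hj, ← conj_zpow, ← hi, ← zpow_mul]
      have h2 : b * a * x₁ * (b * a)⁻¹ = x₁ ^ (i * j) := by
        have : b * a * x₁ * (b * a)⁻¹ = b * (a * x₁ * a⁻¹) * b⁻¹ := by group
        rw [this, ← hi, ← conj_zpow, ← hj, ← zpow_mul, mul_comm]
      have h3 : ((b * a)⁻¹ * (a * b)) * x₁ * ((b * a)⁻¹ * (a * b))⁻¹ = x₁ := by
        have : ((b * a)⁻¹ * (a * b)) * x₁ * ((b * a)⁻¹ * (a * b))⁻¹ =
          (b * a)⁻¹ * (a * b * x₁ * (a * b)⁻¹) * (b * a) := by group
        rw [this, h1, ← h2]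
        group
      have h4 := hreg x₁ hx₁V hx₁ _ (H.mul_mem (H.inv_mem (H.mul_mem hb ha)) (H.mul_mem ha hb)) h3
      exact (inv_mul_eq_one.1 h4).symm
    -- counting
    have hcount : 2 * Nat.card H = p - 1 := by
      let F : H ⊕ H → {w : V // w ≠ 1} := fun s => s.elim
        (fun h : H => ⟨⟨h * x₁ * (h : G)⁻¹, hVn.conj_mem x₁ hx₁V h⟩, fun e => hx₁ (by
          have e' : (h : G) * x₁ * (h : G)⁻¹ = 1 := congrArg Subtype.val e
          have : x₁ = (h : G)⁻¹ * ((h : G) * x₁ * (h : G)⁻¹) * h := by group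
          rw [this, e']; group)⟩)
        (fun h : H => ⟨⟨h * x₂ * (h : G)⁻¹, hVn.conj_mem x₂ hx₂V h⟩, fun e => hx₂ (by
          have e' : (h : G) * x₂ * (h : G)⁻¹ = 1 := congrArg Subtype.val e
          have : x₂ = (h : G)⁻¹ * ((h : G) * x₂ * (h : G)⁻¹) * h := by group
          rw [this, e']; group)⟩)
      have hinjx : ∀ x ∈ V, x ≠ 1 → ∀ a b : H, (a : G) * x * (a : G)⁻¹ = b * x * (b : G)⁻¹ → a = b := by
        intro x hx hx1 a b hab
        have h1 : ((b : G)⁻¹ * a) * x * ((b : G)⁻¹ * a)⁻¹ = x := by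
          have : ((b : G)⁻¹ * a) * x * ((b : G)⁻¹ * a)⁻¹ = (b : G)⁻¹ * ((a : G) * x * (a : G)⁻¹) * b := by
            group
          rw [this, hab]; group
        have h2 := hreg x hx hx1 _ (H.mul_mem (H.inv_mem b.2) a.2) h1
        exact Subtype.ext (inv_mul_eq_one.1 h2).symm
      have hF : Function.Bijective F := by
        constructor
        · rintro (a | a) (b | b) hab
          · have h1 : (a : G) * x₁ * (a : G)⁻¹ = b * x₁ * (b : G)⁻¹ :=
              congrArg (fun z : {w : V // w ≠ 1} => ((z : V) : G)) hab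
            rw [hinjx x₁ hx₁V hx₁ a b h1]
          · exfalso
            have h1 : (a : G) * x₁ * (a : G)⁻¹ = b * x₂ * (b : G)⁻¹ :=
              congrArg (fun z : {w : V // w ≠ 1} => ((z : V) : G)) hab
            apply hne
            have h2 : IsConj x₁ ((a : G) * x₁ * (a : G)⁻¹) := isConj_iff.2 ⟨a, rfl⟩
            have h3 : IsConj x₂ ((b : G) * x₂ * (b : G)⁻¹) := isConj_iff.2 ⟨b, rfl⟩
            rw [h1] at h2
            exact h2.trans h3.symm
          · exfalso
            have h1 : (a : G) * x₂ * (a : G)⁻¹ = b * x₁ * (b : G)⁻¹ :=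
              congrArg (fun z : {w : V // w ≠ 1} => ((z : V) : G)) hab
            apply hne
            have h2 : IsConj x₂ ((a : G) * x₂ * (a : G)⁻¹) := isConj_iff.2 ⟨a, rfl⟩
            have h3 : IsConj x₁ ((b : G) * x₁ * (b : G)⁻¹) := isConj_iff.2 ⟨b, rfl⟩
            rw [h1] at h2
            exact h3.trans h2.symm
          · have h1 : (a : G) * x₂ * (a : G)⁻¹ = b * x₂ * (b : G)⁻¹ :=
              congrArg (fun z : {w : V // w ≠ 1} => ((z : V) : G)) hab
            rw [hinjx x₂ hx₂V hx₂ a b h1]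
        · rintro ⟨⟨w, hw⟩, hw1⟩
          have hw1' : w ≠ 1 := fun e => hw1 (Subtype.ext e)
          rcases hall w hw1' (hpe w hw) with h | h
          · obtain ⟨c, hc, hcw⟩ := hconjH x₁ hx₁V w h
            exact ⟨Sum.inl ⟨c, hc⟩, Subtype.ext (Subtype.ext hcw)⟩
          · obtain ⟨c, hc, hcw⟩ := hconjH x₂ hx₂V w h
            exact ⟨Sum.inr ⟨c, hc⟩, Subtype.ext (Subtype.ext hcw)⟩
      have h1 := Nat.card_congr (Equiv.ofBijective F hF)
      rw [Nat.card_sum] at h1
      have h2 : Nat.card {w : V // w ≠ 1} = ({1} : Set V)ᶜ.ncard := by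
        rw [← Nat.card_coe_set_eq]
        rfl
      rw [h2, Set.ncard_compl, Set.ncard_singleton, hcard] at h1
      omega
    refine ⟨?_, ?_, ?_, affine_embed V H hVn hcard hH hcentV⟩
    · rw [hκ, ← hcount]
      congr 1
      refine Nat.card_congr (Equiv.ofBijective (ConjClasses.mk : H → ConjClasses H)
        ⟨?_, ConjClasses.mk_surjective⟩).symm
      intro a b hab
      obtain ⟨c, hc⟩ := isConj_iff.1 (ConjClasses.mk_eq_mk_iff_isConj.1 hab)
      rw [show c * a = a * c from Subtype.ext (hHcomm c c.2 a a.2), mul_inv_cancel_right] at hc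
      exact hc
    · rintro rfl
      omega
    · rw [← hH.card_mul_card, hcard, ← hcount]
      ring
  · -- higher dimension
    left
    letI : CommGroup V :=
      { (inferInstance : Group V) with
        mul_comm := fun a b => Subtype.ext (hVc a a.2 b b.2) }
    have hnt : Nontrivial V := (Subgroup.nontrivial_iff_ne_bot V).2 hV1
    have : Nontrivial (Additive V) := hnt
    let c : H → V → V := fun h v => ⟨h * v * (h : G)⁻¹, hVn.conj_mem v v.2 h⟩
    letI : DistribMulAction H (Additive V) :=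
      { smul := fun h v => Additive.ofMul (c h (Additive.toMul v))
        one_smul := fun v => by
          apply Additive.toMul.injective
          apply Subtype.ext
          show ((1 : H) : G) * ((Additive.toMul v : V) : G) * ((1 : H) : G)⁻¹ = _
          simp
        mul_smul := fun a b v => by
          apply Additive.toMul.injective
          apply Subtype.ext
          show ((a * b : H) : G) * ((Additive.toMul v : V) : G) * ((a * b : H) : G)⁻¹ =
            (a : G) * ((b : G) * ((Additive.toMul v : V) : G) * (b : G)⁻¹) * (a : G)⁻¹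
          rw [Subgroup.coe_mul]
          group
        smul_zero := fun a => by
          apply Additive.toMul.injective
          apply Subtype.ext
          show (a : G) * ((1 : V) : G) * (a : G)⁻¹ = ((1 : V) : G)
          simp
        smul_add := fun a v w => by
          apply Additive.toMul.injective
          apply Subtype.ext
          show (a : G) * (((Additive.toMul v : V) : G) * ((Additive.toMul w : V) : G)) * (a : G)⁻¹ =
            ((a : G) * ((Additive.toMul v : V) : G) * (a : G)⁻¹) *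
              ((a : G) * ((Additive.toMul w : V) : G) * (a : G)⁻¹)
          group }
    have hF : FaithfulSMul H (Additive V) := by
      refine ⟨fun {a b} hab => ?_⟩
      have h1 : ∀ v ∈ V, (a : G) * v * (a : G)⁻¹ = (b : G) * v * (b : G)⁻¹ := by
        intro v hv
        have h2 := hab (Additive.ofMul (⟨v, hv⟩ : V))
        have h3 := congrArg (fun z : Additive V => ((Additive.toMul z : V) : G)) h2
        exact h3
      have h2 : (b : G)⁻¹ * a = 1 := by
        apply hfaith _ (H.mul_mem (H.inv_mem b.2) a.2)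
        intro v hv
        have h3 := h1 v hv
        have h4 : (a : G) * v = (b : G) * v * (b : G)⁻¹ * a := by
          rw [← h3]; group
        rw [mul_assoc, h4]
        group
      exact Subtype.ext (inv_mul_eq_one.1 h2).symm
    have hfin : Finite (Additive V) := inferInstanceAs (Finite V)
    have hmain := act_two (p := p) (D := H) (E := Additive V) (by
      intro x
      apply Additive.toMul.injective
      apply Subtype.ext
      show (((Additive.toMul x : V) ^ p : V) : G) = 1
      rw [Subgroup.coe_pow]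
      exact hVe _ (Additive.toMul x).2) hlin (v₁ := Additive.ofMul (⟨x₁, hx₁V⟩ : V))
      (v₂ := Additive.ofMul (⟨x₂, hx₂V⟩ : V))
      (fun h => hx₁ (congrArg Subtype.val (Additive.ofMul.injective h)))
      (fun h => hx₂ (congrArg Subtype.val (Additive.ofMul.injective h)))
      (by
        intro d hd
        have h1 : (d : G) * x₁ * (d : G)⁻¹ = x₂ :=
          congrArg (fun z : Additive V => ((Additive.toMul z : V) : G)) hd
        exact hne (isConj_iff.2 ⟨d, h1⟩))
      (by
        intro w hw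
        have hw1 : ((Additive.toMul w : V) : G) ≠ 1 := fun h =>
          hw (Additive.toMul.injective (Subtype.ext h))
        rcases hall _ hw1 (hpe _ (Additive.toMul w).2) with h | h
        · left
          obtain ⟨d, hd, hdw⟩ := hconjH x₁ hx₁V _ h
          exact ⟨⟨d, hd⟩, Additive.toMul.injective (Subtype.ext hdw)⟩
        · right
          obtain ⟨d, hd, hdw⟩ := hconjH x₂ hx₂V _ h
          exact ⟨⟨d, hd⟩, Additive.toMul.injective (Subtype.ext hdw)⟩)
      (by
        intro W hW
        let U : Subgroup G :=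
          { carrier := {x | ∃ hx : x ∈ V, Additive.ofMul (⟨x, hx⟩ : V) ∈ W}
            one_mem' := ⟨V.one_mem, W.zero_mem⟩
            mul_mem' := fun {a b} ha hb => by
              obtain ⟨ha, ha'⟩ := ha
              obtain ⟨hb, hb'⟩ := hb
              exact ⟨V.mul_mem ha hb, W.add_mem ha' hb'⟩
            inv_mem' := fun {a} ha => by
              obtain ⟨ha, ha'⟩ := ha
              exact ⟨V.inv_mem ha, W.neg_mem ha'⟩ }
        have hUn : U.Normal := by
          refine ⟨fun x hx g => ?_⟩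
          obtain ⟨hx, hxW⟩ := hx
          have hg' : g ∈ (V : Set G) * (H : Set G) := by
            rw [Subgroup.IsComplement.mul_eq hH]; trivial
          obtain ⟨y, hy, h, hh, rfl⟩ := hg'
          have h1 : h * x * h⁻¹ ∈ V := hVn.conj_mem x hx h
          have h2 := hVc y hy _ h1
          have h3 : y * h * x * (y * h)⁻¹ = h * x * h⁻¹ := by
            have h4 : y * h * x * (y * h)⁻¹ = y * (h * x * h⁻¹) * y⁻¹ := by group
            rw [h4, h2, mul_inv_cancel_right]
          show ∃ hx : y * h * x * (y * h)⁻¹ ∈ V, Additive.ofMul (⟨_, hx⟩ : V) ∈ W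
          have h5 := hW ⟨h, hh⟩ _ hxW
          refine ⟨hVn.conj_mem x hx _, ?_⟩
          have h6 : (Additive.ofMul (⟨y * h * x * (y * h)⁻¹, hVn.conj_mem x hx _⟩ : V)) =
              (⟨h, hh⟩ : H) • (Additive.ofMul (⟨x, hx⟩ : V)) :=
            Additive.toMul.injective (Subtype.ext h3)
          rw [h6]
          exact h5
        rcases hmin' U hUn (fun x hx => hx.1) with h | h
        · left
          rw [eq_bot_iff]
          intro w hw
          have h1 : ((Additive.toMul w : V) : G) ∈ U := ⟨(Additive.toMul w).2, hw⟩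
          rw [h, Subgroup.mem_bot] at h1
          exact Additive.toMul.injective (Subtype.ext h1)
        · right
          rw [eq_top_iff]
          intro w _
          have h1 : ((Additive.toMul w : V) : G) ∈ U := by rw [h]; exact (Additive.toMul w).2
          exact h1.2)
      hpH hcard
    rw [hκ]
    have := hp'.pos
    omega

/-- The theorem, given the linear statement. -/
theorem main {G : Type u} [Group G] [Finite G] (hlin : LinStmt.{u} p)
    (hsolv : Cfsg.IsPSolvable p G) (hT : TwoCl p G) :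
    p - 1 < 2 * Nat.card (PReg p G) ∨ EqCase p G := by
  classical
  by_cases hN : Cfsg.pPrimeCore p G = ⊥
  · exact core hlin hsolv hN hT
  left
  have hNn : (Cfsg.pPrimeCore p G).Normal := Lib.Cores.pPrimeCore_normal p
  have hNp : ¬ p ∣ Nat.card (Cfsg.pPrimeCore p G) := by
    have := Lib.Cores.pPrimeCore_coprime (G := G) p
    exact (Nat.Prime.coprime_iff_not_dvd hp.out).1 this.symm
  have hle := (card_quotient_add_one_le (p := p) (Cfsg.pPrimeCore p G) hNp hN).1
  have hsolQ := Lib.PSolvable.IsPSolvable_of_surjective p hsolv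
    (QuotientGroup.mk' (Cfsg.pPrimeCore p G)) (QuotientGroup.mk'_surjective _)
  have hcoreQ := Lib.Cores.pPrimeCore_quotient_pPrimeCore (G := G) p
  obtain ⟨x₁, x₂, hx₁, hx₂, hk₁, hk₂, hne, hall⟩ := hT
  set π := QuotientGroup.mk' (Cfsg.pPrimeCore p G) with hπ
  have hπs : Function.Surjective π := QuotientGroup.mk'_surjective _
  have hne1 : ∀ x : G, x ≠ 1 → (∃ k : ℕ, orderOf x = p ^ k) → π x ≠ 1 := by
    intro x hx hkx h
    rw [← MonoidHom.mem_ker, hπ, QuotientGroup.ker_mk'] at h
    obtain ⟨k, hk⟩ := hkx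
    have h1 : orderOf x ∣ Nat.card (Cfsg.pPrimeCore p G) := Subgroup.orderOf_dvd_natCard _ h
    have hk0 : k ≠ 0 := by
      rintro rfl
      rw [pow_zero, orderOf_eq_one_iff] at hk
      exact hx hk
    exact hNp ((dvd_pow_self p hk0).trans (hk ▸ h1))
  have hkπ : ∀ x : G, (∃ k : ℕ, orderOf x = p ^ k) → ∃ k : ℕ, orderOf (π x) = p ^ k := by
    rintro x ⟨k, hk⟩
    have h1 : orderOf (π x) ∣ p ^ k := hk ▸ orderOf_map_dvd _ x
    obtain ⟨j, -, hj⟩ := (Nat.dvd_prime_pow hp.out).1 h1
    exact ⟨j, hj⟩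
  have hallQ : ∀ y, y ≠ 1 → (∃ k : ℕ, orderOf y = p ^ k) → IsConj (π x₁) y ∨ IsConj (π x₂) y := by
    intro y hy hky
    obtain ⟨g, rfl, hg⟩ := PSolvA.exists_lift_pow π hπs hky
    have hg1 : g ≠ 1 := fun h => hy (by rw [h, map_one])
    rcases hall g hg1 hg with h | h
    · left
      obtain ⟨c, hc⟩ := isConj_iff.1 h
      exact isConj_iff.2 ⟨π c, by rw [← hc, map_mul, map_mul, map_inv]⟩
    · right
      obtain ⟨c, hc⟩ := isConj_iff.1 h
      exact isConj_iff.2 ⟨π c, by rw [← hc, map_mul, map_mul, map_inv]⟩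
  by_cases hc12 : IsConj (π x₁) (π x₂)
  · have h1 := strict_of_one hsolQ (dvd_of_pow (hne1 x₁ hx₁ hk₁) (hkπ x₁ hk₁)) (by
      intro x y hx hy hkx hky
      have h1 : ∀ y, y ≠ 1 → (∃ k : ℕ, orderOf y = p ^ k) → IsConj (π x₁) y := by
        intro y hy hky
        rcases hallQ y hy hky with h | h
        · exact h
        · exact hc12.trans h
      exact (h1 x hx hkx).symm.trans (h1 y hy hky))
    omega
  · rcases core hlin hsolQ hcoreQ ⟨π x₁, π x₂, hne1 x₁ hx₁ hk₁, hne1 x₂ hx₂ hk₂, hkπ x₁ hk₁,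
      hkπ x₂ hk₂, hc12, hallQ⟩ with h | h
    · omega
    · have := h.1
      omega

/-- The final form, given the linear statement. -/
theorem final {G : Type u} [Group G] [Finite G] (hlin : LinStmt.{u} p)
    (hsolv : Cfsg.IsPSolvable p G)
    (h3 : Nat.card {c : ConjClasses G // ∃ g : G, ConjClasses.mk g = c ∧
      ∃ k : ℕ, orderOf g = p ^ k} = 3) :
    p - 1 ≤ 2 * Nat.card (PReg p G) ∧ (2 * Nat.card (PReg p G) = p - 1 ↔
      (p ≠ 2 ∧ 2 * Nat.card G = p * (p - 1) ∧
        ∃ f : G →* Cfsg.affineGroup (ZMod p), Function.Injective f)) := by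
  rcases main hlin hsolv (twoCl_of_card h3) with h | h
  · refine ⟨h.le, ⟨fun h1 => absurd h1 h.ne', ?_⟩⟩
    rintro ⟨h1, h2, f, hf⟩
    exact absurd (eq_of_embed h1 h2 f hf) h.ne'
  · exact ⟨h.1.ge, ⟨fun _ => h.2, fun _ => h.1⟩⟩

end Cfsg.Agent.H697.Three
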