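import Cfsg.Agent.H697.ActMain
import Cfsg.Agent.H698.Idem

/-!
# Two orbits on vectors: the imprimitive case
-/

set_option autoImplicit false
set_option linter.style.haveILetI false

universe u v

namespace Cfsg.Agent.H697.ThreeImp

open Cfsg.Agent.H698

/-- Classes of a subgroup of index two. -/
theorem index_two {D : Type*} [Group D] [Finite D] (K : Subgroup D) (s : D) (hs : s ∉ K)
    (hK : ∀ d : D, d ∈ K ∨ d * s⁻¹ ∈ K) (hKn : K.Normal) :
    Nat.card (ConjClasses K) + 3 ≤ 2 * Nat.card (ConjClasses D) := by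
  classical
  have := Fintype.ofFinite (ConjClasses K)
  have := Fintype.ofFinite (ConjClasses D)
  let f : ConjClasses K → ConjClasses D := ConjClasses.map K.subtype
  have hf : ∀ x : K, f (ConjClasses.mk x) = ConjClasses.mk (x : D) := fun _ => rfl
  let fib : ConjClasses D → Finset (ConjClasses K) := fun c => Finset.univ.filter (fun a => f a = c)
  have hsum : Fintype.card (ConjClasses K) = ∑ c : ConjClasses D, (fib c).card := by
    rw [← Finset.card_univ]
    exact Finset.card_eq_sum_card_fiberwise (f := f) (t := Finset.univ) (fun _ _ => Finset.mem_univ _)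
  have h2 : ∀ c, (fib c).card ≤ 2 := by
    intro c
    by_cases hne : (fib c).Nonempty
    · obtain ⟨a, ha⟩ := hne
      obtain ⟨x, rfl⟩ := ConjClasses.mk_surjective a
      rw [Finset.mem_filter, hf] at ha
      have hxc := ha.2
      have hsub : fib c ⊆ {ConjClasses.mk x,
          ConjClasses.mk (⟨s * x * s⁻¹, hKn.conj_mem x x.2 s⟩ : K)} := by
        intro b hb
        obtain ⟨y, rfl⟩ := ConjClasses.mk_surjective b
        rw [Finset.mem_filter, hf] at hb
        have h3 := hb.2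
        rw [← hxc, ConjClasses.mk_eq_mk_iff_isConj, isConj_comm, isConj_iff] at h3
        obtain ⟨g, hg⟩ := h3
        rw [Finset.mem_insert, Finset.mem_singleton]
        rcases hK g with h4 | h4
        · left
          rw [ConjClasses.mk_eq_mk_iff_isConj, isConj_comm, isConj_iff]
          exact ⟨⟨g, h4⟩, Subtype.ext hg⟩
        · right
          rw [ConjClasses.mk_eq_mk_iff_isConj, isConj_comm, isConj_iff]
          refine ⟨⟨g * s⁻¹, h4⟩, Subtype.ext ?_⟩
          show g * s⁻¹ * (s * x * s⁻¹) * (g * s⁻¹)⁻¹ = y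
          rw [← hg]
          group
      exact (Finset.card_le_card hsub).trans Finset.card_le_two
    · rw [Finset.not_nonempty_iff_eq_empty] at hne
      rw [hne, Finset.card_empty]
      omega
  have h1 : (fib 1).card ≤ 1 := by
    rw [Finset.card_le_one]
    intro a ha b hb
    obtain ⟨x, rfl⟩ := ConjClasses.mk_surjective a
    obtain ⟨y, rfl⟩ := ConjClasses.mk_surjective b
    rw [Finset.mem_filter, hf, ConjClasses.one_eq_mk_one, ConjClasses.mk_eq_mk_iff_isConj,
      isConj_one_left] at ha hb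
    have hx : x = 1 := Subtype.ext ha.2
    have hy : y = 1 := Subtype.ext hb.2
    rw [hx, hy]
  have h0 : (fib (ConjClasses.mk s)).card = 0 := by
    rw [Finset.card_eq_zero, Finset.eq_empty_iff_forall_notMem]
    intro a ha
    obtain ⟨x, rfl⟩ := ConjClasses.mk_surjective a
    rw [Finset.mem_filter, hf, ConjClasses.mk_eq_mk_iff_isConj, isConj_iff] at ha
    obtain ⟨g, hg⟩ := ha.2
    apply hs
    rw [← hg]
    exact hKn.conj_mem x x.2 g
  have hne : ConjClasses.mk s ≠ 1 := by
    intro h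
    rw [ConjClasses.one_eq_mk_one, ConjClasses.mk_eq_mk_iff_isConj, isConj_one_left] at h
    exact hs (h ▸ K.one_mem)
  have hmem : ConjClasses.mk s ∈ (Finset.univ : Finset (ConjClasses D)).erase 1 :=
    Finset.mem_erase.2 ⟨hne, Finset.mem_univ _⟩
  rw [← Finset.add_sum_erase _ _ (Finset.mem_univ (1 : ConjClasses D)),
    ← Finset.add_sum_erase _ _ hmem, h0] at hsum
  have h3 : ∑ c ∈ ((Finset.univ : Finset (ConjClasses D)).erase 1).erase (ConjClasses.mk s),
      (fib c).card ≤ (((Finset.univ : Finset (ConjClasses D)).erase 1).erase (ConjClasses.mk s)).card * 2 :=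
    Finset.sum_le_card_nsmul _ _ 2 (fun c _ => h2 c)
  have h5 := Finset.card_erase_of_mem hmem
  have h6 := Finset.card_erase_of_mem (Finset.mem_univ (1 : ConjClasses D))
  have h7 : 0 < ((Finset.univ : Finset (ConjClasses D)).erase 1).card := Finset.card_pos.2 ⟨_, hmem⟩
  rw [h6, Finset.card_univ] at h5
  rw [h6, Finset.card_univ] at h7
  rw [Nat.card_eq_fintype_card, Nat.card_eq_fintype_card]
  omega

/-- **The imprimitive case.** -/
theorem main {D : Type v} {E : Type u} [Group D] [Finite D] [AddCommGroup E] [Finite E]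
    [DistribMulAction D E] {p : ℕ} [hp : Fact p.Prime]
    (hpE : ∀ e : E, p • e = 0) (hpD : ¬ p ∣ Nat.card D) (hE4 : p ^ 4 ≤ Nat.card E)
    (h2 : Orb.TwoOrb D E) (hI : Idem.Imprim D E) : p ≤ 2 * Nat.card (ConjClasses D) := by
  classical
  have hp' : p.Prime := hp.out
  obtain ⟨E₁, E₂, hc, hE₁, hE₂, hD⟩ := hI
  have hdisj : ∀ {x : E}, x ∈ E₁ → x ∈ E₂ → x = 0 := AddSubgroup.disjoint_def.1 hc.disjoint
  obtain ⟨⟨a₁, ha₁⟩, ha₁0⟩ := AddSubgroup.ne_bot_iff_exists_ne_zero.1 hE₁
  obtain ⟨⟨a₂, ha₂⟩, ha₂0⟩ := AddSubgroup.ne_bot_iff_exists_ne_zero.1 hE₂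
  have ha₁0' : a₁ ≠ 0 := fun h => ha₁0 (Subtype.ext h)
  have ha₂0' : a₂ ≠ 0 := fun h => ha₂0 (Subtype.ext h)
  -- somebody swaps
  obtain ⟨s, hs1, hs2⟩ : ∃ s : D, (∀ e ∈ E₁, s • e ∈ E₂) ∧ (∀ e ∈ E₂, s • e ∈ E₁) := by
    by_contra hcon
    push Not at hcon
    have hinv : Orb.Inv (⊤ : Subgroup D) E₁ := by
      intro d _ w hw
      rcases hD d with h | h
      · exact h.1 w hw
      · exfalso
        obtain ⟨e, he, hne⟩ := hcon d h.1
        exact hne (h.2 e he)
    rcases h2.eq_bot_or_top hp' hpE hpD E₁ hinv with h | h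
    · exact hE₁ h
    · apply ha₂0'
      apply hdisj _ ha₂
      rw [h]
      trivial
  -- the stabiliser
  let K : Subgroup D :=
    { carrier := {d | (∀ e ∈ E₁, d • e ∈ E₁) ∧ (∀ e ∈ E₂, d • e ∈ E₂)}
      one_mem' := ⟨fun e he => by rwa [one_smul], fun e he => by rwa [one_smul]⟩
      mul_mem' := fun {a b} ha hb => ⟨fun e he => by rw [mul_smul]; exact ha.1 _ (hb.1 e he),
        fun e he => by rw [mul_smul]; exact ha.2 _ (hb.2 e he)⟩
      inv_mem' := fun {a} ha => by
        rcases hD a⁻¹ with h | h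
        · exact h
        · exfalso
          apply ha₁0'
          have h3 := ha.2 _ (h.1 a₁ ha₁)
          rw [smul_inv_smul] at h3
          exact hdisj ha₁ h3 }
  have hKm : ∀ d : D, d ∈ K ↔ (∀ e ∈ E₁, d • e ∈ E₁) ∧ (∀ e ∈ E₂, d • e ∈ E₂) := fun _ => Iff.rfl
  have hsK : s ∉ K := by
    intro h
    apply ha₁0'
    have h3 := h.1 a₁ ha₁
    have h4 := hs1 a₁ ha₁
    have h5 := hdisj h3 h4
    exact (smul_eq_zero_iff_eq s).1 h5
  have hKs : ∀ d : D, d ∈ K ∨ ((∀ e ∈ E₁, d • e ∈ E₂) ∧ (∀ e ∈ E₂, d • e ∈ E₁)) := fun d => hD d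
  have hsinv : (∀ e ∈ E₁, s⁻¹ • e ∈ E₂) ∧ (∀ e ∈ E₂, s⁻¹ • e ∈ E₁) := by
    rcases hKs s⁻¹ with h | h
    · exact absurd (by simpa using K.inv_mem h) hsK
    · exact h
  have hK2 : ∀ d : D, d ∈ K ∨ d * s⁻¹ ∈ K := by
    intro d
    rcases hKs d with h | h
    · exact Or.inl h
    · right
      rw [hKm]
      exact ⟨fun e he => by rw [mul_smul]; exact h.2 _ (hsinv.1 e he),
        fun e he => by rw [mul_smul]; exact h.1 _ (hsinv.2 e he)⟩
  have hKn : K.Normal := by
    refine ⟨fun k hk g => ?_⟩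
    rcases hKs g with h | h
    · exact K.mul_mem (K.mul_mem h hk) (K.inv_mem h)
    · have hg' : (∀ e ∈ E₁, g⁻¹ • e ∈ E₂) ∧ (∀ e ∈ E₂, g⁻¹ • e ∈ E₁) := by
        rcases hKs g⁻¹ with h3 | h3
        · exfalso
          have h4 : g ∈ K := by simpa using K.inv_mem h3
          apply ha₁0'
          exact (smul_eq_zero_iff_eq g).1 (hdisj (h4.1 a₁ ha₁) (h.1 a₁ ha₁))
        · exact h3
      rw [hKm]
      exact ⟨fun e he => by rw [mul_smul, mul_smul]; exact h.2 _ (hk.2 _ (hg'.1 e he)),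
        fun e he => by rw [mul_smul, mul_smul]; exact h.1 _ (hk.1 _ (hg'.2 e he))⟩
  have hidx := index_two K s hsK hK2 hKn
  -- the sizes
  have hcard12 : Nat.card E₁ ≤ Nat.card E₂ ∧ Nat.card E₂ ≤ Nat.card E₁ := by
    constructor
    · exact Nat.card_le_card_of_injective (fun e : E₁ => (⟨s • (e : E), hs1 e e.2⟩ : E₂))
        (fun x y h => Subtype.ext (smul_left_cancel s (congrArg Subtype.val h)))
    · exact Nat.card_le_card_of_injective (fun e : E₂ => (⟨s • (e : E), hs2 e e.2⟩ : E₁))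
        (fun x y h => Subtype.ext (smul_left_cancel s (congrArg Subtype.val h)))
  have hcardE : Nat.card E ≤ Nat.card E₁ * Nat.card E₂ := by
    rw [← Nat.card_prod]
    apply Nat.card_le_card_of_surjective (fun x : E₁ × E₂ => (x.1 : E) + (x.2 : E))
    intro e
    have h3 : e ∈ E₁ ⊔ E₂ := by rw [hc.sup_eq_top]; trivial
    obtain ⟨y, hy, z, hz, rfl⟩ := AddSubgroup.mem_sup.1 h3
    exact ⟨(⟨y, hy⟩, ⟨z, hz⟩), rfl⟩
  have hE1 : p ^ 2 ≤ Nat.card E₁ := by
    by_contra hcon
    push Not at hcon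
    have h3 : Nat.card E₁ * Nat.card E₂ ≤ Nat.card E₁ * Nat.card E₁ :=
      Nat.mul_le_mul le_rfl hcard12.2
    have h4 : Nat.card E₁ * Nat.card E₁ < p ^ 2 * p ^ 2 := Nat.mul_lt_mul'' hcon hcon
    have h5 : p ^ 2 * p ^ 2 = p ^ 4 := by ring
    rw [h5] at h4
    omega
  -- transitivity
  have htr : ∀ a ∈ E₁, ∀ b ∈ E₁, a ≠ 0 → b ≠ 0 → ∃ d ∈ K, d • a = b := by
    intro a ha b hb ha0 hb0
    have hsum : ∀ d : D, d • a ≠ a + a₂ := by
      intro d hd
      rcases hKs d with h | h
      · have h3 := h.1 a ha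
        rw [hd] at h3
        have h4 : a₂ ∈ E₁ := by simpa using E₁.sub_mem h3 ha
        exact ha₂0' (hdisj h4 ha₂)
      · have h3 := h.1 a ha
        rw [hd] at h3
        have h4 : a ∈ E₂ := by simpa using E₂.sub_mem h3 ha₂
        exact ha0 (hdisj ha h4)
    have hsum0 : a + a₂ ≠ 0 := by
      intro h
      apply ha₂0'
      apply hdisj _ ha₂
      rw [eq_neg_of_add_eq_zero_right h]
      exact E₁.neg_mem ha
    rcases h2.cover ha0 hsum0 hsum hb0 with ⟨d, hd⟩ | ⟨d, hd⟩
    · rcases hKs d with h | h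
      · exact ⟨d, h, hd⟩
      · exfalso
        have h3 := h.1 a ha
        rw [hd] at h3
        exact hb0 (hdisj hb h3)
    · exfalso
      have h5 : a + a₂ = d⁻¹ • b := by rw [← hd, inv_smul_smul]
      rcases hKs d⁻¹ with h | h
      · have h3 := h.1 b hb
        rw [← h5] at h3
        have h4 : a₂ ∈ E₁ := by simpa using E₁.sub_mem h3 ha
        exact ha₂0' (hdisj h4 ha₂)
      · have h3 := h.1 b hb
        rw [← h5] at h3
        have h4 : a ∈ E₂ := by simpa using E₂.sub_mem h3 ha₂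
        exact ha0 (hdisj ha h4)
  -- the action on the first block
  letI act : DistribMulAction K E₁ :=
    { smul := fun d e => ⟨(d : D) • (e : E), d.2.1 e e.2⟩
      one_smul := fun e => Subtype.ext (one_smul D (e : E))
      mul_smul := fun d d' e => Subtype.ext (mul_smul (d : D) (d' : D) (e : E))
      smul_zero := fun d => Subtype.ext (smul_zero (d : D))
      smul_add := fun d e e' => Subtype.ext (smul_add (d : D) (e : E) (e' : E)) }
  have hact : ∀ (d : K) (e : E₁), ((d • e : E₁) : E) = (d : D) • (e : E) := fun _ _ => rfl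
  let φ : K →* Equiv.Perm E₁ := MulAction.toPermHom K E₁
  have hφ : ∀ (d : K) (e : E₁), φ d e = d • e := fun _ _ => rfl
  have hnt : Nontrivial E₁ := ⟨⟨⟨a₁, ha₁⟩, 0, ha₁0⟩⟩
  have hk : Nat.card (ConjClasses φ.range) ≤ Nat.card (ConjClasses K) := by
    apply Nat.card_le_card_of_surjective (ConjClasses.map φ.rangeRestrict)
    exact ConjClasses.map_surjective φ.rangeRestrict_surjective
  have hpφ : ¬ p ∣ Nat.card φ.range := fun h =>
    hpD ((h.trans (Subgroup.card_range_dvd φ)).trans (Subgroup.card_subgroup_dvd_card K))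
  letI act' : DistribMulAction φ.range E₁ :=
    { smul := fun d e => (d : Equiv.Perm E₁) e
      one_smul := fun e => rfl
      mul_smul := fun d d' e => rfl
      smul_zero := fun d => by
        obtain ⟨k, hk⟩ := d.2
        show (d : Equiv.Perm E₁) 0 = 0
        rw [← hk, hφ, smul_zero]
      smul_add := fun d e e' => by
        obtain ⟨k, hk⟩ := d.2
        show (d : Equiv.Perm E₁) (e + e') = (d : Equiv.Perm E₁) e + (d : Equiv.Perm E₁) e'
        rw [← hk, hφ, hφ, hφ, smul_add] }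
  have hact' : ∀ (d : φ.range) (e : E₁), d • e = (d : Equiv.Perm E₁) e := fun _ _ => rfl
  haveI : FaithfulSMul φ.range E₁ := by
    refine ⟨fun {d d'} h => ?_⟩
    apply Subtype.ext
    apply Equiv.ext
    intro e
    exact h e
  rcases ActMain.act_main (D := φ.range) (E := E₁) (p := p)
    (fun e => Subtype.ext (hpE (e : E))) (by
      intro a b ha hb
      obtain ⟨d, hdK, hd⟩ := htr a a.2 b b.2 (fun h => ha (Subtype.ext h)) (fun h => hb (Subtype.ext h))
      exact ⟨⟨φ ⟨d, hdK⟩, ⟨_, rfl⟩⟩, Subtype.ext hd⟩) hpφ with h | h | ⟨h3, h4, h5, ⟨e⟩⟩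
  · omega
  · exfalso
    rw [h] at hE1
    have := hp'.two_le
    nlinarith
  · have h6 := ClassCount.card_conjClasses_congr e
    rw [SL25.card_conjClasses] at h6
    omega

end Cfsg.Agent.H697.ThreeImp
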