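import Cfsg.Agent.H697.ThreePpd

/-!
# Reduction of the linear statement to two-weight groups of plus type
-/

set_option autoImplicit false
set_option linter.style.haveILetI false

universe u

namespace Cfsg.Agent.H697.Three

open Module
open Cfsg.Agent.PermutationGroups.RegularLinear
open Cfsg.Agent.H697.ThreeDual Cfsg.Agent.H697.ThreePpd

/-- The remaining case: `dim V = 2 m`, orbit lengths divisible by `p ^ m - 1`. -/
def ResStmt (p : ℕ) [Fact p.Prime] : Prop :=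
  ∀ (V : Type u) [AddCommGroup V] [Module (ZMod p) V] [Finite V] [Nontrivial V]
    (H : Subgroup (V ≃ₗ[ZMod p] V)), ¬ p ∣ Nat.card H → 11 ≤ p → Irr H →
    ∀ m : ℕ, 2 ≤ m → finrank (ZMod p) V = 2 * m →
    ∀ v₁ v₂ : V, v₁ ≠ 0 → v₂ ≠ 0 → (∀ h ∈ H, h v₁ ≠ v₂) →
    (∀ w : V, w ≠ 0 → (∃ h ∈ H, h v₁ = w) ∨ (∃ h ∈ H, h v₂ = w)) →
    (∀ c : ZMod p, c ≠ 0 → c • v₁ ∈ orb H v₁) → (∀ c : ZMod p, c ≠ 0 → c • v₂ ∈ orb H v₂) →
    (p ^ m - 1) ∣ (orb H v₁).ncard → (p ^ m - 1) ∣ (orb H v₂).ncard →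
    p ≤ 2 * Nat.card (ConjClasses H)

/-- The arithmetic of the exceptional case. -/
theorem exc_arith {p m : ℕ} (hp : p.Prime) (hp11 : 11 ≤ p) (hm : 2 ≤ m)
    (hs : (2 * (2 * m) + 1).Prime) (hsn : (2 * (2 * m) + 1) ∣ p ^ (2 * m) - 1)
    (h : p ^ m + 1 ≤ 2 * ((2 * (2 * m) + 1) * (2 * m) * (2 * (2 * m) + 1 + 1))) : False := by
  have hgrow : ∀ k : ℕ, 2 * ((2 * (2 * (k + 4)) + 1) * (2 * (k + 4)) * (2 * (2 * (k + 4)) + 1 + 1))
      < 11 ^ (k + 4) := by
    intro k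
    induction k with
    | zero => norm_num
    | succ k ih =>
      have h1 : 2 * ((2 * (2 * (k + 1 + 4)) + 1) * (2 * (k + 1 + 4)) * (2 * (2 * (k + 1 + 4)) + 1 + 1)) ≤
          11 * (2 * ((2 * (2 * (k + 4)) + 1) * (2 * (k + 4)) * (2 * (2 * (k + 4)) + 1 + 1))) := by
        ring_nf
        nlinarith [sq_nonneg k, Nat.zero_le (k ^ 3)]
      calc _ ≤ 11 * (2 * ((2 * (2 * (k + 4)) + 1) * (2 * (k + 4)) * (2 * (2 * (k + 4)) + 1 + 1))) := h1
        _ < 11 * 11 ^ (k + 4) := by omega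
        _ = 11 ^ (k + 1 + 4) := by ring
  rcases Nat.lt_or_ge m 4 with hm4 | hm4
  · interval_cases m
    · revert hs; norm_num
    · have h1 : p ^ 3 + 1 ≤ 2184 := by
        refine h.trans ?_
        norm_num
      have h2 : p < 13 := by
        by_contra h3
        push Not at h3
        have := Nat.pow_le_pow_left h3 3
        omega
      have h3 : p = 11 ∨ p = 12 := by omega
      rcases h3 with rfl | rfl
      · revert hsn
        norm_num
      · revert hp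
        norm_num
  · obtain ⟨k, rfl⟩ : ∃ k, m = k + 4 := ⟨m - 4, by omega⟩
    have h1 := hgrow k
    have h2 : 11 ^ (k + 4) ≤ p ^ (k + 4) := Nat.pow_le_pow_left hp11 _
    omega

variable {p : ℕ} [hp : Fact p.Prime] {V : Type u} [AddCommGroup V] [Module (ZMod p) V] [Finite V]

/-- The minus type. -/
theorem eps_neg [Nontrivial V] (hp11 : 11 ≤ p) (H : Subgroup (V ≃ₗ[ZMod p] V))
    (hpH : ¬ p ∣ Nat.card H) (hT : TwoOrb H) {m : ℕ} (hm : 2 ≤ m) (hn : finrank (ZMod p) V = 2 * m)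
    (hdvd : (p ^ m + 1) ∣ Nat.card H) : p ≤ 2 * Nat.card (ConjClasses H) := by
  classical
  have hp' : p.Prime := hp.out
  have hfinG : Finite (V ≃ₗ[ZMod p] V) := finite_gl
  obtain ⟨s, hs, hsn, hsd', hslarge⟩ := Cfsg.Agent.H365.Zsig.large_zsigmondy p (2 * m) hp'.two_le
    (by omega) (fun h => by omega) (fun h => by omega) (fun h => by omega) (fun h => by omega)
  have hsd : ∀ d, 0 < d → d < 2 * m → ¬ s ∣ p ^ d - 1 := fun d h1 h2 => hsd' d h1 h2
  have hfac : p ^ (2 * m) - 1 = (p ^ m - 1) * (p ^ m + 1) := by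
    have h1 : 1 ≤ p ^ m := Nat.one_le_pow _ _ hp'.pos
    obtain ⟨q, hq⟩ : ∃ q, p ^ m = q + 1 := ⟨p ^ m - 1, by omega⟩
    rw [mul_comm 2 m, pow_mul, hq]
    have h2 : (q + 1) ^ 2 = q * (q + 1 + 1) + 1 := by ring
    rw [h2, Nat.add_sub_cancel, Nat.add_sub_cancel]
  have hcop : s.Coprime (p ^ m - 1) := (Nat.Prime.coprime_iff_not_dvd hs).2 (hsd m (by omega) (by omega))
  have hsD : s ∣ Nat.card H := by
    rw [hfac] at hsn
    exact (hcop.dvd_of_dvd_mul_left hsn).trans hdvd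
  have hsl : 2 * m + 1 < s ∨ s ^ 2 ∣ Nat.card H := by
    rcases hslarge with h | h
    · exact Or.inl h
    · right
      rw [hfac] at h
      exact ((Nat.Coprime.pow_left 2 hcop).dvd_of_dvd_mul_left h).trans hdvd
  rw [← hn] at hsn hsd hsl
  rcases ppd_main H hpH (by omega) hs hsn hsd hsl hsD with ⟨A, hAn, hAc, hAle⟩ | ⟨hs2, K, hK, hcard⟩
  · have hAidx : A.index ≤ finrank (ZMod p) V := by
      have h1 := A.card_mul_index
      rw [← h1, mul_comm] at hAle
      exact Nat.le_of_mul_le_mul_right hAle Nat.card_pos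
    refine of_index_le H (by omega) hT (by omega) A ?_ hAidx ?_
    · intro a ha b hb
      exact congrArg Subtype.val ((IsCyclic.commGroup (α := A)).mul_comm ⟨a, ha⟩ ⟨b, hb⟩)
    · exact (LinMain.sq_lt_pow (by omega)).trans_le (Nat.pow_le_pow_left (by omega) _)
  · exfalso
    have hle := card_le H hT
    rw [Hering.card_eq (p := p) (V := V), hn] at hle
    rw [hn] at hK hcard hs2 hsn
    subst hs2
    have h1 : Nat.card K + 1 ≤ p ^ m := by
      by_contra h2
      push Not at h2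
      have h3 : (p ^ m) ^ 2 < (Nat.card K + 1) ^ 2 := Nat.pow_lt_pow_left h2 (by norm_num)
      rw [← pow_mul, mul_comm m 2] at h3
      omega
    have h2 : (p ^ m - 1) * (p ^ m + 1) ≤ (p ^ m - 1) *
        (2 * ((2 * (2 * m) + 1) * (2 * m) * (2 * (2 * m) + 1 + 1))) := by
      rw [← hfac]
      refine hle.trans ?_
      rw [hcard]
      calc 2 * (Nat.card K * ((2 * (2 * m) + 1) * (2 * m)) * (2 * (2 * m) + 1 + 1)) =
          Nat.card K * (2 * ((2 * (2 * m) + 1) * (2 * m) * (2 * (2 * m) + 1 + 1))) := by ring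
        _ ≤ _ := Nat.mul_le_mul (by omega) le_rfl
    have h3 : 0 < p ^ m - 1 := by
      have := Nat.one_lt_pow (n := m) (by omega) hp'.one_lt
      omega
    exact exc_arith hp' hp11 hm hs hsn (Nat.le_of_mul_le_mul_left h2 h3)

/-- Small primes. -/
theorem small (hp7 : p ≤ 7) (H : Subgroup (V ≃ₗ[ZMod p] V)) (hT : TwoOrb H)
    (hn : 2 ≤ finrank (ZMod p) V) : p ≤ 2 * Nat.card (ConjClasses H) := by
  have hfinG : Finite (V ≃ₗ[ZMod p] V) := finite_gl
  have hp2 := hp.out.two_le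
  have hle := card_le H hT
  rw [Hering.card_eq (p := p) (V := V)] at hle
  have h1 : p ^ 2 ≤ p ^ finrank (ZMod p) V := Nat.pow_le_pow_right (by omega) hn
  by_contra hcon
  push Not at hcon
  have h2 : Nat.card (ConjClasses H) ≤ 3 := by omega
  have h3 := card_le_six h2
  have h4 : p ^ 2 ≤ 13 := by omega
  have h5 : p ≤ 3 := by
    by_contra h6
    push Not at h6
    have : 4 ^ 2 ≤ p ^ 2 := Nat.pow_le_pow_left h6 2
    omega
  have h6 : Nat.card (ConjClasses H) ≤ 2 := by omega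
  have h7 := ClassCount.card_le_two h6
  have h8 : p ^ 2 ≤ 5 := by omega
  have h9 : p = 2 := by
    by_contra h10
    have : 3 ^ 2 ≤ p ^ 2 := Nat.pow_le_pow_left (by omega) 2
    omega
  have h10 : 0 < Nat.card (ConjClasses H) := Nat.card_pos
  omega

/-- **Reduction to the plus type.** -/
theorem lin_of_res (h : ResStmt.{u} p) : LinStmt.{u} p := by
  intro V _ _ _ _ H hpH hT hirr hn2
  have hp' : p.Prime := hp.out
  by_cases hp7 : p ≤ 7
  · exact small hp7 H hT hn2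
  have hp11 : 11 ≤ p := by
    by_contra h1
    have h2 : p = 8 ∨ p = 9 ∨ p = 10 := by omega
    rcases h2 with rfl | rfl | rfl
    · revert hp'; norm_num
    · revert hp'; norm_num
    · revert hp'; norm_num
  rcases Nat.lt_or_ge (finrank (ZMod p) V) 3 with h3 | h3
  · exact lin_dim_two H (by omega) hpH hT (by omega)
  obtain ⟨v₁, v₂, hv₁, hv₂, hne, hall⟩ := hT
  by_cases hsw : ∃ c : ZMod p, c ≠ 0 ∧ ∃ h ∈ H, h v₁ = c • v₂
  · obtain ⟨c, hc, hsw⟩ := hsw
    exact swapped H (by omega) hpH hv₁ hv₂ hne hall h3 (fun h => by omega) hc hsw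
  have hns : ∀ c : ZMod p, c ≠ 0 → ∀ h ∈ H, h v₁ ≠ c • v₂ := by
    intro c hc h hh he
    exact hsw ⟨c, hc, h, hh, he⟩
  obtain ⟨hs1, hs2, m, ε, hε, hnm, hd1, hd2⟩ := two_weight (by omega) hn2 H hpH hv₁ hv₂ hne hall hns
  have hpm : 1 ≤ p ^ m := Nat.one_le_pow _ _ hp'.pos
  rcases hε with rfl | rfl
  · refine h V H hpH hp11 hirr m (by omega) hnm v₁ v₂ hv₁ hv₂ hne hall hs1 hs2 ?_ ?_
    · have h4 : ((p ^ m - 1 : ℕ) : ℤ) ∣ ((orb H v₁).ncard : ℤ) := by
        rw [Nat.cast_sub hpm]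
        push_cast
        exact hd1
      exact_mod_cast h4
    · have h4 : ((p ^ m - 1 : ℕ) : ℤ) ∣ ((orb H v₂).ncard : ℤ) := by
        rw [Nat.cast_sub hpm]
        push_cast
        exact hd2
      exact_mod_cast h4
  · refine eps_neg hp11 H hpH ⟨v₁, v₂, hv₁, hv₂, hne, hall⟩ (m := m) (by omega) hnm ?_
    have h4 : ((p ^ m + 1 : ℕ) : ℤ) ∣ ((orb H v₁).ncard : ℤ) := by
      push_cast
      rw [sub_neg_eq_add] at hd1
      exact hd1
    have h5 : (p ^ m + 1) ∣ (orb H v₁).ncard := by exact_mod_cast h4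
    exact h5.trans (ncard_orb_dvd H v₁)

end Cfsg.Agent.H697.Three
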