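import Mathlib
import Cfsg.Agent.PLocal.SL2Perfect

/-!
# Facts on `SL(2,5)`: class number, centralisers
-/

set_option autoImplicit false
set_option maxRecDepth 100000

namespace Cfsg.Agent.H697.SL25

open Matrix

/-- The group `SL(2,5)`. -/
abbrev S : Type := Matrix.SpecialLinearGroup (Fin 2) (ZMod 5)

/-- The four entries of a matrix. -/
abbrev Q4 : Type := (ZMod 5 × ZMod 5) × (ZMod 5 × ZMod 5)

/-- Determinant one, on natural numbers. -/
def isS (q : Q4) : Bool := (q.1.1.val * q.2.2.val + 4 * (q.1.2.val * q.2.1.val)) % 5 == 1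

/-- The two matrices commute, on natural numbers. -/
def com (x y : Q4) : Bool :=
  ((x.1.2.val * y.2.1.val + 4 * (y.1.2.val * x.2.1.val)) % 5 == 0) &&
  (((x.1.1.val * y.1.2.val + x.1.2.val * y.2.2.val) +
    4 * (y.1.1.val * x.1.2.val + y.1.2.val * x.2.2.val)) % 5 == 0) &&
  (((x.2.1.val * y.1.1.val + x.2.2.val * y.2.1.val) +
    4 * (y.2.1.val * x.1.1.val + y.2.2.val * x.2.1.val)) % 5 == 0)

set_option maxHeartbeats 4000000 in
theorem cnt : ((Finset.univ : Finset Q4).filter fun x => isS x).sum
    (fun x => (((Finset.univ : Finset Q4).filter fun y => isS y).filter fun y => com x y).card) = 1080 := by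
  decide +kernel

theorem four_eq : (4 : ZMod 5) = -1 := by decide

theorem mod_iff (n : ℕ) : (n % 5 == 0) = true ↔ (n : ZMod 5) = 0 := by
  rw [beq_iff_eq, ZMod.natCast_eq_zero_iff, Nat.dvd_iff_mod_eq_zero]

theorem isS_iff (q : Q4) : isS q = true ↔ q.1.1 * q.2.2 - q.1.2 * q.2.1 = 1 := by
  revert q; decide +kernel

/-- The entries of an element of `SL(2,5)`. -/
def toQ (x : S) : Q4 := ((x.1 0 0, x.1 0 1), (x.1 1 0, x.1 1 1))

theorem isS_toQ (x : S) : isS (toQ x) = true := by
  rw [isS_iff]
  have := x.2
  rw [Matrix.det_fin_two] at this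
  exact this

theorem mul_entry (x y : S) (i j : Fin 2) :
    (x * y).1 i j = x.1 i 0 * y.1 0 j + x.1 i 1 * y.1 1 j := by
  change (x.1 * y.1) i j = _
  rw [Matrix.mul_apply, Fin.sum_univ_two]

theorem com_iff (x y : S) : com (toQ x) (toQ y) = true ↔ x * y = y * x := by
  unfold com toQ
  simp only [Bool.and_eq_true, mod_iff]
  push_cast
  simp only [ZMod.natCast_zmod_val, four_eq, neg_mul, one_mul, ← sub_eq_add_neg, sub_eq_zero]
  have e : x * y = y * x ↔ ∀ i j, (x * y).1 i j = (y * x).1 i j :=
    Matrix.SpecialLinearGroup.ext_iff _ _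
  rw [e]
  simp only [Fin.forall_fin_two, mul_entry]
  constructor
  · rintro ⟨⟨h1, h2⟩, h3⟩
    exact ⟨⟨by linear_combination h1, h2⟩, h3, by linear_combination -h1⟩
  · rintro ⟨⟨h1, h2⟩, h3, _⟩
    exact ⟨⟨by linear_combination h1, h2⟩, h3⟩

/-- `SL(2,5)` as a set of quadruples. -/
def eQ : S ≃ {q : Q4 // isS q = true} where
  toFun x := ⟨toQ x, isS_toQ x⟩
  invFun q := ⟨!![q.1.1.1, q.1.1.2; q.1.2.1, q.1.2.2], by
    rw [Matrix.det_fin_two]
    exact (isS_iff q.1).1 q.2⟩
  left_inv x := by
    apply Subtype.ext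
    ext i j
    fin_cases i <;> fin_cases j <;> rfl
  right_inv q := by
    apply Subtype.ext
    rfl

/-- The number of elements which commute with the matrix of `q`. -/
def cntQ (q : Q4) : ℕ := (((Finset.univ : Finset Q4).filter fun y => isS y).filter fun y => com q y).card

theorem toQ_injective : Function.Injective toQ := fun x y h =>
  eQ.injective (Subtype.ext h)

theorem card_comm (x : S) : Fintype.card {y : S // x * y = y * x} = cntQ (toQ x) := by
  rw [Fintype.card_subtype, cntQ]
  refine Finset.card_bij (fun y _ => toQ y) ?_ ?_ ?_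
  · intro y hy
    rw [Finset.mem_filter] at hy
    simp only [Finset.mem_filter, Finset.mem_univ, true_and]
    exact ⟨isS_toQ y, (com_iff x y).2 hy.2⟩
  · intro y _ z _ h
    exact toQ_injective h
  · intro q hq
    simp only [Finset.mem_filter, Finset.mem_univ, true_and] at hq
    have h : toQ (eQ.symm ⟨q, hq.1⟩) = q := congrArg Subtype.val (eQ.apply_symm_apply ⟨q, hq.1⟩)
    refine ⟨eQ.symm ⟨q, hq.1⟩, ?_, h⟩
    rw [Finset.mem_filter]
    refine ⟨Finset.mem_univ _, (com_iff _ _).1 ?_⟩
    rw [h]
    exact hq.2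

theorem card_pairs : Fintype.card {x : S × S // x.1 * x.2 = x.2 * x.1} = 1080 := by
  rw [← cnt]
  have h1 : Fintype.card {x : S × S // x.1 * x.2 = x.2 * x.1} =
      ∑ x : S, Fintype.card {y : S // x * y = y * x} := by
    rw [← Fintype.card_sigma]
    exact Fintype.card_congr (Equiv.subtypeProdEquivSigmaSubtype fun x y : S => x * y = y * x)
  rw [h1]
  have h2 : ∑ x : S, Fintype.card {y : S // x * y = y * x} = ∑ x : S, cntQ (eQ x).1 :=
    Finset.sum_congr rfl fun x _ => card_comm x
  rw [h2, eQ.sum_comp (fun q => cntQ q.1)]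
  exact (Finset.sum_subtype (p := fun q => isS q = true)
    ((Finset.univ : Finset Q4).filter fun x => isS x) (fun q => by simp) cntQ).symm

set_option maxHeartbeats 4000000 in
theorem card_S : Fintype.card S = 120 := by decide +kernel

theorem natCard_S : Nat.card S = 120 := by rw [Nat.card_eq_fintype_card, card_S]

theorem card_conjClasses : Nat.card (ConjClasses S) = 9 := by
  have h := card_comm_eq_card_conjClasses_mul_card S
  have h1 : Nat.card { p : S × S // Commute p.1 p.2 } = 1080 := by
    rw [← card_pairs, ← Nat.card_eq_fintype_card]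
    rfl
  rw [h1, natCard_S] at h
  omega

theorem perfect : commutator S = ⊤ := by
  have : Fact (Nat.Prime 5) := ⟨Nat.prime_five⟩
  exact Cfsg.Agent.PLocal.SL2Perfect.commutator_eq_top (by norm_num) (by norm_num)

/-- An element of order four. -/
def y4 : S := ⟨!![0, 1; -1, 0], by decide⟩
/-- An element of order three. -/
def y3 : S := ⟨!![0, 1; -1, -1], by decide⟩
/-- An element of order five. -/
def y5 : S := ⟨!![1, 1; 0, 1], by decide⟩

theorem natCard_centralizer (y : S) :
    Nat.card (Subgroup.centralizer ({y} : Set S)) = (Finset.univ.filter fun x : S => x * y = y * x).card := by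
  rw [← Fintype.card_subtype, ← Nat.card_eq_fintype_card]
  refine Nat.card_congr (Equiv.subtypeEquivRight fun x => ?_)
  exact Subgroup.mem_centralizer_singleton_iff

set_option maxHeartbeats 4000000 in
theorem cent4 : (Finset.univ.filter fun x : S => x * y4 = y4 * x).card = 4 := by decide +kernel
set_option maxHeartbeats 4000000 in
theorem cent3 : (Finset.univ.filter fun x : S => x * y3 = y3 * x).card = 6 := by decide +kernel
set_option maxHeartbeats 4000000 in
theorem cent5 : (Finset.univ.filter fun x : S => x * y5 = y5 * x).card = 10 := by decide +kernel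

theorem order4 : orderOf y4 = 4 := by
  have : Fact (Nat.Prime 2) := ⟨Nat.prime_two⟩
  apply orderOf_eq_prime_pow (p := 2) (n := 1)
  · decide +kernel
  · decide +kernel

theorem order3 : orderOf y3 = 3 := by
  have : Fact (Nat.Prime 3) := ⟨Nat.prime_three⟩
  apply orderOf_eq_prime
  · decide +kernel
  · decide +kernel

theorem order5 : orderOf y5 = 5 := by
  have : Fact (Nat.Prime 5) := ⟨Nat.prime_five⟩
  apply orderOf_eq_prime
  · decide +kernel
  · decide +kernel

/-- For `r = 2, 3, 5` there is an `r`-element with a small centraliser. -/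
theorem exists_small {r : ℕ} (hr : r = 2 ∨ r = 3 ∨ r = 5) : ∃ (y : S) (c : ℕ), orderOf y = r ^ c ∧
    y ≠ 1 ∧ Nat.card (Subgroup.centralizer ({y} : Set S)) < r * orderOf y := by
  rcases hr with rfl | rfl | rfl
  · refine ⟨y4, 2, order4, ?_, ?_⟩
    · intro h
      have := order4
      rw [h, orderOf_one] at this
      omega
    · rw [natCard_centralizer, cent4, order4]; norm_num
  · refine ⟨y3, 1, order3, ?_, ?_⟩
    · intro h
      have := order3
      rw [h, orderOf_one] at this
      omega
    · rw [natCard_centralizer, cent3, order3]; norm_num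
  · refine ⟨y5, 1, order5, ?_, ?_⟩
    · intro h
      have := order5
      rw [h, orderOf_one] at this
      omega
    · rw [natCard_centralizer, cent5, order5]; norm_num

end Cfsg.Agent.H697.SL25
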