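import Cfsg.Agent.H697.Pk
import Cfsg.Agent.H697.SL25
import Cfsg.Agent.H697.ClassCount

/-!
# Extensions of `SL(2,5)` have at least eleven classes
-/

set_option autoImplicit false

namespace Cfsg.Agent.H697.LemmaY

open Cfsg.Agent.H697.Pk

section elementary

variable {Y : Type*} [Group Y] [Finite Y] (N : Subgroup Y) [N.Normal]

/-- A normal subgroup whose nontrivial elements are conjugate is elementary abelian. -/
theorem elementary (hN1 : N ≠ ⊥) (hconj : ∀ x ∈ N, ∀ y ∈ N, x ≠ 1 → y ≠ 1 → IsConj x y) :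
    ∃ r : ℕ, r.Prime ∧ (∀ x ∈ N, x ^ r = 1) ∧ (∀ x ∈ N, ∀ y ∈ N, x * y = y * x) := by
  obtain ⟨x₀, hx₀, hx₀1⟩ : ∃ x : Y, x ∈ N ∧ x ≠ 1 := by
    by_contra hcon
    push Not at hcon
    exact hN1 ((Subgroup.eq_bot_iff_forall _).2 hcon)
  have hord : orderOf x₀ ≠ 1 := fun h => hx₀1 (orderOf_eq_one_iff.1 h)
  obtain ⟨r, hr, hrd⟩ := Nat.exists_prime_and_dvd hord
  have : Fact r.Prime := ⟨hr⟩
  have hpos := orderOf_pos x₀
  have hx1o : orderOf (x₀ ^ (orderOf x₀ / r)) = r := by
    rw [orderOf_pow_of_dvd (Nat.div_pos (Nat.le_of_dvd hpos hrd) hr.pos).ne' (Nat.div_dvd_of_dvd hrd)]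
    exact Nat.div_div_self hrd hpos.ne'
  have hx1 : x₀ ^ (orderOf x₀ / r) ≠ 1 := by
    intro h
    rw [h, orderOf_one] at hx1o
    exact hr.one_lt.ne hx1o
  have hexp : ∀ x ∈ N, x ^ r = 1 := by
    intro x hx
    by_cases h1 : x = 1
    · rw [h1, one_pow]
    · obtain ⟨c, hc⟩ := isConj_iff.1 (hconj _ (N.pow_mem hx₀ (orderOf x₀ / r)) x hx hx1 h1)
      have hx1p : (x₀ ^ (orderOf x₀ / r)) ^ r = 1 := by
        have := pow_orderOf_eq_one (x₀ ^ (orderOf x₀ / r))
        rwa [hx1o] at this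
      rw [← hc, conj_pow, hx1p, mul_one, mul_inv_cancel]
  refine ⟨r, hr, hexp, ?_⟩
  have hNp : IsPGroup r N := by
    rintro ⟨x, hx⟩
    exact ⟨1, Subtype.ext (by rw [pow_one]; exact hexp x hx)⟩
  have : Nontrivial N := (Subgroup.nontrivial_iff_ne_bot N).2 hN1
  have hc := hNp.center_nontrivial
  obtain ⟨z, hz⟩ := exists_ne (1 : Subgroup.center N)
  have hz1 : ((z : N) : Y) ≠ 1 := fun h => hz (Subtype.ext (Subtype.ext h))
  have hzc : ∀ n ∈ N, n * ((z : N) : Y) = ((z : N) : Y) * n := by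
    intro n hn
    have := (Subgroup.mem_center_iff.1 z.2) ⟨n, hn⟩
    exact congrArg Subtype.val this
  intro x hx y hy
  by_cases h1 : x = 1
  · rw [h1, one_mul, mul_one]
  obtain ⟨c, hc⟩ := isConj_iff.1 (hconj _ (z : N).2 x hx hz1 h1)
  have hNn : N.Normal := inferInstance
  have h2 := hzc (c⁻¹ * y * c⁻¹⁻¹) (hNn.conj_mem y hy c⁻¹)
  rw [inv_inv] at h2
  rw [← hc]
  calc c * ((z : N) : Y) * c⁻¹ * y = c * (((z : N) : Y) * (c⁻¹ * y * c)) * c⁻¹ := by group
    _ = c * ((c⁻¹ * y * c) * ((z : N) : Y)) * c⁻¹ := by rw [h2]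
    _ = y * (c * ((z : N) : Y) * c⁻¹) := by group

/-- The order of such a subgroup minus one divides the index of any normal subgroup centralising it. -/
theorem card_sub_one_dvd (hN1 : N ≠ ⊥) (hconj : ∀ x ∈ N, ∀ y ∈ N, x ≠ 1 → y ≠ 1 → IsConj x y)
    (K : Subgroup Y) (hK : ∀ x ∈ N, ∀ y ∈ K, x * y = y * x) : Nat.card N - 1 ∣ K.index := by
  obtain ⟨x₀, hx₀, hx₀1⟩ : ∃ x : Y, x ∈ N ∧ x ≠ 1 := by
    by_contra hcon
    push Not at hcon
    exact hN1 ((Subgroup.eq_bot_iff_forall _).2 hcon)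
  have hNn : N.Normal := inferInstance
  have hcl : (ConjClasses.mk x₀).carrier = (N : Set Y) \ {1} := by
    ext y
    rw [ConjClasses.mem_carrier_iff_mk_eq, ConjClasses.mk_eq_mk_iff_isConj]
    constructor
    · intro h
      obtain ⟨c, hc⟩ := isConj_iff.1 h.symm
      refine ⟨?_, ?_⟩
      · rw [← hc]; exact hNn.conj_mem x₀ hx₀ c
      · rintro rfl
        exact hx₀1 (isConj_one_right.1 h)
    · rintro ⟨hy, hy1⟩
      exact hconj y hy x₀ hx₀ hy1 hx₀1
  have h1 := ClassCount.index_centralizer x₀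
  rw [hcl, Set.ncard_sdiff_singleton_of_mem N.one_mem] at h1
  have h2 : Nat.card N = (N : Set Y).ncard := (Nat.card_coe_set_eq (N : Set Y))
  rw [h2, ← h1]
  apply Subgroup.index_dvd_of_le
  intro y hy
  rw [Subgroup.mem_centralizer_singleton_iff]
  exact (hK x₀ hx₀ y hy).symm

end elementary

section small

variable {Y : Type*} [Group Y] [Finite Y] (N : Subgroup Y) [N.Normal]

/-- If `g` is conjugate to all elements of `g N`, then `|C(g)| ≤ |C(g N)|`. -/
theorem card_centralizer_le (g : Y) (h : ∀ n ∈ N, IsConj g (g * n)) :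
    Nat.card (Subgroup.centralizer ({g} : Set Y)) ≤
      Nat.card (Subgroup.centralizer ({(g : Y ⧸ N)} : Set (Y ⧸ N))) := by
  classical
  have hNn : N.Normal := inferInstance
  let f : (ConjClasses.mk (g : Y ⧸ N)).carrier × N → (ConjClasses.mk g).carrier := fun x =>
    ⟨x.1.1.out * (x.2 : Y), by
      obtain ⟨⟨q, hq⟩, n, hn⟩ := x
      rw [ConjClasses.mem_carrier_iff_mk_eq, ConjClasses.mk_eq_mk_iff_isConj] at hq ⊢
      obtain ⟨t, ht⟩ := isConj_iff.1 hq.symm
      obtain ⟨t, rfl⟩ := QuotientGroup.mk_surjective t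
      have h1 : (t * g * t⁻¹)⁻¹ * (q.out * n) ∈ N := by
        rw [← QuotientGroup.eq]
        rw [QuotientGroup.mk_mul, QuotientGroup.mk_mul, QuotientGroup.mk_mul, QuotientGroup.mk_inv,
          ht, QuotientGroup.out_eq', (QuotientGroup.eq_one_iff n).2 hn, mul_one]
      have h2 : t⁻¹ * ((t * g * t⁻¹)⁻¹ * (q.out * n)) * t⁻¹⁻¹ ∈ N := hNn.conj_mem _ h1 t⁻¹
      have h3 : IsConj g (g * (t⁻¹ * ((t * g * t⁻¹)⁻¹ * (q.out * n)) * t⁻¹⁻¹)) := h _ h2
      have h4 : IsConj (g * (t⁻¹ * ((t * g * t⁻¹)⁻¹ * (q.out * n)) * t⁻¹⁻¹)) (q.out * n) := by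
        rw [isConj_iff]
        refine ⟨t, ?_⟩
        group
      exact (h3.trans h4).symm⟩
  have hf : Function.Injective f := by
    rintro ⟨⟨q, hq⟩, n, hn⟩ ⟨⟨q', hq'⟩, n', hn'⟩ hx
    have h1 : q.out * n = q'.out * n' := congrArg Subtype.val hx
    have h2 : q = q' := by
      have h3 := congrArg (fun y : Y => (y : Y ⧸ N)) h1
      simp only [QuotientGroup.mk_mul] at h3
      rw [QuotientGroup.out_eq', QuotientGroup.out_eq', (QuotientGroup.eq_one_iff n).2 hn,
        (QuotientGroup.eq_one_iff n').2 hn', mul_one, mul_one] at h3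
      exact h3
    subst h2
    have h3 : n = n' := mul_left_cancel h1
    subst h3
    rfl
  have h1 := Nat.card_le_card_of_injective f hf
  rw [Nat.card_prod, Nat.card_coe_set_eq, Nat.card_coe_set_eq, ← ClassCount.index_centralizer,
    ← ClassCount.index_centralizer] at h1
  have h2 := (Subgroup.centralizer ({g} : Set Y)).card_mul_index
  have h3 := (Subgroup.centralizer ({(g : Y ⧸ N)} : Set (Y ⧸ N))).card_mul_index
  have h4 := Subgroup.card_eq_card_quotient_mul_card_subgroup N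
  set a := Nat.card (Subgroup.centralizer ({g} : Set Y))
  set b := Nat.card (Subgroup.centralizer ({(g : Y ⧸ N)} : Set (Y ⧸ N)))
  set i := (Subgroup.centralizer ({g} : Set Y)).index
  set j := (Subgroup.centralizer ({(g : Y ⧸ N)} : Set (Y ⧸ N))).index
  have hi : 0 < i := Nat.pos_of_ne_zero Subgroup.index_ne_zero_of_finite
  have h5 : a * (j * Nat.card N) ≤ b * (j * Nat.card N) := by
    calc a * (j * Nat.card N) ≤ a * i := Nat.mul_le_mul le_rfl h1
      _ = Nat.card Y := h2
      _ = b * (j * Nat.card N) := by rw [h4, ← h3]; ring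
  have hj : 0 < j * Nat.card N :=
    Nat.mul_pos (Nat.pos_of_ne_zero Subgroup.index_ne_zero_of_finite) Nat.card_pos
  exact Nat.le_of_mul_le_mul_right h5 hj

/-- A lower bound for the centraliser of an `r`-element. -/
theorem le_card_centralizer {r : ℕ} [Fact r.Prime] (hN1 : N ≠ ⊥) (hNr : ∀ x ∈ N, x ^ r = 1) (g : Y)
    {a : ℕ} (hg : orderOf (g : Y ⧸ N) = r ^ a) :
    r * orderOf (g : Y ⧸ N) ≤ Nat.card (Subgroup.centralizer ({g} : Set Y)) := by
  classical
  have hr : r.Prime := Fact.out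
  have hNn : N.Normal := inferInstance
  have hNp : IsPGroup r N := by
    rintro ⟨x, hx⟩
    exact ⟨1, Subtype.ext (by rw [pow_one]; exact hNr x hx)⟩
  have hgp : IsPGroup r (Subgroup.zpowers g) := by
    have h1 : g ^ r ^ (a + 1) = 1 := by
      have h2 : g ^ r ^ a ∈ N := by
        rw [← QuotientGroup.eq_one_iff, QuotientGroup.mk_pow, ← hg, pow_orderOf_eq_one]
      rw [pow_succ, pow_mul]
      exact hNr _ h2
    rintro ⟨_, i, rfl⟩
    refine ⟨a + 1, Subtype.ext ?_⟩
    show (g ^ i) ^ r ^ (a + 1) = 1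
    rw [← zpow_natCast, ← zpow_mul, mul_comm, zpow_mul, zpow_natCast, h1, one_zpow]
  -- fixed points
  obtain ⟨x, hxN, hx1, hxg⟩ : ∃ x ∈ N, x ≠ 1 ∧ g * x = x * g := by
    let act : MulAction (Subgroup.zpowers g) N :=
      MulAction.compHom N ((MulAut.conjNormal (H := N)).comp (Subgroup.zpowers g).subtype)
    have hact : ∀ (k : Subgroup.zpowers g) (x : N), ((k • x : N) : Y) = (k : Y) * x * (k : Y)⁻¹ :=
      fun k x => rfl
    have h1 := hgp.card_modEq_card_fixedPoints N
    have h2 : r ∣ Nat.card N := by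
      obtain ⟨n, hn⟩ := IsPGroup.iff_card.1 hNp
      rw [hn]
      apply dvd_pow_self
      rintro rfl
      rw [pow_zero] at hn
      exact hN1 (Subgroup.eq_bot_of_card_eq _ hn)
    have h3 : r ∣ Nat.card (MulAction.fixedPoints (Subgroup.zpowers g) N) :=
      (Nat.modEq_zero_iff_dvd.1 (h1.symm.trans (Nat.modEq_zero_iff_dvd.2 h2)))
    have h4 : (1 : N) ∈ MulAction.fixedPoints (Subgroup.zpowers g) N := by
      intro k
      apply Subtype.ext
      rw [hact]
      simp
    have h5 : 1 < Nat.card (MulAction.fixedPoints (Subgroup.zpowers g) N) := by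
      have : 0 < Nat.card (MulAction.fixedPoints (Subgroup.zpowers g) N) :=
        Nat.card_pos_iff.2 ⟨⟨⟨1, h4⟩⟩, inferInstance⟩
      exact hr.one_lt.trans_le (Nat.le_of_dvd this h3)
    have : Nontrivial (MulAction.fixedPoints (Subgroup.zpowers g) N) :=
      Finite.one_lt_card_iff_nontrivial.1 h5
    obtain ⟨⟨y, hy⟩, hy1⟩ := exists_ne (⟨1, h4⟩ : MulAction.fixedPoints (Subgroup.zpowers g) N)
    refine ⟨y, y.2, fun h => hy1 (Subtype.ext (Subtype.ext h)), ?_⟩
    have h6 := congrArg Subtype.val (hy ⟨g, Subgroup.mem_zpowers g⟩)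
    rw [hact] at h6
    exact mul_inv_eq_iff_eq_mul.1 h6
  have hxr : orderOf x = r := orderOf_eq_prime (hNr x hxN) hx1
  set C := Subgroup.centralizer ({g} : Set Y) with hC
  have hgC : g ∈ C := Subgroup.mem_centralizer_singleton_iff.2 rfl
  have hxC : x ∈ C := Subgroup.mem_centralizer_singleton_iff.2 hxg.symm
  let π : C →* Y ⧸ N := (QuotientGroup.mk' N).comp C.subtype
  have h1 : Nat.card C = Nat.card π.range * Nat.card π.ker := by
    rw [Subgroup.card_eq_card_quotient_mul_card_subgroup π.ker]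
    congr 1
    exact Nat.card_congr (QuotientGroup.quotientKerEquivRange π).toEquiv
  have h2 : orderOf (g : Y ⧸ N) ≤ Nat.card π.range := by
    have h3 : ((g : Y ⧸ N)) ∈ π.range := ⟨⟨g, hgC⟩, rfl⟩
    exact Nat.le_of_dvd Nat.card_pos (Subgroup.orderOf_dvd_natCard _ h3)
  have h3 : r ≤ Nat.card π.ker := by
    have h4 : (⟨x, hxC⟩ : C) ∈ π.ker := (QuotientGroup.eq_one_iff x).2 hxN
    have h5 : orderOf (⟨x, hxC⟩ : C) = r := by rw [← Subgroup.orderOf_coe]; exact hxr
    rw [← h5]
    exact Nat.le_of_dvd Nat.card_pos (Subgroup.orderOf_dvd_natCard _ h4)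
  rw [h1, mul_comm]
  exact Nat.mul_le_mul h2 h3

end small

theorem arith {r a m : ℕ} (hr : r.Prime) (h11 : r ≠ 11) (h2 : r ≠ 2) (h3 : r ≠ 3) (h5 : r ≠ 5)
    (hm : m = r ^ a) (ha : 0 < a) (h : m - 1 ∣ 120) : a = 1 := by
  have hr7 : 7 ≤ r := by
    by_contra hc
    push Not at hc
    interval_cases r <;> first | omega | (revert hr; decide)
  have hle : m - 1 ≤ 120 := Nat.le_of_dvd (by norm_num) h
  by_contra hne
  have ha2 : 2 ≤ a := by omega
  have h7 : r ^ 2 ≤ m := by rw [hm]; exact Nat.pow_le_pow_right hr.pos ha2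
  have hr11 : r ≤ 10 := by
    by_contra hc
    push Not at hc
    have : 12 ≤ r := by omega
    have : 12 ^ 2 ≤ r ^ 2 := Nat.pow_le_pow_left this 2
    omega
  have hr7' : r = 7 := by
    interval_cases r
    · rfl
    · revert hr; decide
    · revert hr; decide
    · revert hr; decide
  subst hr7'
  have ha3 : a = 2 := by
    by_contra hc
    have h8 : 7 ^ 3 ≤ m := by rw [hm]; exact Nat.pow_le_pow_right hr.pos (by omega)
    omega
  subst ha3
  rw [hm] at h
  revert h; decide

/-- **Extensions of `SL(2,5)`** by a nontrivial `11'`-group have at least eleven classes. -/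
theorem main {Y : Type*} [Group Y] [Finite Y] (N : Subgroup Y) [N.Normal] (hN1 : N ≠ ⊥)
    (e : (Y ⧸ N) ≃* SL25.S) (h11 : ¬ 11 ∣ Nat.card N) : 11 ≤ Nat.card (ConjClasses Y) := by
  classical
  have : Fact (Nat.Prime 11) := ⟨by norm_num⟩
  by_contra hcon
  push Not at hcon
  have hcardQ : Nat.card (Y ⧸ N) = 120 := by rw [Nat.card_congr e.toEquiv, SL25.natCard_S]
  have hcardY : Nat.card Y = 120 * Nat.card N := by
    rw [Subgroup.card_eq_card_quotient_mul_card_subgroup N, hcardQ]
  have hY : ¬ 11 ∣ Nat.card Y := by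
    rw [hcardY]
    intro h
    rcases (Nat.Prime.dvd_mul (by norm_num)).1 h with h | h
    · revert h; decide
    · exact h11 h
  have hQ : ¬ 11 ∣ Nat.card (Y ⧸ N) := by rw [hcardQ]; decide
  obtain ⟨-, h2⟩ := card_quotient_add_one_le (p := 11) N h11 hN1
  rw [card_eq_of_not_dvd hY, card_eq_of_not_dvd hQ, ClassCount.card_conjClasses_congr e,
    SL25.card_conjClasses] at h2
  obtain ⟨hconj, hcos⟩ := h2 (by omega)
  have hreg : ∀ g : Y, ¬ 11 ∣ orderOf g := fun g h => hY (h.trans (orderOf_dvd_natCard g))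
  obtain ⟨r, hr, hNr, hNc⟩ := elementary N hN1 hconj
  have : Fact r.Prime := ⟨hr⟩
  have hNn : N.Normal := inferInstance
  have hNp : IsPGroup r N := by
    rintro ⟨x, hx⟩
    exact ⟨1, Subtype.ext (by rw [pow_one]; exact hNr x hx)⟩
  obtain ⟨a, ha⟩ := IsPGroup.iff_card.1 hNp
  have ha0 : 0 < a := by
    apply Nat.pos_of_ne_zero
    rintro rfl
    rw [pow_zero] at ha
    exact hN1 (Subgroup.eq_bot_of_card_eq _ ha)
  have hdvd : Nat.card N - 1 ∣ 120 := by
    have h3 := card_sub_one_dvd N hN1 hconj N hNc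
    have h4 : N.index = 120 := hcardQ
    rwa [h4] at h3
  by_cases hsmall : r = 2 ∨ r = 3 ∨ r = 5
  · obtain ⟨y, c, hyo, hy1, hyc⟩ := SL25.exists_small hsmall
    obtain ⟨g, hg⟩ := QuotientGroup.mk_surjective (e.symm y)
    have hgo : orderOf (g : Y ⧸ N) = orderOf y := by
      rw [hg]; exact MulEquiv.orderOf_eq e.symm y
    have hgN : g ∉ N := by
      intro h
      have h3 : (g : Y ⧸ N) = 1 := (QuotientGroup.eq_one_iff g).2 h
      rw [h3] at hg
      apply hy1
      rw [← e.apply_symm_apply y, ← hg, map_one]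
    have h3 := card_centralizer_le N g (fun n hn => hcos g n (hreg g) hgN hn (hreg _))
    have h4 := le_card_centralizer N hN1 hNr g (hgo.trans hyo)
    have h5 : Nat.card (Subgroup.centralizer ({(g : Y ⧸ N)} : Set (Y ⧸ N))) =
        Nat.card (Subgroup.centralizer ({y} : Set SL25.S)) := by
      refine Nat.card_congr (e.toEquiv.subtypeEquiv fun x => ?_)
      rw [Subgroup.mem_centralizer_singleton_iff, Subgroup.mem_centralizer_singleton_iff, hg]
      constructor
      · intro h6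
        have := congrArg e h6
        rw [map_mul, map_mul, e.apply_symm_apply] at this
        exact this
      · intro h6
        apply e.injective
        rw [map_mul, map_mul, e.apply_symm_apply]
        exact h6
    rw [hgo] at h4
    omega
  · push Not at hsmall
    have ha1 := arith hr (by
      rintro rfl
      exact h11 (by rw [ha]; exact dvd_pow_self 11 ha0.ne')) hsmall.1 hsmall.2.1 hsmall.2.2 ha ha0 hdvd
    rw [ha1, pow_one] at ha
    -- `N` is cyclic, hence central
    have : Nontrivial N := (Subgroup.nontrivial_iff_ne_bot N).2 hN1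
    obtain ⟨⟨x, hx⟩, hx1⟩ := exists_ne (1 : N)
    have hx1' : x ≠ 1 := fun h => hx1 (Subtype.ext h)
    have hNx : ∀ y ∈ N, y ∈ Subgroup.zpowers x := by
      have h3 : Subgroup.zpowers x = N := by
        apply Subgroup.eq_of_le_of_card_ge (by rw [Subgroup.zpowers_le]; exact hx)
        rw [ha, Nat.card_zpowers, orderOf_eq_prime (hNr x hx) hx1']
      intro y hy
      rw [h3]; exact hy
    have hcomm : commutator Y ≤ Subgroup.centralizer {x} := by
      rw [commutator_def, Subgroup.commutator_le]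
      intro g _ h _
      rw [Subgroup.mem_centralizer_singleton_iff]
      obtain ⟨i, hi⟩ := hNx _ (hNn.conj_mem x hx g)
      obtain ⟨j, hj⟩ := hNx _ (hNn.conj_mem x hx h)
      have hi' : x ^ i = g * x * g⁻¹ := hi
      have hj' : x ^ j = h * x * h⁻¹ := hj
      have h3 : g * h * x * h⁻¹ * g⁻¹ = h * g * x * g⁻¹ * h⁻¹ := by
        calc g * h * x * h⁻¹ * g⁻¹ = g * (h * x * h⁻¹) * g⁻¹ := by group
          _ = (g * x * g⁻¹) ^ j := by rw [← hj', conj_zpow]
          _ = x ^ (i * j) := by rw [← hi', zpow_mul]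
          _ = (h * x * h⁻¹) ^ i := by rw [← hj', ← zpow_mul, mul_comm]
          _ = h * (g * x * g⁻¹) * h⁻¹ := by rw [← hi', conj_zpow]
          _ = h * g * x * g⁻¹ * h⁻¹ := by group
      -- `⁅g, h⁆` evaluated at the conjugate
      have h4 : ∀ y ∈ N, g * h * y * h⁻¹ * g⁻¹ = h * g * y * g⁻¹ * h⁻¹ := by
        intro y hy
        obtain ⟨k, hk⟩ := hNx y hy
        have hk' : x ^ k = y := hk
        calc g * h * y * h⁻¹ * g⁻¹ = (g * h) * x ^ k * (g * h)⁻¹ := by rw [hk']; group
          _ = (g * h * x * (g * h)⁻¹) ^ k := by rw [conj_zpow]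
          _ = (h * g * x * (h * g)⁻¹) ^ k := by
            congr 1
            have : g * h * x * (g * h)⁻¹ = g * h * x * h⁻¹ * g⁻¹ := by group
            rw [this, h3]; group
          _ = (h * g) * x ^ k * (h * g)⁻¹ := by rw [conj_zpow]
          _ = h * g * y * g⁻¹ * h⁻¹ := by rw [hk']; group
      have h5 := h4 (g⁻¹ * (h⁻¹ * x * h) * g) (by
        have h6 := hNn.conj_mem _ (hNn.conj_mem x hx h⁻¹) g⁻¹
        simpa using h6)
      have h6 : h * g * (g⁻¹ * (h⁻¹ * x * h) * g) * g⁻¹ * h⁻¹ = x := by group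
      rw [h6] at h5
      rw [commutatorElement_def]
      have h7 : g * h * g⁻¹ * h⁻¹ * x = g * h * (g⁻¹ * (h⁻¹ * x * h) * g) * h⁻¹ * g⁻¹ *
          (g * h * g⁻¹ * h⁻¹) := by group
      rw [h7, h5]
    have hperf : commutator Y ⊔ N = ⊤ := by
      have h3 : commutator (Y ⧸ N) = ⊤ := by
        have h4 := SL25.perfect
        have h5 : (commutator SL25.S).map e.symm.toMonoidHom = commutator (Y ⧸ N) := by
          rw [commutator_def, commutator_def, Subgroup.map_commutator,
            Subgroup.map_top_of_surjective _ e.symm.surjective]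
        rw [← h5, h4, Subgroup.map_top_of_surjective _ e.symm.surjective]
      have h4 : (commutator Y).map (QuotientGroup.mk' N) = ⊤ := by
        rw [commutator_def, Subgroup.map_commutator,
          Subgroup.map_top_of_surjective _ (QuotientGroup.mk'_surjective N), ← commutator_def, h3]
      have h5 := congrArg (Subgroup.comap (QuotientGroup.mk' N)) h4
      rw [Subgroup.comap_map_eq, QuotientGroup.ker_mk', Subgroup.comap_top] at h5
      exact h5
    have hcen : Subgroup.centralizer ({x} : Set Y) = ⊤ := by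
      rw [eq_top_iff, ← hperf, sup_le_iff]
      refine ⟨hcomm, fun n hn => ?_⟩
      rw [Subgroup.mem_centralizer_singleton_iff]
      exact hNc n hn x hx
    have h3 : x⁻¹ = x := by
      have hx2 : x⁻¹ ≠ 1 := fun h => hx1' (inv_eq_one.1 h)
      obtain ⟨c, hc⟩ := isConj_iff.1 (hconj x hx x⁻¹ (N.inv_mem hx) hx1' hx2)
      have h4 : c ∈ Subgroup.centralizer ({x} : Set Y) := by rw [hcen]; exact Subgroup.mem_top c
      rw [Subgroup.mem_centralizer_singleton_iff] at h4
      rw [← hc, h4, mul_inv_cancel_right]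
    have h4 : orderOf x = r := orderOf_eq_prime (hNr x hx) hx1'
    have h5 : orderOf x ∣ 2 := by
      apply orderOf_dvd_of_pow_eq_one
      rw [sq]
      nth_rewrite 1 [← h3]
      exact inv_mul_cancel x
    rw [h4] at h5
    exact hsmall.1 ((Nat.prime_dvd_prime_iff_eq hr Nat.prime_two).1 h5)

end Cfsg.Agent.H697.LemmaY
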