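import Cfsg.Agent.H697.LinMain
import Cfsg.Agent.H697.LemmaY
import Cfsg.Agent.Lib.Cores
import Cfsg.Agent.Lib.PSolvable

/-!
# Groups acting transitively on the nonzero elements of an elementary abelian group
-/

set_option autoImplicit false
set_option linter.style.haveILetI false

namespace Cfsg.Agent.H697.ActMain

open Module
open scoped Pointwise

variable {p : ℕ} [hp : Fact p.Prime]

theorem act_main {D E : Type*} [Group D] [Finite D] [AddCommGroup E] [Finite E] [Nontrivial E]
    [DistribMulAction D E] [FaithfulSMul D E] (hE : ∀ e : E, p • e = 0)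
    (htr : ∀ a b : E, a ≠ 0 → b ≠ 0 → ∃ d : D, d • a = b) (hpD : ¬ p ∣ Nat.card D) :
    p ≤ Nat.card (ConjClasses D) ∨ Nat.card E = p ∨
      (p = 11 ∧ Nat.card E = 121 ∧ Nat.card D = 120 ∧ Nonempty (D ≃* SL25.S)) := by
  classical
  obtain ⟨_inst⟩ : Nonempty (Module (ZMod p) E) := ⟨AddCommGroup.zmodModule hE⟩
  let lin : D → (E ≃ₗ[ZMod p] E) := fun d =>
    { toFun := fun x => d • x
      invFun := fun x => d⁻¹ • x
      map_add' := fun x y => smul_add d x y
      map_smul' := fun c x => by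
        have h := ((DistribSMul.toAddMonoidHom E d).toZModLinearMap p).map_smul c x
        exact h
      left_inv := fun x => inv_smul_smul d x
      right_inv := fun x => smul_inv_smul d x }
  have hlin : ∀ d x, lin d x = d • x := fun _ _ => rfl
  let φ : D →* (E ≃ₗ[ZMod p] E) :=
    { toFun := lin
      map_one' := by
        apply LinearEquiv.ext
        intro x
        rw [hlin, one_smul]
        rfl
      map_mul' := fun a b => by
        apply LinearEquiv.ext
        intro x
        rw [LinearEquiv.mul_apply, hlin, hlin, hlin, mul_smul] }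
  have hφ : ∀ d x, φ d x = d • x := fun _ _ => rfl
  have hinj : Function.Injective φ := by
    intro a b hab
    apply FaithfulSMul.eq_of_smul_eq_smul (α := E)
    intro x
    rw [← hφ, ← hφ, hab]
  let e : D ≃* φ.range := MonoidHom.ofInjective hinj
  have hcard : Nat.card φ.range = Nat.card D := (Nat.card_congr e.toEquiv).symm
  rcases LinMain.main (p := p) φ.range (by
    intro v w hv hw
    obtain ⟨d, hd⟩ := htr v w hv hw
    exact ⟨φ d, ⟨d, rfl⟩, hd⟩) (by rw [hcard]; exact hpD) with h | h | ⟨h1, h2, h3, ⟨h4⟩⟩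
  · left
    rwa [ClassCount.card_conjClasses_congr e]
  · right; left
    rw [Hering.card_eq (p := p) (V := E), h, pow_one]
  · right; right
    exact ⟨h1, h2, by rw [← hcard]; exact h3, ⟨e.trans h4⟩⟩

/-- Group version: a complement acting transitively. -/
theorem grp_main {Q : Type*} [Group Q] [Finite Q] (V H : Subgroup Q) (hVn : V.Normal)
    (hVc : ∀ x ∈ V, ∀ y ∈ V, x * y = y * x) (hVp : ∀ x ∈ V, x ^ p = 1) (hV1 : V ≠ ⊥)
    (hfaith : ∀ h ∈ H, (∀ v ∈ V, h * v = v * h) → h = 1)
    (htr : ∀ v ∈ V, ∀ w ∈ V, v ≠ 1 → w ≠ 1 → ∃ h ∈ H, h * v * h⁻¹ = w) (hpH : ¬ p ∣ Nat.card H) :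
    p ≤ Nat.card (ConjClasses H) ∨ Nat.card V = p ∨
      (p = 11 ∧ Nat.card V = 121 ∧ Nat.card H = 120 ∧ Nonempty (H ≃* SL25.S)) := by
  classical
  letI : CommGroup V :=
    { (inferInstance : Group V) with
      mul_comm := fun a b => Subtype.ext (hVc a a.2 b b.2) }
  have hnt : Nontrivial V := (Subgroup.nontrivial_iff_ne_bot V).2 hV1
  have : Nontrivial (Additive V) := hnt
  let c : H → V → V := fun h v => ⟨h * v * (h : Q)⁻¹, hVn.conj_mem v v.2 h⟩
  letI : DistribMulAction H (Additive V) :=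
    { smul := fun h v => Additive.ofMul (c h (Additive.toMul v))
      one_smul := fun v => by
        apply Additive.toMul.injective
        apply Subtype.ext
        show ((1 : H) : Q) * ((Additive.toMul v : V) : Q) * ((1 : H) : Q)⁻¹ = _
        simp
      mul_smul := fun a b v => by
        apply Additive.toMul.injective
        apply Subtype.ext
        show ((a * b : H) : Q) * ((Additive.toMul v : V) : Q) * ((a * b : H) : Q)⁻¹ =
          (a : Q) * ((b : Q) * ((Additive.toMul v : V) : Q) * (b : Q)⁻¹) * (a : Q)⁻¹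
        rw [Subgroup.coe_mul]
        group
      smul_zero := fun a => by
        apply Additive.toMul.injective
        apply Subtype.ext
        show (a : Q) * ((1 : V) : Q) * (a : Q)⁻¹ = ((1 : V) : Q)
        simp
      smul_add := fun a v w => by
        apply Additive.toMul.injective
        apply Subtype.ext
        show (a : Q) * (((Additive.toMul v : V) : Q) * ((Additive.toMul w : V) : Q)) * (a : Q)⁻¹ =
          ((a : Q) * ((Additive.toMul v : V) : Q) * (a : Q)⁻¹) *
            ((a : Q) * ((Additive.toMul w : V) : Q) * (a : Q)⁻¹)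
        group }
  have hsmul : ∀ (h : H) (v : V), ((Additive.toMul (h • Additive.ofMul v) : V) : Q) =
      (h : Q) * v * (h : Q)⁻¹ := fun _ _ => rfl
  have hF : FaithfulSMul H (Additive V) := by
    refine ⟨fun {a b} hab => ?_⟩
    have h1 : ∀ v ∈ V, (a : Q) * v * (a : Q)⁻¹ = (b : Q) * v * (b : Q)⁻¹ := by
      intro v hv
      have h2 := hab (Additive.ofMul (⟨v, hv⟩ : V))
      have h3 := congrArg (fun z : Additive V => ((Additive.toMul z : V) : Q)) h2
      exact h3
    have h2 : (b : Q)⁻¹ * a = 1 := by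
      apply hfaith _ (H.mul_mem (H.inv_mem b.2) a.2)
      intro v hv
      have h3 := h1 v hv
      have h4 : (a : Q) * v = (b : Q) * v * (b : Q)⁻¹ * a := by
        rw [← h3]; group
      rw [mul_assoc, h4]
      group
    exact Subtype.ext (inv_mul_eq_one.1 h2).symm
  have hfin : Finite (Additive V) := inferInstanceAs (Finite V)
  rcases act_main (p := p) (D := H) (E := Additive V) (by
    intro x
    apply Additive.toMul.injective
    apply Subtype.ext
    show (((Additive.toMul x : V) ^ p : V) : Q) = 1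
    rw [Subgroup.coe_pow]
    exact hVp _ (Additive.toMul x).2) (by
    intro a b ha hb
    obtain ⟨h, hh, hhb⟩ := htr _ (Additive.toMul a).2 _ (Additive.toMul b).2
      (fun h0 => ha (Additive.toMul.injective (Subtype.ext h0)))
      (fun h0 => hb (Additive.toMul.injective (Subtype.ext h0)))
    refine ⟨⟨h, hh⟩, ?_⟩
    apply Additive.toMul.injective
    apply Subtype.ext
    exact hhb) hpH with h | h | h
  · exact Or.inl h
  · exact Or.inr (Or.inl h)
  · exact Or.inr (Or.inr h)

/-- The structure of a `p`-solvable group with trivial `p'`-core and one class of nontrivial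
`p`-elements. -/
theorem structure_of_core {Q : Type*} [Group Q] [Finite Q] (hsol : Cfsg.IsPSolvable p Q)
    (hcore : Cfsg.pPrimeCore p Q = ⊥) (hdiv : p ∣ Nat.card Q)
    (hconj : ∀ x y : Q, x ≠ 1 → y ≠ 1 → (∃ k : ℕ, orderOf x = p ^ k) →
      (∃ k : ℕ, orderOf y = p ^ k) → IsConj x y) :
    ∃ V H : Subgroup Q, V.Normal ∧ (∀ x ∈ V, ∀ y ∈ V, x * y = y * x) ∧ (∀ x ∈ V, x ^ p = 1) ∧
      V ≠ ⊥ ∧ Subgroup.IsComplement' V H ∧ ¬ p ∣ Nat.card H ∧
      (∀ g : Q, (∀ v ∈ V, g * v = v * g) → g ∈ V) ∧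
      (∀ v ∈ V, ∀ w ∈ V, v ≠ 1 → w ≠ 1 → ∃ h ∈ H, h * v * h⁻¹ = w) := by
  classical
  have hp' : p.Prime := hp.out
  have hcent := Cfsg.Agent.Lib.PSolvable.centralizer_pCore_le_of_pSolvable p hsol hcore
  set V := Cfsg.pCore p Q with hV
  have hVn : V.Normal := by rw [hV]; exact Cfsg.Agent.Lib.Cores.pCore_normal p
  have hVp : IsPGroup p V := by rw [hV]; exact Cfsg.Agent.Lib.Cores.pCore_isPGroup p
  have hV1 : V ≠ ⊥ := by
    intro h
    rw [h] at hcent
    have h1 : Subgroup.centralizer ((⊥ : Subgroup Q) : Set Q) = ⊤ := by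
      rw [eq_top_iff]
      intro g _
      rw [Subgroup.mem_centralizer_iff]
      intro x hx
      have hx' : x = 1 := hx
      rw [hx', one_mul, mul_one]
    rw [h1] at hcent
    have h2 : (⊤ : Subgroup Q) = ⊥ := le_bot_iff.1 hcent
    have h3 : Nat.card Q = 1 := by
      rw [← Subgroup.card_top, h2, Subgroup.card_bot]
    rw [h3] at hdiv
    exact hp'.one_lt.ne' (Nat.dvd_one.1 hdiv)
  have hpe : ∀ x ∈ V, ∃ k : ℕ, orderOf x = p ^ k := by
    intro x hx
    obtain ⟨k, hk⟩ := (IsPGroup.iff_orderOf.1 hVp) ⟨x, hx⟩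
    rw [Subgroup.orderOf_mk] at hk
    exact ⟨k, hk⟩
  have hVconj : ∀ x ∈ V, ∀ y ∈ V, x ≠ 1 → y ≠ 1 → IsConj x y := fun x hx y hy hx1 hy1 =>
    hconj x y hx1 hy1 (hpe x hx) (hpe y hy)
  obtain ⟨r, hr, hVr, hVc⟩ := LemmaY.elementary V hV1 hVconj
  obtain ⟨x₀, hx₀, hx₀1⟩ : ∃ x : Q, x ∈ V ∧ x ≠ 1 := by
    by_contra hcon
    push Not at hcon
    exact hV1 ((Subgroup.eq_bot_iff_forall _).2 hcon)
  have hrp : r = p := by
    have : Fact r.Prime := ⟨hr⟩
    obtain ⟨k, hk⟩ := hpe x₀ hx₀
    have h1 : orderOf x₀ = r := orderOf_eq_prime (hVr x₀ hx₀) hx₀1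
    rw [h1] at hk
    have h2 : r ∣ p := hr.dvd_of_dvd_pow (n := k) (by rw [← hk])
    exact (Nat.prime_dvd_prime_iff_eq hr hp').1 h2
  subst hrp
  -- every `p`-element lies in `V`
  have hmem : ∀ y : Q, (∃ k : ℕ, orderOf y = r ^ k) → y ∈ V := by
    intro y hy
    by_cases hy1 : y = 1
    · rw [hy1]; exact V.one_mem
    · obtain ⟨c, hc⟩ := isConj_iff.1 (hconj x₀ y hx₀1 hy1 (hpe x₀ hx₀) hy)
      rw [← hc]
      exact hVn.conj_mem x₀ hx₀ c
  obtain ⟨S⟩ : Nonempty (Sylow r Q) := inferInstance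
  have hSV : (S : Subgroup Q) ≤ V := by
    intro y hy
    apply hmem
    obtain ⟨k, hk⟩ := (IsPGroup.iff_orderOf.1 S.isPGroup') ⟨y, hy⟩
    rw [Subgroup.orderOf_mk] at hk
    exact ⟨k, hk⟩
  have hVS : V = (S : Subgroup Q) := S.is_maximal' hVp hSV
  have hidx : ¬ r ∣ V.index := by
    rw [hVS]
    exact S.not_dvd_index
  have hcop : (Nat.card V).Coprime V.index := by
    obtain ⟨n, hn⟩ := IsPGroup.iff_card.1 hVp
    rw [hn]
    exact Nat.Coprime.pow_left n ((Nat.Prime.coprime_iff_not_dvd hp').2 hidx)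
  obtain ⟨H, hH⟩ := Subgroup.exists_right_complement'_of_coprime hcop
  have hHc : Nat.card H = V.index := hH.symm.index_eq_card.symm
  refine ⟨V, H, hVn, hVc, hVr, hV1, hH, by rw [hHc]; exact hidx, ?_, ?_⟩
  · intro g hg
    apply hcent
    rw [Subgroup.mem_centralizer_iff]
    intro v hv
    exact (hg v hv).symm
  · intro v hv w hw hv1 hw1
    obtain ⟨g, hg⟩ := isConj_iff.1 (hVconj v hv w hw hv1 hw1)
    have hg' : g ∈ (V : Set Q) * (H : Set Q) := by
      rw [Subgroup.IsComplement.mul_eq hH]; trivial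
    obtain ⟨x, hx, h, hh, rfl⟩ := hg'
    refine ⟨h, hh, ?_⟩
    have h1 : h * v * h⁻¹ ∈ V := hVn.conj_mem v hv h
    have h2 := hVc x hx _ h1
    have hg2 : x * h * v * (x * h)⁻¹ = w := hg
    rw [← hg2]
    have h3 : x * h * v * (x * h)⁻¹ = x * (h * v * h⁻¹) * x⁻¹ := by group
    rw [h3, h2, mul_inv_cancel_right]

end Cfsg.Agent.H697.ActMain
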