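import Cfsg.Agent.H697.PSolvB

/-!
# `p`-solvable groups with three classes of `p`-elements: definitions for the linear part
-/

set_option autoImplicit false

universe u

namespace Cfsg.Agent.H697.Three

open Module

/-- A linear group with exactly two orbits on nonzero vectors. -/
def TwoOrb {p : ℕ} {V : Type u} [AddCommGroup V] [Module (ZMod p) V]
    (H : Subgroup (V ≃ₗ[ZMod p] V)) : Prop :=
  ∃ v₁ v₂ : V, v₁ ≠ 0 ∧ v₂ ≠ 0 ∧ (∀ h ∈ H, h v₁ ≠ v₂) ∧
    ∀ w : V, w ≠ 0 → (∃ h ∈ H, h v₁ = w) ∨ (∃ h ∈ H, h v₂ = w)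

/-- Irreducibility. -/
def Irr {p : ℕ} {V : Type u} [AddCommGroup V] [Module (ZMod p) V]
    (H : Subgroup (V ≃ₗ[ZMod p] V)) : Prop :=
  ∀ W : Submodule (ZMod p) V, (∀ h ∈ H, ∀ v ∈ W, h v ∈ W) → W = ⊥ ∨ W = ⊤

/-- The linear statement: irreducible `p'`-groups with two orbits have many classes. -/
def LinStmt (p : ℕ) : Prop :=
  ∀ (V : Type u) [AddCommGroup V] [Module (ZMod p) V] [Finite V] [Nontrivial V]
    (H : Subgroup (V ≃ₗ[ZMod p] V)), ¬ p ∣ Nat.card H → TwoOrb H → Irr H →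
    2 ≤ finrank (ZMod p) V → p ≤ 2 * Nat.card (ConjClasses H)

end Cfsg.Agent.H697.Three
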