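import Cfsg.Agent.H697.OneClass
import Cfsg.Agent.S4883
import Cfsg.Agent.S4760

/-!
# The rows `RowNC` and `RowIM` from S4883 and S4760
-/

set_option autoImplicit false

namespace Cfsg.Agent.H697.OneRows

universe u

theorem rowNC (p : ℕ) [Fact p.Prime] : OneClass.RowNC.{u} p :=
  fun _ _ _ _ hna P hP G hG => Cfsg.Agent.S4883.result hna p P hP G hG

theorem rowIM (p : ℕ) [Fact p.Prime] : OneClass.RowIM.{u} p := by
  intro G _ _ P hP
  by_contra h
  push Not at h
  exact hP (((Cfsg.Agent.S4760.result p P).2 h).1)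

end Cfsg.Agent.H697.OneRows
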