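import Mathlib

/-!
# Arithmetic for the exceptional case of the Hering theorem
-/

set_option autoImplicit false

namespace Cfsg.Agent.H697.Arith

theorem pow_six_lt {n : ℕ} (hn : 12 ≤ n) : n ^ 6 < 5 ^ (n - 2) := by
  obtain ⟨m, rfl⟩ : ∃ m, n = m + 12 := ⟨n - 12, by omega⟩
  clear hn
  induction m with
  | zero => norm_num
  | succ m ih =>
    have h1 : (m + 1 + 12) ^ 6 ≤ 5 * (m + 12) ^ 6 := by
      have e1 : (m + 1 + 12) ^ 6 + (4 * m ^ 6 + 282 * m ^ 5 + 8265 * m ^ 4 + 128860 * m ^ 3 +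
        1126785 * m ^ 2 + 5237202 * m + 10103111) = 5 * (m + 12) ^ 6 := by ring
      omega
    have e2 : m + 1 + 12 - 2 = (m + 12 - 2) + 1 := by omega
    rw [e2, pow_succ]
    calc (m + 1 + 12) ^ 6 ≤ 5 * (m + 12) ^ 6 := h1
      _ < 5 * 5 ^ (m + 12 - 2) := by omega
      _ = 5 ^ (m + 12 - 2) * 5 := by ring

theorem bound {p n e f : ℕ} (hp5 : 5 ≤ p) (he : 0 < e) (hf : 2 ≤ f) (hnef : n = e * f) {M : ℕ}
    (hM : 0 < M) (h : (p ^ n - 1) ∣ (p ^ e - 1) * M) : p ^ (n - e) ≤ M ∧ n ≤ 2 * (n - e) := by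
  have hen : 2 * e ≤ n := by rw [hnef]; nlinarith
  have h1 : 5 ≤ p ^ e := by
    calc 5 ≤ p := hp5
      _ = p ^ 1 := (pow_one p).symm
      _ ≤ p ^ e := Nat.pow_le_pow_right (by omega) he
  have h2 : p ^ n - 1 ≤ (p ^ e - 1) * M := Nat.le_of_dvd (Nat.mul_pos (by omega) hM) h
  have h3 : p ^ n = p ^ e * p ^ (n - e) := by rw [← pow_add]; congr 1; omega
  refine ⟨?_, by omega⟩
  by_contra hlt
  push Not at hlt
  have h4 : p ^ e * (M + 1) ≤ p ^ n := by
    rw [h3]; exact Nat.mul_le_mul le_rfl hlt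
  have h5 : (p ^ e - 1) * M + M = p ^ e * M := by
    rw [Nat.sub_mul, one_mul]
    exact Nat.sub_add_cancel (by nlinarith)
  have h6 : p ^ e * (M + 1) = p ^ e * M + p ^ e := by ring
  omega

/-- The exceptional case does not occur for `p ≥ 5`. -/
theorem false_of_dvd {p n e f : ℕ} (hp : p.Prime) (hp5 : 5 ≤ p) (hn3 : 3 ≤ n) (he : 0 < e)
    (hf : 2 ≤ f) (hnef : n = e * f) (hs : (2 * n + 1).Prime)
    (h : (p ^ n - 1) ∣ (p ^ e - 1) * (n * (2 * n + 1) * (2 * n + 2))) : False := by
  have hM : 0 < n * (2 * n + 1) * (2 * n + 2) := by positivity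
  obtain ⟨hb, hen⟩ := bound hp5 he hf hnef hM h
  have hn11 : n ≤ 11 := by
    by_contra hcon
    push Not at hcon
    have h1 : 5 ^ (n - e) ≤ n * (2 * n + 1) * (2 * n + 2) :=
      (Nat.pow_le_pow_left hp5 _).trans hb
    have h2 : n * (2 * n + 1) * (2 * n + 2) ≤ 5 * n ^ 3 := by
      have : 6 * n ^ 2 + 2 * n ≤ n ^ 3 := by nlinarith
      calc n * (2 * n + 1) * (2 * n + 2) = 4 * n ^ 3 + (6 * n ^ 2 + 2 * n) := by ring
        _ ≤ 4 * n ^ 3 + n ^ 3 := by omega
        _ = 5 * n ^ 3 := by ring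
    have h3 : 5 ^ n ≤ (5 ^ (n - e)) ^ 2 := by
      rw [← pow_mul]
      exact Nat.pow_le_pow_right (by norm_num) (by omega)
    have h4 : (5 ^ (n - e)) ^ 2 ≤ (5 * n ^ 3) ^ 2 := Nat.pow_le_pow_left (h1.trans h2) 2
    have h5 := pow_six_lt hcon
    have h6 : 5 ^ n = 25 * 5 ^ (n - 2) := by
      obtain ⟨m, rfl⟩ : ∃ m, n = m + 2 := ⟨n - 2, by omega⟩
      rw [Nat.add_sub_cancel, pow_add]; ring
    have h7 : (5 * n ^ 3) ^ 2 = 25 * n ^ 6 := by ring
    omega
  have key : ∀ b : ℕ, 2 ≤ n - e → n * (2 * n + 1) * (2 * n + 2) < b ^ 2 → p < b := by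
    intro b h2 hlt
    by_contra hcon
    push Not at hcon
    have h3 : b ^ 2 ≤ p ^ 2 := Nat.pow_le_pow_left hcon 2
    have h4 : p ^ 2 ≤ p ^ (n - e) := Nat.pow_le_pow_right hp.pos h2
    omega
  have hen2 : 2 ≤ n - e := by omega
  -- the remaining values
  have hncases : n = 3 ∨ n = 5 ∨ n = 6 ∨ n = 8 ∨ n = 9 ∨ n = 11 := by
    clear h hb hM key
    interval_cases n <;> revert hs <;> decide
  have hediv : e ∣ n := ⟨f, hnef⟩
  have hb5 : 5 ^ (n - e) ≤ n * (2 * n + 1) * (2 * n + 2) := (Nat.pow_le_pow_left hp5 _).trans hb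
  rcases hncases with rfl | rfl | rfl | rfl | rfl | rfl
  · have he1 : e = 1 := by omega
    subst he1
    have hp13 : p < 13 := key 13 (by norm_num) (by norm_num)
    interval_cases p <;> revert h <;> decide
  · have he1 : e ≤ 2 := by omega
    interval_cases e
    · have hp6 : p < 6 := by
        by_contra hcon
        push Not at hcon
        have h3 : 6 ^ (5 - 1) ≤ p ^ (5 - 1) := Nat.pow_le_pow_left hcon _
        norm_num at h3 hb
        omega
      interval_cases p
      revert h; decide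
    · omega
  · have he1 : e ≤ 3 := by omega
    interval_cases e
    · norm_num at hb5
    · have hp6 : p < 6 := by
        by_contra hcon
        push Not at hcon
        have h3 : 6 ^ (6 - 2) ≤ p ^ (6 - 2) := Nat.pow_le_pow_left hcon _
        norm_num at h3 hb
        omega
      interval_cases p
      revert h; decide
    · have hp6 : p < 11 := by
        by_contra hcon
        push Not at hcon
        have h3 : 11 ^ (6 - 3) ≤ p ^ (6 - 3) := Nat.pow_le_pow_left hcon _
        norm_num at h3 hb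
        omega
      interval_cases p <;> revert h <;> decide
  · have he1 : e ≤ 4 := by omega
    interval_cases e
    · norm_num at hb5
    · norm_num at hb5
    · norm_num at hb5
    · have hp6 : p < 8 := by
        by_contra hcon
        push Not at hcon
        have h3 : 8 ^ (8 - 4) ≤ p ^ (8 - 4) := Nat.pow_le_pow_left hcon _
        norm_num at h3 hb
        omega
      interval_cases p <;> revert h <;> decide
  · have he1 : e ≤ 4 := by omega
    interval_cases e
    · norm_num at hb5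
    · norm_num at hb5
    · norm_num at hb5
    · norm_num at hb5
      omega
  · have he1 : e ≤ 5 := by omega
    interval_cases e <;> norm_num at hb5

end Cfsg.Agent.H697.Arith
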