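import Cfsg.Agent.H697.HeringMat
import Cfsg.Agent.H697.Arith
import Cfsg.Agent.PermutationGroups.RegularLinear
import Cfsg.Agent.H365.Zsig

/-!
# `p'`-groups transitive on the nonzero vectors of a space of dimension at least three

They have a cyclic normal subgroup of index at most the dimension.
-/

set_option autoImplicit false

namespace Cfsg.Agent.H697.Hering

open Module
open Cfsg.Agent.PermutationGroups.RegularLinear
open Cfsg.Agent.LieRecognition.FT61

variable {p : ℕ} [Fact p.Prime] {V : Type*} [AddCommGroup V] [Module (ZMod p) V]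

/-- Matrices of a linear group. -/
theorem exists_toGL [Finite V] (H : Subgroup (V ≃ₗ[ZMod p] V)) :
    ∃ σ : H →* GL (Fin (finrank (ZMod p) V)) (ZMod p), Function.Injective σ := by
  have : Module.Finite (ZMod p) V := Module.Finite.of_finite
  let b : Basis (Fin (finrank (ZMod p) V)) (ZMod p) V := Module.finBasis (ZMod p) V
  let φ : H →* Module.End (ZMod p) V :=
    { toFun := fun h => ((h : V ≃ₗ[ZMod p] V) : Module.End (ZMod p) V)
      map_one' := rfl
      map_mul' := fun _ _ => rfl }
  let ψ : H →* Matrix (Fin (finrank (ZMod p) V)) (Fin (finrank (ZMod p) V)) (ZMod p) :=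
    ((LinearMap.toMatrixAlgEquiv b).toRingEquiv.toMonoidHom : Module.End (ZMod p) V →* _).comp φ
  refine ⟨ψ.toHomUnits, ?_⟩
  intro c d hcd
  have h1 : ψ c = ψ d := congrArg Units.val hcd
  have h2 : φ c = φ d := (LinearMap.toMatrixAlgEquiv b).injective h1
  apply Subtype.ext
  ext v
  exact DFunLike.congr_fun h2 v

theorem card_eq [Finite V] : Nat.card V = p ^ finrank (ZMod p) V := by
  have : Module.Finite (ZMod p) V := Module.Finite.of_finite
  rw [Module.natCard_eq_pow_finrank (K := ZMod p), Nat.card_zmod]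

/-- Transitivity on nonzero vectors and the order. -/
theorem dvd_card [Finite V] [Nontrivial V] (H : Subgroup (V ≃ₗ[ZMod p] V))
    (htr : ∀ v w : V, v ≠ 0 → w ≠ 0 → ∃ h ∈ H, h v = w) : Nat.card V - 1 ∣ Nat.card H := by
  obtain ⟨e, he⟩ := exists_ne (0 : V)
  have : Finite (V ≃ₗ[ZMod p] V) := finite_gl
  have h1 : (MulAction.stabilizer H e).index ∣ Nat.card H := Subgroup.index_dvd_card _
  rw [MulAction.index_stabilizer] at h1
  have h2 : MulAction.orbit H e = {x : V | x ≠ 0} := by
    ext x
    constructor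
    · rintro ⟨d, rfl⟩
      intro h
      apply he
      have h3 : (d : V ≃ₗ[ZMod p] V) e = 0 := h
      exact (LinearEquiv.map_eq_zero_iff _).1 h3
    · intro hx
      obtain ⟨d, hd, hdx⟩ := htr e x he hx
      exact ⟨⟨d, hd⟩, hdx⟩
  have h3 : {x : V | x ≠ 0} = ({0} : Set V)ᶜ := by
    ext x
    simp
  rw [h2, h3, Set.ncard_compl, Set.ncard_singleton] at h1
  exact h1

/-- The field generated by a reducible commutative normal subgroup of a transitive linear group. -/
theorem card_reducible [Finite V] [Nontrivial V] (H : Subgroup (V ≃ₗ[ZMod p] V))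
    (htr : ∀ v w : V, v ≠ 0 → w ≠ 0 → ∃ h ∈ H, h v = w) (K : Subgroup H) (hK : K.Normal)
    (hKc : IsMulCommutative K) (W : Submodule (ZMod p) V) (hW0 : W ≠ ⊥) (hW1 : W ≠ ⊤)
    (hW : ∀ a ∈ K, ∀ v ∈ W, ((a : H) : V ≃ₗ[ZMod p] V) v ∈ W) :
    ∃ e f : ℕ, 0 < e ∧ 2 ≤ f ∧ finrank (ZMod p) V = e * f ∧ Nat.card K ∣ p ^ e - 1 := by
  classical
  have hp : p.Prime := Fact.out
  have hfinE : Finite (End (ZMod p) V) := finite_end
  have hinj := groupAlg_injective_of_comm H htr K hK hKc
  set L := groupAlg K with hL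
  have hdom : IsDomain L := isDomain_of_injective L hinj
  have hF : IsField L := Finite.isDomain_to_isField L
  have hcyc := (isCyclic_and_card_dvd L hinj (H.subtype.comp K.subtype)
    (H.subtype_injective.comp K.subtype_injective) (fun g => coe_mem_groupAlg K g.2)).2
  have hLW : ∀ k ∈ L, ∀ v ∈ W, k v ∈ W := groupAlg_apply_mem K W hW
  -- `L` as a vector space over the prime field
  have hLcard : Nat.card L = p ^ finrank (ZMod p) L := by
    have : Module.Finite (ZMod p) L := Module.Finite.of_finite
    rw [Module.natCard_eq_pow_finrank (K := ZMod p), Nat.card_zmod]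
  -- `V` as a vector space over `L`
  obtain ⟨f, hf⟩ : ∃ f, Nat.card V = Nat.card L ^ f := by
    let _ : Field L := hF.toField
    let _ : Module L V := Subalgebra.moduleLeft L
    have : Module.Finite L V := Module.Finite.of_finite
    exact ⟨finrank L V, Module.natCard_eq_pow_finrank (K := L)⟩
  have hV := card_eq (p := p) (V := V)
  set e := finrank (ZMod p) L with he
  set n := finrank (ZMod p) V with hn
  have hnef : n = e * f := by
    rw [hV, hLcard, ← pow_mul] at hf
    exact Nat.pow_right_injective hp.two_le hf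
  have hepos : 0 < e := by
    apply Nat.pos_of_ne_zero
    intro h0
    have h1 : Nontrivial L := hdom.toNontrivial
    have h2 : Finite L := inferInstance
    have h3 := Finite.one_lt_card (α := L)
    rw [hLcard, h0, pow_zero] at h3
    exact lt_irrefl _ h3
  have hVpos : 1 < Nat.card V := Finite.one_lt_card
  refine ⟨e, f, hepos, ?_, hnef, ?_⟩
  · by_contra hf2
    have hf1 : f = 0 ∨ f = 1 := by omega
    rcases hf1 with rfl | rfl
    · rw [pow_zero] at hf
      omega
    · -- `|L| = |V|`, but `L` embeds in `W`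
      rw [pow_one] at hf
      obtain ⟨w, hwW, hw0⟩ := W.exists_mem_ne_zero_of_ne_bot hW0
      let g : L → W := fun k => ⟨(k : End (ZMod p) V) w, hLW k k.2 w hwW⟩
      have hg : Function.Injective g := by
        intro a b hab
        have h1 : (a : End (ZMod p) V) w = (b : End (ZMod p) V) w := congrArg Subtype.val hab
        have h2 := hinj _ (L.sub_mem a.2 b.2) w hw0 (by
          rw [LinearMap.sub_apply, h1, sub_self])
        exact Subtype.ext (sub_eq_zero.1 h2)
      have h1 : Nat.card L ≤ Nat.card W := Nat.card_le_card_of_injective g hg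
      have h2 : Nat.card W < Nat.card V := by
        have h3 : (W : Set V).ncard < (Set.univ : Set V).ncard := by
          apply Set.ncard_lt_ncard
          · rw [Set.ssubset_univ_iff]
            intro h
            apply hW1
            exact SetLike.coe_injective (by rw [h]; rfl)
          · exact Set.toFinite _
        rw [Set.ncard_univ] at h3
        exact h3
      omega
  · rw [← hLcard]
    exact hcyc

/-- **Hering's theorem for `p'`-groups**, dimension at least three. -/
theorem main [Finite V] [Nontrivial V] (hp5 : 5 ≤ p) (hn3 : 3 ≤ finrank (ZMod p) V)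
    (hexc : ¬ (p = 5 ∧ finrank (ZMod p) V = 6)) (H : Subgroup (V ≃ₗ[ZMod p] V))
    (htr : ∀ v w : V, v ≠ 0 → w ≠ 0 → ∃ h ∈ H, h v = w) (hpH : ¬ p ∣ Nat.card H) :
    ∃ A : Subgroup H, A.Normal ∧ IsCyclic A ∧ Nat.card H ≤ finrank (ZMod p) V * Nat.card A := by
  classical
  have hp : p.Prime := Fact.out
  have hfinG : Finite (V ≃ₗ[ZMod p] V) := finite_gl
  have hV := card_eq (p := p) (V := V)
  have hdvd := dvd_card H htr
  rw [hV] at hdvd
  set n := finrank (ZMod p) V with hn
  obtain ⟨σ, hσ⟩ : ∃ σ : H →* GL (Fin n) (ZMod p), Function.Injective σ := exists_toGL H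
  obtain ⟨s, hs, hsn, hsd', hslarge⟩ := Cfsg.Agent.H365.Zsig.large_zsigmondy p n hp.two_le (by omega)
    (fun h => by omega) (fun h => by omega) (fun h => by omega) hexc
  have hsd : ∀ d, 0 < d → d < n → ¬ s ∣ p ^ d - 1 := fun d h1 h2 => hsd' d h1 h2
  have : Fact s.Prime := ⟨hs⟩
  have hcop : (Nat.card H).Coprime p := by
    rw [Nat.coprime_comm]
    exact (Nat.Prime.coprime_iff_not_dvd hp).2 hpH
  have hns := HeringMat.dvd_sub_one hs hp.pos (by omega) hsn hsd
  have hsD : s ∣ Nat.card H := hsn.trans hdvd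
  obtain ⟨P⟩ : Nonempty (Sylow s H) := inferInstance
  have hsize : (2 * n < s ∧ 7 ≤ s) ∨ s ^ 2 ∣ Nat.card H := by
    rcases hslarge with h1 | h1
    · left
      obtain ⟨c, hc⟩ := hns
      have h2 : 2 ≤ c := by
        by_contra h3
        have h4 : c = 0 ∨ c = 1 := by omega
        rcases h4 with rfl | rfl
        · omega
        · omega
      have h3 : n * 2 ≤ n * c := Nat.mul_le_mul le_rfl h2
      omega
    · exact Or.inr (h1.trans hdvd)
  have hPne : (P : Subgroup H) ≠ ⊥ := by
    intro h
    have h1 := P.dvd_card_of_dvd_card hsD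
    rw [h, Subgroup.card_bot] at h1
    exact hs.one_lt.ne' (Nat.dvd_one.1 h1)
  have hcyc : ∀ z : H, orderOf z = s → IsCyclic (Subgroup.centralizer ({z} : Set H)) := fun z hz =>
    HeringMat.isCyclic_centralizer σ hσ hs hsn hsd hz
  have hPn : (P : Subgroup H).Normal := by
    rcases HeringMat.sylow_normal_or σ hσ hcop (by omega) hsn hsd hsize hsD P with h1 |
      ⟨hs2n, K, x, hK, hPx, hxs, hxK, hKx, hcard⟩
    · exact h1
    · have hKc : IsMulCommutative K := by
        have h1 := Grp.comm_of_isCyclic (hcyc x hxs)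
        refine ⟨⟨fun a b => Subtype.ext ?_⟩⟩
        exact h1 a (Subgroup.mem_centralizer_singleton_iff.2 (hKx a a.2)) b
          (Subgroup.mem_centralizer_singleton_iff.2 (hKx b b.2))
      by_cases hirr : ∀ W : Submodule (ZMod p) V,
          (∀ a ∈ K, ∀ v ∈ W, ((a : H) : V ≃ₗ[ZMod p] V) v ∈ W) → W = ⊥ ∨ W = ⊤
      · have h1 := centralizer_comm_of_irreducible H K hirr
        apply Grp.normal_of_le_comm P (Subgroup.centralizer (K : Set H)) inferInstance
        · intro a ha b hb
          exact congrArg Subtype.val (h1.is_comm.comm ⟨a, ha⟩ ⟨b, hb⟩)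
        · rw [hPx, Subgroup.zpowers_le, Subgroup.mem_centralizer_iff]
          intro g hg
          exact hKx g hg
      · exfalso
        push Not at hirr
        obtain ⟨W, hW, hW0, hW1⟩ := hirr
        obtain ⟨e, f, he, hf, hnef, hKe⟩ := card_reducible H htr K hK hKc W hW0 hW1 hW
        refine Arith.false_of_dvd hp hp5 hn3 he hf hnef (by rw [← hs2n]; exact hs) ?_
        refine hdvd.trans ?_
        rw [hcard, hs2n]
        obtain ⟨c, hc⟩ := hKe
        refine ⟨c, ?_⟩
        rw [hc]
        ring
  obtain ⟨x, hxP, hxs, hxc⟩ := Grp.exists_central_orderOf P hPne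
  have hPcyc := Grp.isCyclic_sylow hcyc P hPne
  have hnorm : ∀ g : H, g ∈ Subgroup.normalizer ((Subgroup.zpowers x : Subgroup H) : Set H) := by
    have h1 : ∀ g : H, g * x * g⁻¹ ∈ Subgroup.zpowers x := by
      intro g
      have h2 : g * x * g⁻¹ ∈ (P : Subgroup H) := hPn.conj_mem x hxP g
      have h3 : orderOf (g * x * g⁻¹) = orderOf x := by
        have h4 : g * x * g⁻¹ = MulAut.conj g x := rfl
        rw [h4]
        exact MulEquiv.orderOf_eq (MulAut.conj g) x
      rw [← Grp.zpowers_eq_of_orderOf hPcyc h2 hxP h3]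
      exact Subgroup.mem_zpowers _
    have h2 : ∀ g : H, ∀ y ∈ Subgroup.zpowers x, g * y * g⁻¹ ∈ Subgroup.zpowers x := by
      rintro g _ ⟨m, rfl⟩
      show g * x ^ m * g⁻¹ ∈ Subgroup.zpowers x
      rw [← conj_zpow]
      exact Subgroup.zpow_mem _ (h1 g) m
    intro g
    rw [Subgroup.mem_normalizer_iff]
    intro y
    refine ⟨h2 g y, fun hy => ?_⟩
    have := h2 g⁻¹ _ hy
    simpa [mul_assoc] using this
  have hnorm2 : Subgroup.normalizer
      ((Subgroup.centralizer ({x} : Set H) : Subgroup H) : Set H) = ⊤ := by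
    rw [eq_top_iff]
    intro g _
    exact HeringMat.normalizer_zpowers_le x (hnorm g)
  refine ⟨Subgroup.centralizer ({x} : Set H), Subgroup.normalizer_eq_top_iff.1 hnorm2,
    hcyc x hxs, ?_⟩
  have h1 := HeringMat.card_normalizer_le σ hσ hs hsn hsd hxs
  rw [hnorm2, Subgroup.card_top] at h1
  exact h1

end Cfsg.Agent.H697.Hering
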