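import Mathlib
import Cfsg.Prelude
import Cfsg.Agent.H697.ClassCount

/-!
# The one-dimensional affine group over the prime field
-/

set_option autoImplicit false

namespace Cfsg.Agent.H697.Affine

open scoped Pointwise

variable {p : ℕ} [hp : Fact p.Prime] {Q : Type*} [Group Q] [Finite Q]

/-- The order of the affine group is at most `p (p - 1)`. -/
theorem card_affine_le : Nat.card (Cfsg.affineGroup (ZMod p)) ≤ p * (p - 1) := by
  classical
  let f : (ZMod p)ˣ × ZMod p → Cfsg.affineGroup (ZMod p) := fun x =>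
    ⟨(Units.mulLeft x.1).trans (Equiv.addRight x.2), ⟨x.1, x.2, fun _ => rfl⟩⟩
  have hf : Function.Surjective f := by
    rintro ⟨σ, a, b, hσ⟩
    refine ⟨(a, b), Subtype.ext (Equiv.ext fun x => ?_)⟩
    rw [hσ]
    rfl
  have h := Nat.card_le_card_of_surjective f hf
  rw [Nat.card_prod, Nat.card_zmod, Nat.card_eq_fintype_card (α := (ZMod p)ˣ), ZMod.card_units,
    mul_comm] at h
  exact h

section

variable (V H : Subgroup Q) (hVn : V.Normal) (hcardV : Nat.card V = p)
  (hH : Subgroup.IsComplement' V H) (hcent : ∀ g : Q, (∀ v ∈ V, g * v = v * g) → g ∈ V)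
  (htr : ∀ v ∈ V, ∀ w ∈ V, v ≠ 1 → w ≠ 1 → ∃ h ∈ H, h * v * h⁻¹ = w)

include hVn hcardV hH hcent htr

/-- The complement has order `p - 1` and is commutative. -/
theorem card_complement : Nat.card H = p - 1 ∧ ∀ a ∈ H, ∀ b ∈ H, a * b = b * a := by
  classical
  have hp' : p.Prime := hp.out
  have : Nontrivial V := Finite.one_lt_card_iff_nontrivial.1 (by rw [hcardV]; exact hp'.one_lt)
  obtain ⟨⟨x, hx⟩, hx1⟩ := exists_ne (1 : V)
  have hx1' : x ≠ 1 := fun h => hx1 (Subtype.ext h)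
  have hxp : x ^ p = 1 := by
    have : (⟨x, hx⟩ : V) ^ Nat.card V = 1 := pow_card_eq_one'
    rw [hcardV] at this
    exact congrArg Subtype.val this
  have hVx : Subgroup.zpowers x = V := by
    apply Subgroup.eq_of_le_of_card_ge (by rw [Subgroup.zpowers_le]; exact hx)
    rw [hcardV, Nat.card_zpowers, orderOf_eq_prime hxp hx1']
  have hdisj := hH.disjoint
  have hcx : ∀ g : Q, g * x = x * g → g ∈ V := by
    intro g hg
    apply hcent
    intro v hv
    rw [← hVx] at hv
    obtain ⟨i, rfl⟩ := hv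
    exact ((show Commute g x from hg).zpow_right i).eq
  let f : H → {v : V // v ≠ 1} := fun h => ⟨⟨h * x * (h : Q)⁻¹, hVn.conj_mem x hx h⟩, fun h0 => by
    have h1 : (h : Q) * x * (h : Q)⁻¹ = 1 := congrArg Subtype.val h0
    rw [mul_inv_eq_one] at h1
    exact hx1' (mul_left_cancel (h1.trans (mul_one _).symm))⟩
  have hf : Function.Bijective f := by
    constructor
    · intro a b hab
      have h1 : (a : Q) * x * (a : Q)⁻¹ = (b : Q) * x * (b : Q)⁻¹ :=
        congrArg (fun z : {v : V // v ≠ 1} => ((z : V) : Q)) hab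
      have h2 : ((b : Q)⁻¹ * a) * x = x * ((b : Q)⁻¹ * a) := by
        have h4 : (a : Q) * x = (b : Q) * x * (b : Q)⁻¹ * a := by
          rw [← h1]; group
        rw [mul_assoc, h4]
        group
      have h3 : (b : Q)⁻¹ * a = 1 :=
        Subgroup.disjoint_def.1 hdisj (hcx _ h2) (H.mul_mem (H.inv_mem b.2) a.2)
      exact Subtype.ext (inv_mul_eq_one.1 h3).symm
    · rintro ⟨⟨w, hw⟩, hw1⟩
      obtain ⟨h, hh, hhw⟩ := htr x hx w hw hx1' (fun h0 => hw1 (Subtype.ext h0))
      exact ⟨⟨h, hh⟩, Subtype.ext (Subtype.ext hhw)⟩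
  constructor
  · rw [Nat.card_congr (Equiv.ofBijective f hf)]
    have h1 : Nat.card {v : V // v ≠ 1} = ({1} : Set V)ᶜ.ncard := by
      rw [← Nat.card_coe_set_eq]
      rfl
    rw [h1, Set.ncard_compl, Set.ncard_singleton, hcardV]
  · intro a ha b hb
    have hcomm : a⁻¹ * b⁻¹ * a * b = 1 := by
      have key : ∀ g : Q, ∃ i : ℤ, g * x * g⁻¹ = x ^ i := by
        intro g
        have := hVn.conj_mem x hx g
        rw [← hVx] at this
        obtain ⟨i, hi⟩ := this
        exact ⟨i, hi.symm⟩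
      obtain ⟨i, hi⟩ := key a
      obtain ⟨j, hj⟩ := key b
      have h3 : a * b * x * b⁻¹ * a⁻¹ = b * a * x * a⁻¹ * b⁻¹ := by
        calc a * b * x * b⁻¹ * a⁻¹ = a * (b * x * b⁻¹) * a⁻¹ := by group
          _ = (a * x * a⁻¹) ^ j := by rw [hj, conj_zpow]
          _ = x ^ (i * j) := by rw [hi, zpow_mul]
          _ = (b * x * b⁻¹) ^ i := by rw [hj, ← zpow_mul, mul_comm]
          _ = b * (a * x * a⁻¹) * b⁻¹ := by rw [hi, conj_zpow]
          _ = b * a * x * a⁻¹ * b⁻¹ := by group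
      have h4 : (a⁻¹ * b⁻¹ * a * b) * x = x * (a⁻¹ * b⁻¹ * a * b) := by
        have h5 : (a⁻¹ * b⁻¹ * a * b) * x = a⁻¹ * b⁻¹ * (a * b * x * b⁻¹ * a⁻¹) * (a * b) := by group
        rw [h5, h3]
        group
      exact Subgroup.disjoint_def.1 hdisj (hcx _ h4)
        (H.mul_mem (H.mul_mem (H.mul_mem (H.inv_mem ha) (H.inv_mem hb)) ha) hb)
    have h5 : a * b = b * a * (a⁻¹ * b⁻¹ * a * b) := by group
    rw [h5, hcomm, mul_one]

/-- Recognition of the affine group. -/
theorem affine_iso : Nonempty (Q ≃* Cfsg.affineGroup (ZMod p)) := by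
  classical
  have hp' : p.Prime := hp.out
  have hcardH := (card_complement V H hVn hcardV hH hcent htr).1
  have : Nontrivial V := Finite.one_lt_card_iff_nontrivial.1 (by rw [hcardV]; exact hp'.one_lt)
  obtain ⟨⟨x, hx⟩, hx1⟩ := exists_ne (1 : V)
  have hx1' : x ≠ 1 := fun h => hx1 (Subtype.ext h)
  have hxp : x ^ p = 1 := by
    have : (⟨x, hx⟩ : V) ^ Nat.card V = 1 := pow_card_eq_one'
    rw [hcardV] at this
    exact congrArg Subtype.val this
  have hxo : orderOf x = p := orderOf_eq_prime hxp hx1'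
  have hVx : Subgroup.zpowers x = V := by
    apply Subgroup.eq_of_le_of_card_ge (by rw [Subgroup.zpowers_le]; exact hx)
    rw [hcardV, Nat.card_zpowers, hxo]
  have hdisj := hH.disjoint
  have hcx : ∀ g : Q, g * x = x * g → g ∈ V := by
    intro g hg
    apply hcent
    intro v hv
    rw [← hVx] at hv
    obtain ⟨i, rfl⟩ := hv
    exact ((show Commute g x from hg).zpow_right i).eq
  -- the cosets
  let e₀ : ZMod p → Q ⧸ H := fun i => ((x ^ i.val : Q) : Q ⧸ H)
  have he₀ : Function.Injective e₀ := by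
    intro i j hij
    have h1 : (x ^ i.val)⁻¹ * x ^ j.val ∈ H := QuotientGroup.eq.1 hij
    have h2 : (x ^ i.val)⁻¹ * x ^ j.val ∈ V := V.mul_mem (V.inv_mem (V.pow_mem hx _)) (V.pow_mem hx _)
    have h3 := Subgroup.disjoint_def.1 hdisj h2 h1
    have h4 : x ^ i.val = x ^ j.val := inv_mul_eq_one.1 h3
    have h5 := pow_injOn_Iio_orderOf (x := x) (by rw [hxo]; exact ZMod.val_lt i)
      (by rw [hxo]; exact ZMod.val_lt j) h4
    exact ZMod.val_injective p h5
  have hcardQH : Nat.card (Q ⧸ H) = p := by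
    rw [← hcardV]
    exact hH.index_eq_card
  have he₀b : Function.Bijective e₀ := by
    have := Fintype.ofFinite (Q ⧸ H)
    rw [Fintype.bijective_iff_injective_and_card]
    refine ⟨he₀, ?_⟩
    rw [ZMod.card, ← Nat.card_eq_fintype_card, hcardQH]
  let e : ZMod p ≃ Q ⧸ H := Equiv.ofBijective e₀ he₀b
  have hepow : ∀ n : ℤ, e (n : ZMod p) = ((x ^ n : Q) : Q ⧸ H) := by
    intro n
    show ((x ^ (n : ZMod p).val : Q) : Q ⧸ H) = _
    congr 1
    rw [← zpow_natCast, ZMod.val_intCast, ← hxo, zpow_mod_orderOf]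
  let φ : Q →* Equiv.Perm (ZMod p) :=
    (e.symm.permCongrHom.toMonoidHom).comp (MulAction.toPermHom Q (Q ⧸ H))
  have hφ : ∀ g i, e (φ g i) = g • e i := by
    intro g i
    show e (e.symm (g • e.symm.symm i)) = _
    rw [Equiv.apply_symm_apply, Equiv.symm_symm]
  have haff : ∀ g, φ g ∈ Cfsg.affineGroup (ZMod p) := by
    intro g
    have hg' : g ∈ (V : Set Q) * (H : Set Q) := by
      rw [Subgroup.IsComplement.mul_eq hH]; trivial
    obtain ⟨y, hy, h, hh, rfl⟩ := hg'
    have hy' : y ∈ V := hy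
    rw [← hVx] at hy'
    obtain ⟨b, rfl⟩ := hy'
    have hk := hVn.conj_mem x hx h
    rw [← hVx] at hk
    obtain ⟨a, ha⟩ := hk
    have ha' : x ^ a = h * x * h⁻¹ := ha
    have ha0 : ((a : ℤ) : ZMod p) ≠ 0 := by
      intro h0
      rw [ZMod.intCast_zmod_eq_zero_iff_dvd] at h0
      obtain ⟨c, rfl⟩ := h0
      rw [zpow_mul, zpow_natCast, hxp, one_zpow] at ha'
      have := mul_inv_eq_one.1 ha'.symm
      exact hx1' (mul_left_cancel (this.trans (mul_one _).symm))
    refine ⟨Units.mk0 _ ha0, (b : ZMod p), fun i => ?_⟩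
    apply e.injective
    rw [hφ]
    obtain ⟨n, rfl⟩ := ZMod.intCast_surjective i
    rw [Units.val_mk0, ← Int.cast_mul, ← Int.cast_add, hepow, hepow]
    show ((x ^ b * h * x ^ n : Q) : Q ⧸ H) = _
    rw [QuotientGroup.eq]
    have h1 : h * x ^ n * h⁻¹ = x ^ (a * n) := by
      rw [← conj_zpow, ← ha', ← zpow_mul]
    have h2 : x ^ b * h * x ^ n = x ^ (a * n + b) * h := by
      have h3 : x ^ b * h * x ^ n = x ^ b * (h * x ^ n * h⁻¹) * h := by group
      rw [h3, h1, ← zpow_add, add_comm]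
    have hh' : h ∈ H := hh
    have h3 : (x ^ b * h * x ^ n)⁻¹ * x ^ (a * n + b) = h⁻¹ := by
      rw [h2]; group
    rw [h3]
    exact H.inv_mem hh'
  let ψ : Q →* Cfsg.affineGroup (ZMod p) := φ.codRestrict _ haff
  have hψ : Function.Injective ψ := by
    rw [injective_iff_map_eq_one]
    intro g hg
    have hg1 : φ g = 1 := congrArg Subtype.val hg
    have h1 : ∀ n : ℤ, g • ((x ^ n : Q) : Q ⧸ H) = ((x ^ n : Q) : Q ⧸ H) := by
      intro n
      rw [← hepow, ← hφ, hg1]
      rfl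
    have h2 : g ∈ H := by
      have h3 := h1 0
      rw [zpow_zero] at h3
      have h4 : ((g * 1 : Q) : Q ⧸ H) = ((1 : Q) : Q ⧸ H) := h3
      rw [mul_one, QuotientGroup.eq, mul_one] at h4
      have := H.inv_mem h4
      rwa [inv_inv] at this
    have h3 : g⁻¹ * (x⁻¹ * g * x) ∈ H := by
      have h3 := h1 1
      rw [zpow_one] at h3
      have h4 : ((g * x : Q) : Q ⧸ H) = ((x : Q) : Q ⧸ H) := h3
      rw [QuotientGroup.eq] at h4
      have h5 := H.inv_mem h4
      refine H.mul_mem (H.inv_mem h2) ?_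
      have h6 : ((g * x)⁻¹ * x)⁻¹ = x⁻¹ * g * x := by group
      rwa [h6] at h5
    have h4 : g⁻¹ * (x⁻¹ * g * x) ∈ V := by
      have h5 : g⁻¹ * (x⁻¹ * g * x) = (g⁻¹ * x⁻¹ * g⁻¹⁻¹) * x := by group
      rw [h5]
      exact V.mul_mem (hVn.conj_mem _ (V.inv_mem hx) g⁻¹) hx
    have h5 := Subgroup.disjoint_def.1 hdisj h4 h3
    have h6 : g * x = x * g := by
      have h7 : g = x⁻¹ * g * x := inv_mul_eq_one.1 h5
      nth_rewrite 2 [h7]
      group
    exact Subgroup.disjoint_def.1 hdisj (hcx g h6) h2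
  have hcardQ : Nat.card Q = p * (p - 1) := by
    rw [← Subgroup.IsComplement'.card_mul_card hH, hcardV, hcardH]
  have hfin : Finite (Cfsg.affineGroup (ZMod p)) := inferInstance
  have hbij : Function.Bijective ψ := by
    have := Fintype.ofFinite Q
    have := Fintype.ofFinite (Cfsg.affineGroup (ZMod p))
    rw [Fintype.bijective_iff_injective_and_card]
    refine ⟨hψ, ?_⟩
    rw [← Nat.card_eq_fintype_card, ← Nat.card_eq_fintype_card]
    apply le_antisymm
    · exact Nat.card_le_card_of_injective ψ hψ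
    · rw [hcardQ]; exact card_affine_le
  exact ⟨MulEquiv.ofBijective ψ hbij⟩

end

end Cfsg.Agent.H697.Affine
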