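import Mathlib
import Cfsg.Agent.LieRecognition.FT61.O3Lin
import Cfsg.Agent.ClassicalGeometry.DicksonCount

/-!
# Finite groups of isometries of determinant one of a three-dimensional space

`U` is a 3-dimensional space over an algebraically closed field `k` of odd characteristic `s` with a
nondegenerate symmetric bilinear form `β`. A group of isometries of determinant one acts on the set of singular
lines like a group of Moebius transformations; so Dickson's list applies.
-/

set_option autoImplicit false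

namespace Cfsg.Agent.H697.Conic

open Module MulAction
open Cfsg.Agent.LieRecognition.FT61.O3Lin

section form

variable {k U : Type*} [Field k] [AddCommGroup U] [Module k U]

theorem exists_frame (hU : finrank k U = 3) {β : LinearMap.BilinForm k U}
    (hsymm : β.IsSymm) (hnd : β.Nondegenerate) {a b : U} (ha : β a a = 0) (hb : β b b = 0)
    (hab : β a b ≠ 0) :
    ∃ B : Basis (Fin 3) k U, B 0 = a ∧ B 1 = b ∧ β a (B 2) = 0 ∧ β b (B 2) = 0 ∧
      β (B 2) (B 2) ≠ 0 := by
  have ha0 : a ≠ 0 := by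
    rintro rfl
    exact hab (by simp)
  have hba : β b a ≠ 0 := by
    rw [hsymm.eq]; exact hab
  have hbs : ∀ c : k, b ≠ c • a := by
    rintro c rfl
    apply hab
    rw [LinearMap.BilinForm.smul_right, ha, mul_zero]
  obtain ⟨n, hn0, han, hbn, -⟩ := exists_normal hU hnd ha0 hbs
  have hnn : β n n ≠ 0 := by
    intro hnn
    obtain ⟨c, hc⟩ := mem_span_of_singular hU hsymm hnd ha0 ha hnn han
    rw [hc, LinearMap.BilinForm.smul_right] at hbn
    rcases mul_eq_zero.1 hbn with h | h
    · apply hn0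
      rw [hc, h, zero_smul]
    · exact hba h
  have hli : LinearIndependent k ![a, b, n] := by
    rw [Fintype.linearIndependent_iff]
    intro c hc
    rw [Fin.sum_univ_three] at hc
    have hc' : c 0 • a + c 1 • b + c 2 • n = 0 := hc
    have h1 : c 0 = 0 := by
      have h := congrArg (fun w => β b w) hc'
      simp only [LinearMap.BilinForm.add_right, LinearMap.BilinForm.smul_right, hb, hbn,
        LinearMap.BilinForm.zero_right, mul_zero, add_zero] at h
      exact (mul_eq_zero.1 h).resolve_right hba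
    have h2 : c 1 = 0 := by
      have h := congrArg (fun w => β a w) hc'
      simp only [LinearMap.BilinForm.add_right, LinearMap.BilinForm.smul_right, ha, han,
        LinearMap.BilinForm.zero_right, mul_zero, add_zero, zero_add] at h
      exact (mul_eq_zero.1 h).resolve_right hab
    have h3 : c 2 = 0 := by
      rw [h1, h2, zero_smul, zero_smul, zero_add, zero_add] at hc'
      exact (smul_eq_zero.1 hc').resolve_right hn0
    intro i
    fin_cases i
    · exact h1
    · exact h2
    · exact h3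
  have hcard : Fintype.card (Fin 3) = finrank k U := by rw [hU, Fintype.card_fin]
  refine ⟨basisOfLinearIndependentOfCardEqFinrank hli hcard, ?_, ?_, ?_, ?_, ?_⟩
  · rw [coe_basisOfLinearIndependentOfCardEqFinrank]; rfl
  · rw [coe_basisOfLinearIndependentOfCardEqFinrank]; rfl
  · rw [coe_basisOfLinearIndependentOfCardEqFinrank]; exact han
  · rw [coe_basisOfLinearIndependentOfCardEqFinrank]; exact hbn
  · rw [coe_basisOfLinearIndependentOfCardEqFinrank]; exact hnn

theorem det_of_frame (B : Basis (Fin 3) k U) (g : U →ₗ[k] U) {x0 x1 y0 y1 z : k}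
    (h0 : g (B 0) = x0 • B 0 + x1 • B 1) (h1 : g (B 1) = y0 • B 0 + y1 • B 1)
    (h2 : g (B 2) = z • B 2) : LinearMap.det g = (x0 * y1 - x1 * y0) * z := by
  rw [← LinearMap.det_toMatrix B g, Matrix.det_fin_three]
  simp only [LinearMap.toMatrix_apply, h0, h1, h2, map_add, map_smul, Basis.repr_self,
    Finsupp.add_apply, Finsupp.smul_apply, Finsupp.single_apply, smul_eq_mul]
  simp
  ring

/-- The decomposition of a vector along a frame. -/
theorem frame_sum (B : Basis (Fin 3) k U) (u : U) :
    ∃ x y z : k, u = x • B 0 + y • B 1 + z • B 2 := by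
  refine ⟨B.repr u 0, B.repr u 1, B.repr u 2, ?_⟩
  have h := B.sum_repr u
  rw [Fin.sum_univ_three] at h
  exact h.symm

theorem ext_frame (B : Basis (Fin 3) k U) {f g : U →ₗ[k] U} (h0 : f (B 0) = g (B 0))
    (h1 : f (B 1) = g (B 1)) (h2 : f (B 2) = g (B 2)) : f = g := by
  apply B.ext
  intro i
  fin_cases i
  · exact h0
  · exact h1
  · exact h2

end form

section iso

variable {k U : Type*} [Field k] [AddCommGroup U] [Module k U]

/-- two distinct singular lines are not orthogonal -/
theorem pairing_ne_zero (hU : finrank k U = 3) {β : LinearMap.BilinForm k U}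
    (hsymm : β.IsSymm) (hnd : β.Nondegenerate) {a b : U} (ha0 : a ≠ 0) (ha : β a a = 0)
    (hb0 : b ≠ 0) (hb : β b b = 0) (hab : Submodule.span k {a} ≠ Submodule.span k {b}) :
    β a b ≠ 0 := by
  intro h
  obtain ⟨c, hc⟩ := mem_span_of_singular hU hsymm hnd ha0 ha hb h
  have hc0 : c ≠ 0 := by
    rintro rfl
    exact hb0 (by rw [hc, zero_smul])
  apply hab
  rw [hc]
  exact (Submodule.span_singleton_smul_eq (IsUnit.mk0 c hc0) a).symm

variable {β : LinearMap.BilinForm k U} {g : U →ₗ[k] U}

/-- The third vector of a frame whose first two lines are preserved. -/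
theorem third_diag (hsymm : β.IsSymm) (B : Basis (Fin 3) k U) (h02 : β (B 0) (B 2) = 0)
    (h12 : β (B 1) (B 2) = 0) (h22 : β (B 2) (B 2) ≠ 0) (hab : β (B 0) (B 1) ≠ 0)
    (h00 : β (B 0) (B 0) = 0) (h11 : β (B 1) (B 1) = 0)
    (hg : ∀ u v, β (g u) (g v) = β u v) {l m : k}
    (e0 : g (B 0) = l • B 0) (e1 : g (B 1) = m • B 1) :
    l * m = 1 ∧ ∃ z : k, z ^ 2 = 1 ∧ g (B 2) = z • B 2 := by
  have hba : β (B 1) (B 0) ≠ 0 := by rw [hsymm.eq]; exact hab
  have hlm : l * m = 1 := by
    have h := hg (B 0) (B 1)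
    rw [e0, e1, LinearMap.BilinForm.smul_left, LinearMap.BilinForm.smul_right, ← mul_assoc] at h
    exact mul_right_cancel₀ hab (by rw [h, one_mul])
  have hl0 : l ≠ 0 := left_ne_zero_of_mul_eq_one hlm
  have hm0 : m ≠ 0 := right_ne_zero_of_mul_eq_one hlm
  refine ⟨hlm, ?_⟩
  obtain ⟨x, y, z, hxyz⟩ := frame_sum B (g (B 2))
  have hy : y = 0 := by
    have h := hg (B 0) (B 2)
    rw [e0, hxyz, h02, LinearMap.BilinForm.smul_left, LinearMap.BilinForm.add_right,
      LinearMap.BilinForm.add_right, LinearMap.BilinForm.smul_right,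
      LinearMap.BilinForm.smul_right, LinearMap.BilinForm.smul_right, h00, h02, mul_zero,
      mul_zero, zero_add, add_zero] at h
    rcases mul_eq_zero.1 h with h | h
    · exact absurd h hl0
    · exact (mul_eq_zero.1 h).resolve_right hab
  have hx : x = 0 := by
    have h := hg (B 1) (B 2)
    rw [e1, hxyz, h12, LinearMap.BilinForm.smul_left, LinearMap.BilinForm.add_right,
      LinearMap.BilinForm.add_right, LinearMap.BilinForm.smul_right,
      LinearMap.BilinForm.smul_right, LinearMap.BilinForm.smul_right, h11, h12, mul_zero,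
      mul_zero, add_zero, add_zero] at h
    rcases mul_eq_zero.1 h with h | h
    · exact absurd h hm0
    · exact (mul_eq_zero.1 h).resolve_right hba
  rw [hx, hy, zero_smul, zero_smul, zero_add, zero_add] at hxyz
  refine ⟨z, ?_, hxyz⟩
  have h := hg (B 2) (B 2)
  rw [hxyz, LinearMap.BilinForm.smul_left, LinearMap.BilinForm.smul_right, ← mul_assoc] at h
  rw [sq]
  exact mul_right_cancel₀ h22 (by rw [h, one_mul])

/-- The third vector of a frame whose first two lines are swapped. -/
theorem third_swap (hsymm : β.IsSymm) (B : Basis (Fin 3) k U) (h02 : β (B 0) (B 2) = 0)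
    (h12 : β (B 1) (B 2) = 0) (h22 : β (B 2) (B 2) ≠ 0) (hab : β (B 0) (B 1) ≠ 0)
    (h00 : β (B 0) (B 0) = 0) (h11 : β (B 1) (B 1) = 0)
    (hg : ∀ u v, β (g u) (g v) = β u v) {l m : k}
    (e0 : g (B 0) = l • B 1) (e1 : g (B 1) = m • B 0) :
    l * m = 1 ∧ ∃ z : k, z ^ 2 = 1 ∧ g (B 2) = z • B 2 := by
  have hba : β (B 1) (B 0) ≠ 0 := by rw [hsymm.eq]; exact hab
  have hlm : l * m = 1 := by
    have h := hg (B 0) (B 1)
    rw [e0, e1, LinearMap.BilinForm.smul_left, LinearMap.BilinForm.smul_right, ← mul_assoc,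
      hsymm.eq (B 0) (B 1)] at h
    exact mul_right_cancel₀ hba (by rw [h, one_mul])
  have hl0 : l ≠ 0 := left_ne_zero_of_mul_eq_one hlm
  have hm0 : m ≠ 0 := right_ne_zero_of_mul_eq_one hlm
  refine ⟨hlm, ?_⟩
  obtain ⟨x, y, z, hxyz⟩ := frame_sum B (g (B 2))
  have hy : y = 0 := by
    have h := hg (B 1) (B 2)
    rw [e1, hxyz, h12, LinearMap.BilinForm.smul_left, LinearMap.BilinForm.add_right,
      LinearMap.BilinForm.add_right, LinearMap.BilinForm.smul_right,
      LinearMap.BilinForm.smul_right, LinearMap.BilinForm.smul_right, h00, h02, mul_zero,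
      mul_zero, zero_add, add_zero] at h
    rcases mul_eq_zero.1 h with h | h
    · exact absurd h hm0
    · exact (mul_eq_zero.1 h).resolve_right hab
  have hx : x = 0 := by
    have h := hg (B 0) (B 2)
    rw [e0, hxyz, h02, LinearMap.BilinForm.smul_left, LinearMap.BilinForm.add_right,
      LinearMap.BilinForm.add_right, LinearMap.BilinForm.smul_right,
      LinearMap.BilinForm.smul_right, LinearMap.BilinForm.smul_right, h11, h12, mul_zero,
      mul_zero, add_zero, add_zero] at h
    rcases mul_eq_zero.1 h with h | h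
    · exact absurd h hl0
    · exact (mul_eq_zero.1 h).resolve_right hba
  rw [hx, hy, zero_smul, zero_smul, zero_add, zero_add] at hxyz
  refine ⟨z, ?_, hxyz⟩
  have h := hg (B 2) (B 2)
  rw [hxyz, LinearMap.BilinForm.smul_left, LinearMap.BilinForm.smul_right, ← mul_assoc] at h
  rw [sq]
  exact mul_right_cancel₀ h22 (by rw [h, one_mul])

/-- Every nonsingular vector lies in a frame (over an algebraically closed field): the orthogonal plane has
two singular lines. -/
theorem exists_frame_of_nonsingular [IsAlgClosed k] (h2 : (2 : k) ≠ 0) (hU : finrank k U = 3)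
    (hsymm : β.IsSymm) (hnd : β.Nondegenerate) {n : U} (hn : β n n ≠ 0) :
    ∃ a b : U, β a a = 0 ∧ β b b = 0 ∧ β a b ≠ 0 ∧ β a n = 0 ∧ β b n = 0 := by
  have : FiniteDimensional k U := FiniteDimensional.of_finrank_eq_succ hU
  have hn0 : n ≠ 0 := by
    rintro rfl
    exact hn (by simp)
  -- a nonsingular vector `u` orthogonal to `n`
  obtain ⟨u, hnu, huu⟩ : ∃ u, β n u = 0 ∧ β u u ≠ 0 := by
    by_contra hcon
    push Not at hcon
    obtain ⟨y, hy0, hny⟩ := exists_orth_ne_zero hU hnd n
    have hyy := hcon y hny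
    -- every vector orthogonal to `n` is singular; `y` pairs with some vector orthogonal to `n`
    obtain ⟨x, hx⟩ := exists_ne_zero_pairing hnd hy0
    set x' : U := x - (β n x / β n n) • n with hx'
    have h1 : β n x' = 0 := by
      rw [hx', LinearMap.BilinForm.sub_right, LinearMap.BilinForm.smul_right, div_mul_cancel₀ _ hn,
        sub_self]
    have h3 : β y x' = β y x := by
      rw [hx', LinearMap.BilinForm.sub_right, LinearMap.BilinForm.smul_right, hsymm.eq y n] 
      rw [hny, mul_zero, sub_zero]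
    have h4 := hcon x' h1
    have h5 := hcon (y + x') (by rw [LinearMap.BilinForm.add_right, hny, h1, add_zero])
    rw [LinearMap.BilinForm.add_left, LinearMap.BilinForm.add_right,
      LinearMap.BilinForm.add_right, hyy, h4, hsymm.eq x' y, h3] at h5
    have h6 : 2 * β y x = 0 := by linear_combination h5
    exact hx ((mul_eq_zero.1 h6).resolve_left h2)
  have hun : β u n = 0 := by rw [hsymm.eq]; exact hnu
  have hu0 : u ≠ 0 := by
    rintro rfl
    exact huu (by simp)
  have hus : ∀ c : k, u ≠ c • n := by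
    rintro c rfl
    rw [LinearMap.BilinForm.smul_right] at hnu
    rcases mul_eq_zero.1 hnu with h | h
    · exact hu0 (by rw [h, zero_smul])
    · exact hn h
  obtain ⟨w, hw0, hnw, huw, hw⟩ := exists_normal hU hnd hn0 hus
  have hww : β w w ≠ 0 := by
    intro hww
    apply hw0
    refine hnd.1 w fun x => ?_
    -- `w` is orthogonal to `n`, `u`, `w`
    set x' : U := x - (β n x / β n n) • n - (β u x / β u u) • u with hx'
    have h1 : β n x' = 0 := by
      rw [hx', LinearMap.BilinForm.sub_right, LinearMap.BilinForm.sub_right,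
        LinearMap.BilinForm.smul_right, LinearMap.BilinForm.smul_right, hnu, div_mul_cancel₀ _ hn]
      ring
    have h3 : β u x' = 0 := by
      rw [hx', LinearMap.BilinForm.sub_right, LinearMap.BilinForm.sub_right,
        LinearMap.BilinForm.smul_right, LinearMap.BilinForm.smul_right, hun, div_mul_cancel₀ _ huu]
      ring
    obtain ⟨c, hc⟩ := hw x' h1 h3
    have h4 : x = (β n x / β n n) • n + (β u x / β u u) • u + c • w := by
      rw [← hc, hx']; abel
    rw [h4, LinearMap.BilinForm.add_right, LinearMap.BilinForm.add_right,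
      LinearMap.BilinForm.smul_right, LinearMap.BilinForm.smul_right,
      LinearMap.BilinForm.smul_right, hww, hsymm.eq w n, hsymm.eq w u, hnw, huw]
    ring
  obtain ⟨t, ht⟩ := IsAlgClosed.exists_pow_nat_eq (-(β u u) / β w w) (n := 2) (by norm_num)
  have ht' : t ^ 2 * β w w = -(β u u) := by rw [ht, div_mul_cancel₀ _ hww]
  have hwu : β w u = 0 := by rw [hsymm.eq]; exact huw
  have hwn : β w n = 0 := by rw [hsymm.eq]; exact hnw
  refine ⟨u + t • w, u - t • w, ?_, ?_, ?_, ?_, ?_⟩
  · simp only [LinearMap.BilinForm.add_left, LinearMap.BilinForm.add_right,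
      LinearMap.BilinForm.smul_left, LinearMap.BilinForm.smul_right, huw, hwu]
    linear_combination ht'
  · simp only [LinearMap.BilinForm.sub_left, LinearMap.BilinForm.sub_right,
      LinearMap.BilinForm.smul_left, LinearMap.BilinForm.smul_right, huw, hwu]
    linear_combination ht'
  · simp only [LinearMap.BilinForm.add_left, LinearMap.BilinForm.sub_right,
      LinearMap.BilinForm.smul_left, LinearMap.BilinForm.smul_right, huw, hwu]
    intro h
    have h3 : 2 * β u u = 0 := by linear_combination h + ht'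
    exact huu ((mul_eq_zero.1 h3).resolve_left h2)
  · simp only [LinearMap.BilinForm.add_left, LinearMap.BilinForm.smul_left, hun, hwn]
    ring
  · simp only [LinearMap.BilinForm.sub_left, LinearMap.BilinForm.smul_left, hun, hwn]
    ring

end iso

section pts

variable {k U X : Type*} [Field k] [AddCommGroup U] [Module k U] [Group X]

/-- A group of isometries of determinant one of a three-dimensional space. -/
structure Dat (β : LinearMap.BilinForm k U) (ρ : Representation k X U) : Prop where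
  two : (2 : k) ≠ 0
  fr : finrank k U = 3
  symm : β.IsSymm
  nd : β.Nondegenerate
  inv : ∀ g u v, β (ρ g u) (ρ g v) = β u v
  det : ∀ g, LinearMap.det (ρ g) = 1
  inj : Function.Injective ρ

variable {β : LinearMap.BilinForm k U} {ρ : Representation k X U}

/-- The singular lines. -/
def Pt (_D : Dat β ρ) : Type _ :=
  {L : Submodule k U // ∃ w : U, w ≠ 0 ∧ β w w = 0 ∧ L = Submodule.span k {w}}

theorem rho_inv (ρ : Representation k X U) (g : X) (u : U) : ρ g⁻¹ (ρ g u) = u := by
  rw [← Module.End.mul_apply, ← map_mul, inv_mul_cancel, map_one, Module.End.one_apply]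

theorem rho_ne_zero (ρ : Representation k X U) (g : X) {u : U} (hu : u ≠ 0) : ρ g u ≠ 0 := by
  intro h
  apply hu
  rw [← rho_inv ρ g u, h, map_zero]

namespace Dat

/-- The singular line spanned by a singular vector. -/
def pt (D : Dat β ρ) (w : U) (h0 : w ≠ 0) (h1 : β w w = 0) : Pt D :=
  ⟨Submodule.span k {w}, w, h0, h1, rfl⟩

theorem exists_rep (D : Dat β ρ) (L : Pt D) :
    ∃ (w : U) (h0 : w ≠ 0) (h1 : β w w = 0), L = D.pt w h0 h1 := by
  obtain ⟨L, w, h0, h1, h2⟩ := L
  exact ⟨w, h0, h1, Subtype.ext h2⟩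

theorem pt_eq_iff (D : Dat β ρ) {w v : U} (h0 : w ≠ 0) (h1 : β w w = 0) (h0' : v ≠ 0)
    (h1' : β v v = 0) : D.pt w h0 h1 = D.pt v h0' h1' ↔ ∃ c : k, w = c • v := by
  constructor
  · intro h
    have h2 : Submodule.span k {w} = Submodule.span k {v} := congrArg Subtype.val h
    have h3 : w ∈ Submodule.span k {v} := by
      rw [← h2]; exact Submodule.mem_span_singleton_self w
    obtain ⟨c, hc⟩ := Submodule.mem_span_singleton.1 h3
    exact ⟨c, hc.symm⟩
  · rintro ⟨c, rfl⟩
    have hc : c ≠ 0 := by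
      rintro rfl
      exact h0 (zero_smul _ _)
    exact Subtype.ext (Submodule.span_singleton_smul_eq (IsUnit.mk0 c hc) v)

end Dat

instance instActPt (D : Dat β ρ) : MulAction X (Pt D) where
  smul g L := ⟨L.1.map (ρ g), by
    obtain ⟨w, h0, h1, h2⟩ := L.2
    refine ⟨ρ g w, rho_ne_zero ρ g h0, by rw [D.inv]; exact h1, ?_⟩
    rw [h2, Submodule.map_span, Set.image_singleton]⟩
  one_smul L := by
    apply Subtype.ext
    show L.1.map (ρ 1) = L.1
    rw [map_one]
    exact Submodule.map_id _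
  mul_smul g h L := by
    apply Subtype.ext
    show L.1.map (ρ (g * h)) = (L.1.map (ρ h)).map (ρ g)
    rw [map_mul, ← Submodule.map_comp]
    rfl

namespace Dat

theorem smul_pt (D : Dat β ρ) (g : X) {w : U} (h0 : w ≠ 0) (h1 : β w w = 0) :
    g • D.pt w h0 h1 = D.pt (ρ g w) (rho_ne_zero ρ g h0) (by rw [D.inv]; exact h1) := by
  apply Subtype.ext
  show (Submodule.span k {w}).map (ρ g) = _
  rw [Submodule.map_span, Set.image_singleton]
  rfl

theorem smul_eq_iff (D : Dat β ρ) (g : X) {w v : U} (h0 : w ≠ 0) (h1 : β w w = 0) (h0' : v ≠ 0)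
    (h1' : β v v = 0) : g • D.pt w h0 h1 = D.pt v h0' h1' ↔ ∃ c : k, ρ g w = c • v := by
  rw [D.smul_pt, D.pt_eq_iff]

theorem pairing (D : Dat β ρ) {a b : U} (ha0 : a ≠ 0) (ha : β a a = 0) (hb0 : b ≠ 0)
    (hb : β b b = 0) (hab : D.pt a ha0 ha ≠ D.pt b hb0 hb) : β a b ≠ 0 := by
  refine pairing_ne_zero D.fr D.symm D.nd ha0 ha hb0 hb fun h => hab (Subtype.ext h)

theorem exists_fixed_vector (D : Dat β ρ) (g : X) : ∃ n : U, n ≠ 0 ∧ ρ g n = n := by
  have : FiniteDimensional k U := FiniteDimensional.of_finrank_eq_succ D.fr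
  obtain ⟨h1, -⟩ := det_sub_one D.fr D.nd (g := ρ g) (D.inv g)
  rw [D.det g] at h1
  have h2 : LinearMap.det (ρ g - 1 : U →ₗ[k] U) = 0 := by
    rcases mul_eq_zero.1 h1 with h | h
    · exact absurd (by rw [← h]; norm_num) D.two
    · exact h
  have h7 := LinearMap.bot_lt_ker_of_det_eq_zero h2
  obtain ⟨v, hv, hv0⟩ := Submodule.exists_mem_ne_zero_of_ne_bot h7.ne'
  refine ⟨v, hv0, ?_⟩
  rw [LinearMap.mem_ker] at hv
  exact sub_eq_zero.1 hv

/-- A rotation fixing a nonsingular vector fixes two singular lines. -/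
theorem two_fixed [IsAlgClosed k] (D : Dat β ρ) {g : X} {n : U} (hn : β n n ≠ 0)
    (hgn : ρ g n = n) :
    ∃ x y : Pt D, x ≠ y ∧ g • x = x ∧ g • y = y := by
  obtain ⟨a, b, ha, hb, hab, han, hbn⟩ := exists_frame_of_nonsingular D.two D.fr D.symm D.nd hn
  obtain ⟨B, hB0, hB1, hB02, hB12, hB22⟩ := exists_frame D.fr D.symm D.nd ha hb hab
  have hba : β b a ≠ 0 := by rw [D.symm.eq]; exact hab
  have ha0 : a ≠ 0 := by rintro rfl; exact hab (by simp)
  have hb0 : b ≠ 0 := by rintro rfl; exact hab (by simp)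
  rw [← hB0] at hB02
  rw [← hB1] at hB12
  have hBn : ∃ c : k, c ≠ 0 ∧ n = c • B 2 := by
    obtain ⟨x, y, z, hxyz⟩ := frame_sum B n
    have h0 : β (B 0) n = 0 := by rw [hB0]; exact han
    have h1 : β (B 1) n = 0 := by rw [hB1]; exact hbn
    have e00 : β (B 0) (B 0) = 0 := by rw [hB0]; exact ha
    have e11 : β (B 1) (B 1) = 0 := by rw [hB1]; exact hb
    have e01 : β (B 0) (B 1) ≠ 0 := by rw [hB0, hB1]; exact hab
    have e10 : β (B 1) (B 0) ≠ 0 := by rw [hB0, hB1]; exact hba
    rw [hxyz] at h0 h1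
    simp only [LinearMap.BilinForm.add_right, LinearMap.BilinForm.smul_right, e00, e11, hB02, hB12,
      mul_zero, add_zero, zero_add] at h0 h1
    have hy := (mul_eq_zero.1 h0).resolve_right e01
    have hx := (mul_eq_zero.1 h1).resolve_right e10
    rw [hx, hy, zero_smul, zero_smul, zero_add, zero_add] at hxyz
    refine ⟨z, ?_, hxyz⟩
    rintro rfl
    apply hn
    rw [hxyz]
    simp
  obtain ⟨c, hc0, hcn⟩ := hBn
  -- image of a singular vector orthogonal to `n`
  have key : ∀ w, β w w = 0 → β w n = 0 → w ≠ 0 → (∃ r : k, w = r • a) ∨ ∃ r : k, w = r • b := by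
    intro w hww hwn hw0
    obtain ⟨x, y, z, hxyz⟩ := frame_sum B w
    have hz : z = 0 := by
      rw [hcn, hxyz] at hwn
      simp only [LinearMap.BilinForm.add_left, LinearMap.BilinForm.smul_left,
        LinearMap.BilinForm.smul_right, hB02, hB12, mul_zero, zero_add] at hwn
      have h1 := (mul_eq_zero.1 hwn).resolve_left hc0
      exact (mul_eq_zero.1 h1).resolve_right hB22
    rw [hz, zero_smul, add_zero, hB0, hB1] at hxyz
    rw [hxyz] at hww
    simp only [LinearMap.BilinForm.add_left, LinearMap.BilinForm.add_right,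
      LinearMap.BilinForm.smul_left, LinearMap.BilinForm.smul_right, ha, hb, D.symm.eq b a] at hww
    have h3 : (2 * (x * y)) * β a b = 0 := by
      rw [D.symm.eq a b] at hww ⊢
      linear_combination hww
    have h4 := (mul_eq_zero.1 h3).resolve_right hab
    rcases mul_eq_zero.1 ((mul_eq_zero.1 h4).resolve_left D.two) with h5 | h5
    · right
      exact ⟨y, by rw [hxyz, h5, zero_smul, zero_add]⟩
    · left
      exact ⟨x, by rw [hxyz, h5, zero_smul, add_zero]⟩
  have hga : β (ρ g a) n = 0 := by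
    nth_rewrite 1 [← hgn]
    rw [D.inv]; exact han
  have hgb : β (ρ g b) n = 0 := by
    nth_rewrite 1 [← hgn]
    rw [D.inv]; exact hbn
  have hne : D.pt a ha0 ha ≠ D.pt b hb0 hb := by
    intro h
    obtain ⟨r, hr⟩ := (D.pt_eq_iff ha0 ha hb0 hb).1 h
    apply hab
    rw [hr, LinearMap.BilinForm.smul_left, hb, mul_zero]
  rcases key (ρ g a) (by rw [D.inv]; exact ha) hga (rho_ne_zero ρ g ha0) with h1 | ⟨l, h1⟩
  · refine ⟨D.pt a ha0 ha, D.pt b hb0 hb, hne, (D.smul_eq_iff g ha0 ha ha0 ha).2 h1, ?_⟩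
    rcases key (ρ g b) (by rw [D.inv]; exact hb) hgb (rho_ne_zero ρ g hb0) with ⟨r, h3⟩ | h3
    · exfalso
      obtain ⟨r', h1⟩ := h1
      apply hab
      rw [← D.inv g, h1, h3, LinearMap.BilinForm.smul_left, LinearMap.BilinForm.smul_right, ha]
      ring
    · exact (D.smul_eq_iff g hb0 hb hb0 hb).2 h3
  · exfalso
    rcases key (ρ g b) (by rw [D.inv]; exact hb) hgb (rho_ne_zero ρ g hb0) with ⟨m, h3⟩ | ⟨r, h3⟩
    · obtain ⟨hlm, z, hz, hgz⟩ := third_swap (g := ρ g) D.symm B hB02 hB12 hB22
        (by rw [hB0, hB1]; exact hab) (by rw [hB0]; exact ha) (by rw [hB1]; exact hb) (D.inv g)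
        (l := l) (m := m) (by rw [hB0, hB1]; exact h1) (by rw [hB0, hB1]; exact h3)
      have hz1 : z = 1 := by
        have h4 : ρ g n = z • n := by
          rw [hcn, map_smul, hgz, smul_comm]
        rw [hgn] at h4
        have hn0 : n ≠ 0 := by rintro rfl; exact hn (by simp)
        have h5 : (1 - z) • n = 0 := by rw [sub_smul, one_smul, ← h4, sub_self]
        exact (sub_eq_zero.1 ((smul_eq_zero.1 h5).resolve_right hn0)).symm
      have h6 := det_of_frame B (ρ g) (x0 := 0) (x1 := l) (y0 := m) (y1 := 0) (z := z)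
        (by rw [hB0, hB1, h1]; simp) (by rw [hB0, hB1, h3]; simp) hgz
      rw [D.det, hz1] at h6
      apply D.two
      linear_combination h6 - hlm
    · apply hab
      rw [← D.inv g, h1, h3, LinearMap.BilinForm.smul_left, LinearMap.BilinForm.smul_right, hb]
      ring

theorem exists_fixed [IsAlgClosed k] (D : Dat β ρ) (g : X) : ∃ x : Pt D, g • x = x := by
  obtain ⟨n, hn0, hn⟩ := D.exists_fixed_vector g
  by_cases h : β n n = 0
  · exact ⟨D.pt n hn0 h, (D.smul_eq_iff g hn0 h hn0 h).2 ⟨1, by rw [hn, one_smul]⟩⟩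
  · obtain ⟨x, -, -, hx, -⟩ := D.two_fixed h hn
    exact ⟨x, hx⟩

/-- The action in a frame of a rotation fixing two singular lines. -/
theorem frame_of_two (D : Dat β ρ) {g : X} {a b : U} (ha0 : a ≠ 0) (ha : β a a = 0)
    (hb0 : b ≠ 0) (hb : β b b = 0) (hab : β a b ≠ 0) (hga : g • D.pt a ha0 ha = D.pt a ha0 ha)
    (hgb : g • D.pt b hb0 hb = D.pt b hb0 hb) :
    ∃ (B : Basis (Fin 3) k U) (l m : k), B 0 = a ∧ B 1 = b ∧ β a (B 2) = 0 ∧ β b (B 2) = 0 ∧
      β (B 2) (B 2) ≠ 0 ∧ l * m = 1 ∧ ρ g a = l • a ∧ ρ g b = m • b ∧ ρ g (B 2) = B 2 := by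
  obtain ⟨l, hl⟩ := (D.smul_eq_iff g ha0 ha ha0 ha).1 hga
  obtain ⟨m, hm⟩ := (D.smul_eq_iff g hb0 hb hb0 hb).1 hgb
  obtain ⟨B, hB0, hB1, hB02, hB12, hB22⟩ := exists_frame D.fr D.symm D.nd ha hb hab
  obtain ⟨hlm, z, hz, hgz⟩ := third_diag (g := ρ g) D.symm B (by rw [hB0]; exact hB02)
    (by rw [hB1]; exact hB12) hB22 (by rw [hB0, hB1]; exact hab) (by rw [hB0]; exact ha)
    (by rw [hB1]; exact hb) (D.inv g) (l := l) (m := m) (by rw [hB0]; exact hl)
    (by rw [hB1]; exact hm)
  have h6 := det_of_frame B (ρ g) (x0 := l) (x1 := 0) (y0 := 0) (y1 := m) (z := z)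
    (by rw [hB0, hl]; simp) (by rw [hB1, hm]; simp) hgz
  have hz1 : z = 1 := by
    rw [D.det] at h6
    linear_combination -h6 - z * hlm
  · refine ⟨B, l, m, hB0, hB1, hB02, hB12, hB22, hlm, hl, hm, ?_⟩
    rw [hgz, hz1, one_smul]

theorem eq_one_of_three (D : Dat β ρ) (g : X) (x y z : Pt D) (hxy : x ≠ y) (hxz : x ≠ z)
    (hyz : y ≠ z) (hx : g • x = x) (hy : g • y = y) (hz : g • z = z) : g = 1 := by
  obtain ⟨a, ha0, ha, rfl⟩ := D.exists_rep x
  obtain ⟨b, hb0, hb, rfl⟩ := D.exists_rep y
  obtain ⟨c, hc0, hc, rfl⟩ := D.exists_rep z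
  have hab := D.pairing ha0 ha hb0 hb hxy
  have hba : β b a ≠ 0 := by rw [D.symm.eq]; exact hab
  obtain ⟨B, l, m, hB0, hB1, hB02, hB12, hB22, hlm, hl, hm, hg2⟩ :=
    D.frame_of_two ha0 ha hb0 hb hab hx hy
  obtain ⟨r, hr⟩ := (D.smul_eq_iff g hc0 hc hc0 hc).1 hz
  obtain ⟨x, y, w, hxyw⟩ := frame_sum B c
  rw [hB0, hB1] at hxyw
  have hB20 : β (B 2) a = 0 := by rw [D.symm.eq]; exact hB02
  have hB21 : β (B 2) b = 0 := by rw [D.symm.eq]; exact hB12
  have hcc : 2 * (x * y) * β a b + w ^ 2 * β (B 2) (B 2) = 0 := by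
    have h := hc
    rw [hxyw] at h
    simp only [LinearMap.BilinForm.add_left, LinearMap.BilinForm.add_right,
      LinearMap.BilinForm.smul_left, LinearMap.BilinForm.smul_right, ha, hb, hB02, hB12, hB20,
      hB21] at h
    have h' : β b a = β a b := D.symm.eq b a
    rw [h'] at h
    linear_combination h
  have hw : w ≠ 0 := by
    rintro rfl
    rw [zero_smul, add_zero] at hxyw
    have h3 : 2 * (x * y) * β a b = 0 := by linear_combination hcc
    have h4 := (mul_eq_zero.1 h3).resolve_right hab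
    rcases mul_eq_zero.1 ((mul_eq_zero.1 h4).resolve_left D.two) with h5 | h5
    · apply hyz
      symm
      rw [D.pt_eq_iff]
      exact ⟨y, by rw [hxyw, h5, zero_smul, zero_add]⟩
    · apply hxz
      symm
      rw [D.pt_eq_iff]
      exact ⟨x, by rw [hxyw, h5, zero_smul, add_zero]⟩
  have hx0 : x ≠ 0 := by
    rintro rfl
    have h3 : w ^ 2 * β (B 2) (B 2) = 0 := by linear_combination hcc
    exact hw (pow_eq_zero_iff (two_ne_zero)|>.1 ((mul_eq_zero.1 h3).resolve_right hB22))
  -- compare coefficients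
  have hgc : ρ g c = (x * l) • a + (y * m) • b + w • B 2 := by
    rw [hxyw, map_add, map_add, map_smul, map_smul, map_smul, hl, hm, hg2, smul_smul, smul_smul]
  have hli := B.linearIndependent
  rw [Fintype.linearIndependent_iff] at hli
  have hzero : (x * l - r * x) • B 0 + (y * m - r * y) • B 1 + (w - r * w) • B 2 = 0 := by
    rw [hB0, hB1, sub_smul, sub_smul, sub_smul]
    have h5 : ρ g c = (r * x) • a + (r * y) • b + (r * w) • B 2 := by
      rw [hr, hxyw, smul_add, smul_add, smul_smul, smul_smul, smul_smul]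
    have h6 := hgc.symm.trans h5
    have h7 : (x * l) • a - (r * x) • a + ((y * m) • b - (r * y) • b) + (w • B 2 - (r * w) • B 2) =
        ((x * l) • a + (y * m) • b + w • B 2) - ((r * x) • a + (r * y) • b + (r * w) • B 2) := by
      abel
    rw [h7, h6, sub_self]
  have hcoef := hli ![x * l - r * x, y * m - r * y, w - r * w] (by
    rw [Fin.sum_univ_three]
    exact hzero)
  have hr1 : r = 1 := by
    have h := hcoef 2
    have h' : w - r * w = 0 := h
    have h3 : (1 - r) * w = 0 := by linear_combination h'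
    exact (sub_eq_zero.1 ((mul_eq_zero.1 h3).resolve_right hw)).symm
  have hl1 : l = 1 := by
    have h := hcoef 0
    have h' : x * l - r * x = 0 := h
    rw [hr1] at h'
    have h3 : x * (l - 1) = 0 := by linear_combination h'
    exact sub_eq_zero.1 ((mul_eq_zero.1 h3).resolve_left hx0)
  have hm1 : m = 1 := by rw [hl1, one_mul] at hlm; exact hlm
  apply D.inj
  rw [map_one]
  apply ext_frame B
  · rw [hB0, hl, hl1, one_smul]; rfl
  · rw [hB1, hm, hm1, one_smul]; rfl
  · rw [hg2]; rfl

theorem sq_eq_one (D : Dat β ρ) (g : X) (x y : Pt D) (hxy : x ≠ y) (hx : g • x = y)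
    (hy : g • y = x) : g * g = 1 := by
  obtain ⟨a, ha0, ha, rfl⟩ := D.exists_rep x
  obtain ⟨b, hb0, hb, rfl⟩ := D.exists_rep y
  have hab := D.pairing ha0 ha hb0 hb hxy
  obtain ⟨l, hl⟩ := (D.smul_eq_iff g ha0 ha hb0 hb).1 hx
  obtain ⟨m, hm⟩ := (D.smul_eq_iff g hb0 hb ha0 ha).1 hy
  obtain ⟨B, hB0, hB1, hB02, hB12, hB22⟩ := exists_frame D.fr D.symm D.nd ha hb hab
  obtain ⟨hlm, z, hz, hgz⟩ := third_swap (g := ρ g) D.symm B (by rw [hB0]; exact hB02)
    (by rw [hB1]; exact hB12) hB22 (by rw [hB0, hB1]; exact hab) (by rw [hB0]; exact ha)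
    (by rw [hB1]; exact hb) (D.inv g) (l := l) (m := m) (by rw [hB0, hB1]; exact hl)
    (by rw [hB0, hB1]; exact hm)
  apply D.inj
  rw [map_one, map_mul]
  apply ext_frame B
  · rw [Module.End.mul_apply, hB0, hl, map_smul, hm, smul_smul, hlm, one_smul]; rfl
  · rw [Module.End.mul_apply, hB1, hm, map_smul, hl, smul_smul, mul_comm, hlm, one_smul]; rfl
  · rw [Module.End.mul_apply, hgz, map_smul, hgz, smul_smul, ← sq, hz, one_smul]; rfl

/-- The scalar by which the stabiliser of a singular line acts on it. -/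
theorem exists_char (D : Dat β ρ) {a : U} (ha0 : a ≠ 0) (ha : β a a = 0) :
    ∃ χ : stabilizer X (D.pt a ha0 ha) →* kˣ,
      ∀ g : stabilizer X (D.pt a ha0 ha), ρ (g : X) a = (χ g : k) • a := by
  have h : ∀ g : stabilizer X (D.pt a ha0 ha), ∃ c : k, ρ (g : X) a = c • a := fun g =>
    (D.smul_eq_iff (g : X) ha0 ha ha0 ha).1 g.2
  choose c hc using h
  have hinj : ∀ {c d : k}, c • a = d • a → c = d := fun h => smul_left_injective k ha0 h
  have h1 : c 1 = 1 := by
    apply hinj
    rw [← hc, one_smul, Subgroup.coe_one, map_one]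
    rfl
  have hmul : ∀ g h, c (g * h) = c g * c h := by
    intro g h
    apply hinj
    rw [← hc, Subgroup.coe_mul, map_mul, Module.End.mul_apply, hc h, map_smul, hc g, smul_smul,
      mul_comm]
  let f : stabilizer X (D.pt a ha0 ha) →* k := { toFun := c, map_one' := h1, map_mul' := hmul }
  exact ⟨f.toHomUnits, hc⟩

theorem fixed_of_only [IsAlgClosed k] (D : Dat β ρ) {g : X} {a : U} (ha0 : a ≠ 0) (ha : β a a = 0)
    (h : ∀ y : Pt D, g • y = y → y = D.pt a ha0 ha) : ρ g a = a := by
  obtain ⟨n, hn0, hn⟩ := D.exists_fixed_vector g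
  by_cases hnn : β n n = 0
  · have h1 := h (D.pt n hn0 hnn) ((D.smul_eq_iff g hn0 hnn hn0 hnn).2 ⟨1, by rw [hn, one_smul]⟩)
    obtain ⟨c, hc⟩ := (D.pt_eq_iff hn0 hnn ha0 ha).1 h1
    have hc0 : c ≠ 0 := by
      rintro rfl
      exact hn0 (by rw [hc, zero_smul])
    rw [hc, map_smul] at hn
    exact smul_right_injective U hc0 hn
  · exfalso
    obtain ⟨x, y, hxy, hx, hy⟩ := D.two_fixed hnn hn
    exact hxy ((h x hx).trans (h y hy).symm)

theorem eq_one_of_fixed_vector (D : Dat β ρ) {g : X} {a : U} (ha0 : a ≠ 0) (ha : β a a = 0)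
    (hga : ρ g a = a) {y : Pt D} (hy : y ≠ D.pt a ha0 ha) (hgy : g • y = y) : g = 1 := by
  obtain ⟨b, hb0, hb, rfl⟩ := D.exists_rep y
  have hab := D.pairing ha0 ha hb0 hb (Ne.symm hy)
  obtain ⟨B, l, m, hB0, hB1, hB02, hB12, hB22, hlm, hl, hm, hg2⟩ :=
    D.frame_of_two ha0 ha hb0 hb hab
      ((D.smul_eq_iff g ha0 ha ha0 ha).2 ⟨1, by rw [hga, one_smul]⟩) hgy
  have hl1 : l = 1 := by
    have h1 : l • a = (1 : k) • a := by rw [← hl, hga, one_smul]
    exact smul_left_injective k ha0 h1
  have hm1 : m = 1 := by rw [hl1, one_mul] at hlm; exact hlm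
  apply D.inj
  rw [map_one]
  apply ext_frame B
  · rw [hB0, hga]; rfl
  · rw [hB1, hm, hm1, one_smul]; rfl
  · rw [hg2]; rfl

theorem det_upper (B : Basis (Fin 3) k U) (g : U →ₗ[k] U) {x z x' y' z' : k}
    (h0 : g (B 0) = B 0) (h2 : g (B 2) = x • B 0 + z • B 2)
    (h1 : g (B 1) = x' • B 0 + y' • B 1 + z' • B 2) : LinearMap.det g = y' * z := by
  rw [← LinearMap.det_toMatrix B g, Matrix.det_fin_three]
  simp only [LinearMap.toMatrix_apply, h0, h1, h2, map_add, map_smul, Basis.repr_self,
    Finsupp.add_apply, Finsupp.smul_apply, Finsupp.single_apply, smul_eq_mul]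
  simp

theorem cube_eq_zero (D : Dat β ρ) {g : X} {a : U} (ha0 : a ≠ 0) (ha : β a a = 0)
    (hga : ρ g a = a) : (ρ g - 1 : Module.End k U) ^ 3 = 0 := by
  obtain ⟨x, hx⟩ := exists_ne_zero_pairing D.nd ha0
  -- a singular vector not orthogonal to `a`
  set b : U := x - (β x x / (2 * β a x)) • a with hb
  have hax : β x a = β a x := D.symm.eq x a
  have hbb : β b b = 0 := by
    rw [hb]
    simp only [LinearMap.BilinForm.sub_left, LinearMap.BilinForm.sub_right,
      LinearMap.BilinForm.smul_left, LinearMap.BilinForm.smul_right, ha, hax]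
    have h2 := D.two
    field_simp
    ring
  have hab : β a b ≠ 0 := by
    rw [hb, LinearMap.BilinForm.sub_right, LinearMap.BilinForm.smul_right, ha, mul_zero, sub_zero]
    exact hx
  have hba : β b a ≠ 0 := by rw [D.symm.eq]; exact hab
  obtain ⟨B, hB0, hB1, hB02, hB12, hB22⟩ := exists_frame D.fr D.symm D.nd ha hbb hab
  obtain ⟨x2, y2, z2, e2⟩ := frame_sum B (ρ g (B 2))
  obtain ⟨x1, y1, z1, e1⟩ := frame_sum B (ρ g (B 1))
  have hB20 : β (B 2) a = 0 := by rw [D.symm.eq]; exact hB02
  have hB21 : β (B 2) b = 0 := by rw [D.symm.eq]; exact hB12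
  have hy2 : y2 = 0 := by
    have h := D.inv g a (B 2)
    rw [hga, e2, hB0, hB1] at h
    simp only [LinearMap.BilinForm.add_right, LinearMap.BilinForm.smul_right, ha, hB02, mul_zero,
      add_zero, zero_add] at h
    exact (mul_eq_zero.1 h).resolve_right hab
  have hy1 : y1 = 1 := by
    have h := D.inv g a (B 1)
    rw [hga, e1, hB0, hB1] at h
    simp only [LinearMap.BilinForm.add_right, LinearMap.BilinForm.smul_right, ha, hB02, mul_zero,
      add_zero, zero_add] at h
    exact mul_right_cancel₀ hab (by rw [h, one_mul])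
  rw [hy2, zero_smul, add_zero] at e2
  have hdet := det_upper B (ρ g) (by rw [hB0]; exact hga) e2 e1
  rw [D.det, hy1, one_mul] at hdet
  rw [← hdet, one_smul] at e2
  rw [hy1, one_smul] at e1
  have f0 : (ρ g - 1 : Module.End k U) (B 0) = 0 := by
    show ρ g (B 0) - B 0 = 0
    rw [hB0, hga, sub_self]
  have f2 : (ρ g - 1 : Module.End k U) (B 2) = x2 • B 0 := by
    show ρ g (B 2) - B 2 = _
    rw [e2, add_sub_cancel_right]
  have f1 : (ρ g - 1 : Module.End k U) (B 1) = x1 • B 0 + z1 • B 2 := by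
    show ρ g (B 1) - B 1 = _
    rw [e1]; abel
  apply ext_frame B
  · rw [pow_succ, Module.End.mul_apply, f0, map_zero]; rfl
  · rw [pow_succ, pow_succ, pow_one, Module.End.mul_apply, Module.End.mul_apply, f1, map_add,
      map_smul, map_smul, f0, f2, smul_zero, zero_add, map_smul, map_smul, f0, smul_zero, smul_zero]
    rfl
  · rw [pow_succ, pow_succ, pow_one, Module.End.mul_apply, Module.End.mul_apply, f2, map_smul, f0,
      smul_zero, map_zero]
    rfl

theorem mobius [IsAlgClosed k] {s : ℕ} [Fact s.Prime] [CharP k s] (D : Dat β ρ) :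
    Cfsg.Agent.ClassicalGeometry.DicksonAbstract.MobiusLike k s X (Pt D) where
  exists_fixed := D.exists_fixed
  eq_one := D.eq_one_of_three
  sq_eq_one := D.sq_eq_one
  char x := by
    obtain ⟨a, ha0, ha, rfl⟩ := D.exists_rep x
    obtain ⟨χ, hχ⟩ := D.exists_char ha0 ha
    refine ⟨χ, fun g => ?_⟩
    constructor
    · intro h1
      have hga : ρ (g : X) a = a := by
        rw [hχ g, h1, Units.val_one, one_smul]
      by_cases hall : ∀ y : Pt D, (g : X) • y = y → y = D.pt a ha0 ha
      · exact Or.inr hall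
      · left
        push Not at hall
        obtain ⟨y, hy, hya⟩ := hall
        exact D.eq_one_of_fixed_vector ha0 ha hga hya hy
    · rintro (h1 | h1)
      · have : g = 1 := Subtype.ext h1
        rw [this, map_one]
      · have hga := D.fixed_of_only ha0 ha h1
        apply Units.ext
        rw [Units.val_one]
        apply smul_left_injective k ha0
        show (χ g : k) • a = (1 : k) • a
        rw [← hχ g, hga, one_smul]
  pow_eq_one g x h := by
    have : FiniteDimensional k U := FiniteDimensional.of_finrank_eq_succ D.fr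
    obtain ⟨a, ha0, ha, rfl⟩ := D.exists_rep x
    have hga := D.fixed_of_only ha0 ha h
    have h3 := D.cube_eq_zero ha0 ha hga
    have hs : 3 ≤ s := by
      have hp := (Fact.out : s.Prime)
      have h2 := hp.two_le
      rcases Nat.lt_or_ge s 3 with h | h
      · exfalso
        have hs2 : s = 2 := by omega
        apply D.two
        have h4 : ((s : ℕ) : k) = 0 := CharP.cast_eq_zero k s
        rw [hs2] at h4
        exact_mod_cast h4
      · exact h
    have h4 : (ρ g - 1 : Module.End k U) ^ s = 0 := pow_eq_zero_of_le hs h3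
    have : Nontrivial U := Module.nontrivial_of_finrank_pos (R := k) (by rw [D.fr]; norm_num)
    have : CharP (Module.End k U) s :=
      charP_of_injective_algebraMap (algebraMap k (Module.End k U)).injective s
    have h5 : (ρ g - 1 : Module.End k U) ^ s = (ρ g : Module.End k U) ^ s - 1 ^ s :=
      sub_pow_char_of_commute _ (Commute.one_right _)
    rw [h4, one_pow] at h5
    apply D.inj
    rw [map_pow, map_one]
    exact (sub_eq_zero.1 h5.symm)

end Dat

end pts

end Cfsg.Agent.H697.Conic
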