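import Cfsg.Agent.H697.Conic

/-!
# Finite groups of Moebius type of order divisible exactly once by the characteristic
-/

set_option autoImplicit false

namespace Cfsg.Agent.H697.ConicCard

open MulAction
open Cfsg.Agent.ClassicalGeometry.DicksonAbstract Cfsg.Agent.ClassicalGeometry.DicksonCount

variable {k : Type*} [Field k] {s : ℕ} {X Y : Type*} [Group X] [MulAction X Y] [Finite X]

theorem card_Q_eq [Fact s.Prime] [CharP k s] (h : MobiusLike k s X Y) (hs2 : ¬ s ^ 2 ∣ Nat.card X)
    {y : Y} (hy : Nat.card (h.Q y) ≠ 1) : Nat.card (h.Q y) = s := by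
  have hs := (Fact.out : s.Prime)
  obtain ⟨n, hn⟩ := (IsPGroup.iff_card.1 (h.isPGroup_Q y))
  have h1 : Nat.card (h.Q y) ∣ Nat.card X := Subgroup.card_subgroup_dvd_card _
  rcases n with _ | _ | n
  · rw [pow_zero] at hn
    exact absurd hn hy
  · rw [hn, zero_add, pow_one]
  · exfalso
    apply hs2
    rw [hn] at h1
    exact (pow_dvd_pow s (by omega)).trans h1

/-- A finite group of Moebius type in characteristic `s ≥ 7` with an element of order `s` and order not
divisible by `s ^ 2`: either `⟨x⟩` is normal, or the order is `s (s + 1) t` with `t = s - 1` or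
`t = (s - 1) / 2`. -/
theorem main [Fact s.Prime] [CharP k s] (h : MobiusLike k s X Y) (hs7 : 7 ≤ s) {x : X}
    (hx : orderOf x = s) (hs2 : ¬ s ^ 2 ∣ Nat.card X) :
    (Subgroup.zpowers x).Normal ∨
    ∃ (N : Subgroup X) (t : ℕ), (t = s - 1 ∨ 2 * t = s - 1) ∧ Nat.card N = s * t ∧
      N.index = s + 1 ∧ (∀ g ∈ N, g * x * g⁻¹ ∈ Subgroup.zpowers x) ∧
      ∀ g : X, g * x = x * g → g ∈ Subgroup.zpowers x := by
  classical
  have hs := (Fact.out : s.Prime)
  have hx1 : x ≠ 1 := by
    rintro rfl
    rw [orderOf_one] at hx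
    omega
  have hsX : s ∣ Nat.card X := by rw [← hx]; exact orderOf_dvd_natCard x
  have : Nontrivial X := ⟨⟨x, 1, hx1⟩⟩
  obtain ⟨y₀, hy₀⟩ := h.exists_mem_Q hx1 (n := 1) (by rw [pow_one, ← hx]; exact pow_orderOf_eq_one x)
  have hfix : ∀ y, x • y = y ↔ y = y₀ := h.fix_iff_of_mem_Q hy₀ hx1
  have hQcard : Nat.card (h.Q y₀) = s := by
    apply card_Q_eq h hs2
    intro hc
    have : h.Q y₀ = ⊥ := Subgroup.eq_bot_of_card_eq _ hc
    rw [this, Subgroup.mem_bot] at hy₀
    exact hx1 hy₀
  have hQ : h.Q y₀ = Subgroup.zpowers x := by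
    symm
    apply Subgroup.eq_of_le_of_card_ge
    · rw [Subgroup.zpowers_le]; exact hy₀
    · rw [hQcard, Nat.card_zpowers, hx]
  obtain ⟨S, R, hSR⟩ := exists_Reps h
  rcases cases h hSR with ⟨w, hw⟩ | ⟨w, hw⟩ | ⟨_, _, _, -, -, -, -, -, -, -, -, -, hcard⟩ |
    ⟨_, _, -, -, -, -, hcard, -⟩ | ⟨w, hw3, hworb, t, hwt, ht⟩
  · -- a global fixed point
    left
    have hwy : w = y₀ := (hfix w).1 (hw x)
    subst hwy
    refine ⟨fun n hn g => ?_⟩
    rw [← hQ] at hn ⊢
    have h1 := (h.mem_Q_smul g w n).1 hn
    rwa [hw g] at h1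
  · -- an orbit of length two
    exfalso
    obtain ⟨a, b, hab, hab'⟩ := Nat.card_eq_two_iff.1 hw
    have hmem : ∀ c : orbit X w, c = a ∨ c = b := by
      intro c
      have : c ∈ ({a, b} : Set (orbit X w)) := by rw [hab']; trivial
      simpa using this
    have hab1 : (a : Y) ≠ b := fun hc => hab (Subtype.ext hc)
    rcases hmem (x • a) with h1 | h1
    · have h1' : x • (a : Y) = a := congrArg Subtype.val h1
      have h2 : x • (b : Y) = b := by
        rcases hmem (x • b) with h2 | h2
        · exfalso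
          apply hab
          have h3 : x • a = x • b := h1.trans h2.symm
          exact smul_left_cancel x h3
        · exact congrArg Subtype.val h2
      apply hx1
      exact h.eq_one_of_two hab1 h1' h2 (by rw [← hx]; exact pow_orderOf_eq_one x)
    · have h1' : x • (a : Y) = b := congrArg Subtype.val h1
      have h2 : x • (b : Y) = a := by
        rcases hmem (x • b) with h2 | h2
        · exact congrArg Subtype.val h2
        · exfalso
          apply hab
          have h3 : x • a = x • b := h1.trans h2.symm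
          exact smul_left_cancel x h3
      have h3 := h.sq_eq_one x a b hab1 h1' h2
      have h4 : orderOf x ∣ 2 := orderOf_dvd_of_pow_eq_one (by rw [sq]; exact h3)
      rw [hx] at h4
      have := Nat.le_of_dvd (by norm_num) h4
      omega
  · exfalso
    have h12 : s ∣ 12 ∨ s ∣ 24 ∨ s ∣ 60 := by
      rcases hcard with ⟨h1, -⟩ | ⟨h1, -⟩ | ⟨h1, -⟩
      · left; rw [← h1]; exact hsX
      · right; left; rw [← h1]; exact hsX
      · right; right; rw [← h1]; exact hsX
    have key : s ∣ 2 ^ 3 * 3 * 5 := by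
      rcases h12 with h1 | h1 | h1
      · exact h1.trans ⟨10, by norm_num⟩
      · exact h1.trans ⟨5, by norm_num⟩
      · exact h1.trans ⟨2, by norm_num⟩
    rcases (Nat.Prime.dvd_mul hs).1 key with h1 | h1
    · rcases (Nat.Prime.dvd_mul hs).1 h1 with h2 | h2
      · have := Nat.le_of_dvd (by norm_num) (hs.dvd_of_dvd_pow h2)
        omega
      · have := Nat.le_of_dvd (by norm_num) h2
        omega
    · have := Nat.le_of_dvd (by norm_num) h1
      omega
  · exfalso
    rw [hcard] at hsX
    have key : s ∣ 2 ^ 2 * 3 * 5 := hsX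
    rcases (Nat.Prime.dvd_mul hs).1 key with h1 | h1
    · rcases (Nat.Prime.dvd_mul hs).1 h1 with h2 | h2
      · have := Nat.le_of_dvd (by norm_num) (hs.dvd_of_dvd_pow h2)
        omega
      · have := Nat.le_of_dvd (by norm_num) h2
        omega
    · have := Nat.le_of_dvd (by norm_num) h1
      omega
  · right
    have hQw : Nat.card (h.Q w) = s := card_Q_eq h hs2 (by omega)
    have hQw' : h.Q w ≠ ⊥ := by
      intro hc
      rw [hc, Subgroup.card_bot] at hQw
      omega
    have hQy' : h.Q y₀ ≠ ⊥ := by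
      intro hc
      rw [hc, Subgroup.card_bot] at hQcard
      omega
    obtain ⟨g, hg⟩ := h.exists_smul_eq hQw' hQy'
    rw [hQw] at hworb hwt ht
    refine ⟨stabilizer X y₀, t, ht, ?_, ?_, ?_, ?_⟩
    · rw [← hg, card_stab_smul, hwt]
    · rw [MulAction.index_stabilizer]
      have h1 : orbit X y₀ = orbit X w := by
        rw [← hg]; exact MulAction.orbit_smul g w
      rw [h1, ← hworb]
      exact Nat.card_coe_set_eq _
    · intro g hg
      have hg' : g • y₀ = y₀ := hg
      rw [← hQ]
      have h1 := (h.mem_Q_smul g y₀ x).1 hy₀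
      rwa [hg'] at h1
    · intro g hgx
      have h1 : g • y₀ = y₀ := by
        rw [← hfix, ← mul_smul, ← hgx, mul_smul, (hfix y₀).2 rfl]
      by_cases hall : ∀ y, g • y = y → y = y₀
      · rw [← hQ, h.mem_Q]
        exact Or.inr hall
      · push Not at hall
        obtain ⟨z, hz, hzy⟩ := hall
        have h2 : g = 1 := by
          refine h.eq_one g y₀ z (x • z) (Ne.symm hzy) ?_ ?_ h1 hz ?_
          · intro hc
            apply hzy
            have h3 : x • z = x • y₀ := by rw [← hc, (hfix y₀).2 rfl]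
            exact smul_left_cancel x h3
          · intro hc
            exact hzy ((hfix z).1 hc.symm)
          · rw [← mul_smul, hgx, mul_smul, hz]
        rw [h2]
        exact one_mem _

end Cfsg.Agent.H697.ConicCard
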