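import Cfsg.Agent.PermutationGroups.RegularLinear

/-!
# Abelian normal subgroups of transitive linear groups are cyclic: group version
-/

set_option autoImplicit false
set_option linter.style.haveILetI false

namespace Cfsg.Agent.H697.CycAct

open Module
open Cfsg.Agent.PermutationGroups.RegularLinear

theorem act_cyclic {r : ℕ} [Fact r.Prime] {D E : Type*} [Group D] [AddCommGroup E] [Finite E]
    [Nontrivial E] [DistribMulAction D E] (hE : ∀ e : E, r • e = 0)
    (htr : ∀ a b : E, a ≠ 0 → b ≠ 0 → ∃ d : D, d • a = b) (K : Subgroup D) (hK : K.Normal)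
    (hKc : ∀ a ∈ K, ∀ b ∈ K, ∀ e : E, a • b • e = b • a • e) (P : Subgroup D) (hPK : P ≤ K)
    (hPf : ∀ a ∈ P, (∀ e : E, a • e = e) → a = 1) : IsCyclic P := by
  classical
  obtain ⟨_inst⟩ : Nonempty (Module (ZMod r) E) := ⟨AddCommGroup.zmodModule hE⟩
  let lin : D → (E ≃ₗ[ZMod r] E) := fun d =>
    { toFun := fun x => d • x
      invFun := fun x => d⁻¹ • x
      map_add' := fun x y => smul_add d x y
      map_smul' := fun c x => by
        have h := ((DistribSMul.toAddMonoidHom E d).toZModLinearMap r).map_smul c x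
        exact h
      left_inv := fun x => inv_smul_smul d x
      right_inv := fun x => smul_inv_smul d x }
  have hlin : ∀ d x, lin d x = d • x := fun _ _ => rfl
  let φ : D →* (E ≃ₗ[ZMod r] E) :=
    { toFun := lin
      map_one' := by
        apply LinearEquiv.ext
        intro x
        rw [hlin, one_smul]
        rfl
      map_mul' := fun a b => by
        apply LinearEquiv.ext
        intro x
        rw [LinearEquiv.mul_apply, hlin, hlin, hlin, mul_smul] }
  have hφ : ∀ d x, φ d x = d • x := fun _ _ => rfl
  let A : Subgroup φ.range := K.map φ.rangeRestrict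
  have hA : A.Normal := hK.map φ.rangeRestrict φ.rangeRestrict_surjective
  have hAc : IsMulCommutative A := by
    refine ⟨⟨?_⟩⟩
    rintro ⟨_, a, ha, rfl⟩ ⟨_, b, hb, rfl⟩
    apply Subtype.ext
    apply Subtype.ext
    apply LinearEquiv.ext
    intro e
    exact hKc a ha b hb e
  have hinj := groupAlg_injective_of_comm φ.range (by
    intro v w hv hw
    obtain ⟨d, hd⟩ := htr v w hv hw
    exact ⟨φ d, ⟨d, rfl⟩, hd⟩) A hA hAc
  refine (isCyclic_and_card_dvd (groupAlg A) hinj (φ.comp P.subtype) ?_ ?_).1
  · rw [injective_iff_map_eq_one]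
    intro a ha
    apply Subtype.ext
    apply hPf a a.2
    intro e
    have h1 : φ (a : D) = 1 := ha
    rw [← hφ, h1]
    rfl
  · intro g
    exact coe_mem_groupAlg A (a := φ.rangeRestrict g) ⟨g, hPK g.2, rfl⟩

/-- The conjugation action on a normal elementary abelian subgroup. -/
theorem grp_cyclic {r : ℕ} [Fact r.Prime] {Q : Type*} [Group Q] [Finite Q] (V : Subgroup Q)
    (hVn : V.Normal) (hVc : ∀ x ∈ V, ∀ y ∈ V, x * y = y * x) (hVp : ∀ x ∈ V, x ^ r = 1) (hV1 : V ≠ ⊥)
    (htr : ∀ v ∈ V, ∀ w ∈ V, v ≠ 1 → w ≠ 1 → IsConj v w) (K : Subgroup Q) (hK : K.Normal)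
    (hKc : ∀ a ∈ K, ∀ b ∈ K, ∀ v ∈ V, a * b * v * (a * b)⁻¹ = b * a * v * (b * a)⁻¹)
    (P : Subgroup Q) (hPK : P ≤ K) (hPf : ∀ a ∈ P, (∀ v ∈ V, a * v = v * a) → a = 1) :
    IsCyclic P := by
  classical
  letI : CommGroup V :=
    { (inferInstance : Group V) with
      mul_comm := fun a b => Subtype.ext (hVc a a.2 b b.2) }
  have hnt : Nontrivial V := (Subgroup.nontrivial_iff_ne_bot V).2 hV1
  have : Nontrivial (Additive V) := hnt
  let c : Q → V → V := fun h v => ⟨h * v * h⁻¹, hVn.conj_mem v v.2 h⟩
  letI : DistribMulAction Q (Additive V) :=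
    { smul := fun h v => Additive.ofMul (c h (Additive.toMul v))
      one_smul := fun v => by
        apply Additive.toMul.injective
        apply Subtype.ext
        show (1 : Q) * ((Additive.toMul v : V) : Q) * (1 : Q)⁻¹ = _
        simp
      mul_smul := fun a b v => by
        apply Additive.toMul.injective
        apply Subtype.ext
        show (a * b) * ((Additive.toMul v : V) : Q) * (a * b)⁻¹ =
          a * (b * ((Additive.toMul v : V) : Q) * b⁻¹) * a⁻¹
        group
      smul_zero := fun a => by
        apply Additive.toMul.injective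
        apply Subtype.ext
        show a * ((1 : V) : Q) * a⁻¹ = ((1 : V) : Q)
        simp
      smul_add := fun a v w => by
        apply Additive.toMul.injective
        apply Subtype.ext
        show a * (((Additive.toMul v : V) : Q) * ((Additive.toMul w : V) : Q)) * a⁻¹ =
          (a * ((Additive.toMul v : V) : Q) * a⁻¹) * (a * ((Additive.toMul w : V) : Q) * a⁻¹)
        group }
  have hsmul : ∀ (h : Q) (v : Additive V), ((Additive.toMul (h • v) : V) : Q) =
      h * ((Additive.toMul v : V) : Q) * h⁻¹ := fun _ _ => rfl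
  have hfin : Finite (Additive V) := inferInstanceAs (Finite V)
  refine act_cyclic (r := r) (D := Q) (E := Additive V) ?_ ?_ K hK ?_ P hPK ?_
  · intro x
    apply Additive.toMul.injective
    apply Subtype.ext
    show (((Additive.toMul x : V) ^ r : V) : Q) = 1
    rw [Subgroup.coe_pow]
    exact hVp _ (Additive.toMul x).2
  · intro a b ha hb
    obtain ⟨h, hh⟩ := isConj_iff.1 (htr _ (Additive.toMul a).2 _ (Additive.toMul b).2
      (fun h0 => ha (Additive.toMul.injective (Subtype.ext h0)))
      (fun h0 => hb (Additive.toMul.injective (Subtype.ext h0))))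
    refine ⟨h, ?_⟩
    apply Additive.toMul.injective
    apply Subtype.ext
    exact hh
  · intro a ha b hb e
    apply Additive.toMul.injective
    apply Subtype.ext
    rw [← mul_smul, ← mul_smul, hsmul, hsmul]
    exact hKc a ha b hb _ (Additive.toMul e).2
  · intro a ha h
    apply hPf a ha
    intro v hv
    have h1 := congrArg (fun z : Additive V => ((Additive.toMul z : V) : Q))
      (h (Additive.ofMul (⟨v, hv⟩ : V)))
    have h2 : a * v * a⁻¹ = v := h1
    rw [mul_inv_eq_iff_eq_mul] at h2
    exact h2

end Cfsg.Agent.H697.CycAct
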