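import Cfsg.Agent.LieRecognition.FT61.ThmC
import Cfsg.Agent.H697.ConicCard

/-!
# Groups with a Sylow subgroup of prime order `s` and a faithful representation of degree `< s / 2`
in characteristic `s`

The theorem of Feit and Thompson for arbitrary finite groups.
-/

set_option autoImplicit false

namespace Cfsg.Agent.H697.FTDeg

open Module
open Cfsg.Agent.LieRecognition.FT61

section dat

variable {k U D : Type*} [Field k] [AddCommGroup U] [Module k U] [Group D]

/-- The representation `det (σ g) • σ g`. -/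
noncomputable def twist (σ : Representation k D U) (hfr : finrank k U = 3)
    (hdet : ∀ g, LinearMap.det (σ g) ^ 2 = 1) : Representation k D U where
  toFun g := LinearMap.det (σ g) • σ g
  map_one' := by rw [map_one, map_one, one_smul]
  map_mul' g h := by
    rw [map_mul, map_mul, smul_mul_smul_comm]

theorem twist_apply (σ : Representation k D U) (hfr : finrank k U = 3)
    (hdet : ∀ g, LinearMap.det (σ g) ^ 2 = 1) (g : D) :
    twist σ hfr hdet g = LinearMap.det (σ g) • σ g := rfl

theorem det_twist (σ : Representation k D U) (hfr : finrank k U = 3)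
    (hdet : ∀ g, LinearMap.det (σ g) ^ 2 = 1) (g : D) :
    LinearMap.det (twist σ hfr hdet g) = 1 := by
  rw [twist_apply, LinearMap.det_smul, hfr]
  have h := hdet g
  have h1 : LinearMap.det (σ g) ^ 3 * LinearMap.det (σ g) = (LinearMap.det (σ g) ^ 2) ^ 2 := by ring
  rw [h1, h, one_pow]

/-- The factor group acting faithfully on the three-dimensional space by isometries of determinant one. -/
theorem exists_dat (s : ℕ) [Fact s.Prime] [CharP k s] (hs2 : s ≠ 2)
    (σ : Representation k D U) (hfr : finrank k U = 3) (β : LinearMap.BilinForm k U)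
    (hsymm : β.IsSymm) (hnd : β.Nondegenerate)
    (hβ : ∀ (g : D) (u w : U), β (σ g u) (σ g w) = β u w) {x : D} (hxs : x ^ s = 1)
    (hxσ : σ x ≠ 1) :
    ∃ (K : Subgroup D) (hK : K.Normal) (τ : Representation k (D ⧸ K) U),
      Conic.Dat β τ ∧ x ∉ K := by
  have hs := (Fact.out : s.Prime)
  have hdet : ∀ g, LinearMap.det (σ g) ^ 2 = 1 := fun g => (O3Lin.det_sub_one hfr hnd (hβ g)).2
  let σ' := twist σ hfr hdet
  let K : Subgroup D := MonoidHom.ker σ'
  let τ : Representation k (D ⧸ K) U := QuotientGroup.lift K σ' le_rfl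
  have hτ : ∀ g : D, τ (g : D ⧸ K) = σ' g := fun g => rfl
  have hτi : Function.Injective τ := by
    intro a b hab
    obtain ⟨a, rfl⟩ := QuotientGroup.mk_surjective a
    obtain ⟨b, rfl⟩ := QuotientGroup.mk_surjective b
    rw [hτ, hτ] at hab
    refine QuotientGroup.eq.2 ?_
    show σ' (a⁻¹ * b) = 1
    rw [map_mul, ← hab, ← map_mul, inv_mul_cancel, map_one]
  refine ⟨K, inferInstance, τ, ⟨?_, hfr, hsymm, hnd, ?_, ?_, hτi⟩, ?_⟩
  · intro h2
    have h1 : ((2 : ℕ) : k) = 0 := by exact_mod_cast h2
    rw [CharP.cast_eq_zero_iff k s] at h1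
    exact hs2 ((Nat.prime_dvd_prime_iff_eq hs Nat.prime_two).1 h1)
  · intro g u v
    obtain ⟨g, rfl⟩ := QuotientGroup.mk_surjective g
    rw [hτ]
    show β (LinearMap.det (σ g) • σ g u) (LinearMap.det (σ g) • σ g v) = β u v
    rw [LinearMap.BilinForm.smul_left, LinearMap.BilinForm.smul_right, hβ, ← mul_assoc, ← sq,
      hdet, one_mul]
  · intro g
    obtain ⟨g, rfl⟩ := QuotientGroup.mk_surjective g
    rw [hτ]
    exact det_twist σ hfr hdet g
  · intro hx
    apply hxσ
    have h1 : LinearMap.det (σ x) • σ x = 1 := hx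
    have h2 : LinearMap.det (σ x) = 1 := by
      have h3 : LinearMap.det (σ x) ^ s = 1 := by
        rw [← map_pow, ← map_pow, hxs, map_one, map_one]
      obtain ⟨m, hm⟩ := hs.odd_of_ne_two hs2
      rw [hm, pow_succ, pow_mul, hdet, one_pow, one_mul] at h3
      exact h3
    rwa [h2, one_smul] at h1

end dat

section

variable {D : Type*} [Group D] [Finite D]

theorem sq_not_dvd {s : ℕ} [Fact s.Prime] (P : Sylow s D) (hP : Nat.card P = s) :
    ¬ s ^ 2 ∣ Nat.card D := by
  intro h
  have h1 := P.card_eq_multiplicity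
  rw [hP] at h1
  have hs := (Fact.out : s.Prime)
  have h2 : 2 ≤ (Nat.card D).factorization s :=
    (hs.pow_dvd_iff_le_factorization Nat.card_pos.ne').1 h
  have h3 : s ^ 2 ≤ s ^ (Nat.card D).factorization s := Nat.pow_le_pow_right hs.pos h2
  rw [← h1] at h3
  have := hs.two_le
  nlinarith

end

section

variable {k V D : Type*} [Field k] [AddCommGroup V] [Module k V] [FiniteDimensional k V] [Group D]
  [Finite D]

/-- If `H` is normal and `N_H(P)` centralises `x`, then `H` centralises `x`. -/
theorem central_of_normal (s : ℕ) [Fact s.Prime] [CharP k s]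
    (ρ : Representation k D V) (hρ : Function.Injective ρ)
    (hdim : 2 * Module.finrank k V < s) (P : Sylow s D) (hP : Nat.card P = s) {x : D}
    (hx : x ∈ (P : Subgroup D)) (H : Subgroup D) (hHn : H.Normal) (hPH : (P : Subgroup D) ≤ H)
    (hcomm : ∀ g ∈ H, g ∈ Subgroup.normalizer ((P : Subgroup D) : Set D) → g * x = x * g) :
    ∀ g ∈ H, g * x = x * g := by
  let PH : Sylow s H := P.subtype hPH
  have hPHcard : Nat.card PH = s :=
    (Nat.card_congr (Subgroup.subgroupOfEquivOfLe hPH).toEquiv).trans hP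
  have hxH : x ∈ H := hPH hx
  intro g hg
  have h1 := ThmC1.central_of_le s (MonoidHom.comp ρ H.subtype) (hρ.comp H.subtype_injective) hdim PH
    hPHcard (x := ⟨x, hxH⟩) hx (by
      intro g hgN
      apply Subtype.ext
      refine hcomm g g.2 ?_
      rw [Subgroup.mem_normalizer_iff]
      intro y
      constructor
      · intro hy
        exact ((Subgroup.mem_normalizer_iff.1 hgN) ⟨y, hPH hy⟩).1 hy
      · intro hy
        have hyH : y ∈ H := by
          have h2 := hHn.conj_mem _ (hPH hy) (g : D)⁻¹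
          simpa [mul_assoc] using h2
        exact ((Subgroup.mem_normalizer_iff.1 hgN) ⟨y, hyH⟩).2 hy) ⟨g, hg⟩
  exact congrArg Subtype.val h1

/-- Commuting with `x` implies normalising `P`. -/
theorem mem_normalizer_of_commute {s : ℕ} [Fact s.Prime] (P : Sylow s D) (hP : Nat.card P = s) {x : D}
    (hx : x ∈ (P : Subgroup D)) (hx1 : x ≠ 1) {g : D} (h : g * x = x * g) :
    g ∈ Subgroup.normalizer ((P : Subgroup D) : Set D) := by
  have hPx := ThmC1.zpowers_eq P hP hx hx1
  have h3 : ∀ y ∈ (P : Subgroup D), g * y * g⁻¹ = y := by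
    intro y hy
    rw [← hPx] at hy
    obtain ⟨n, rfl⟩ := hy
    have h4 : Commute g (x ^ n) := (show Commute g x from h).zpow_right n
    show g * x ^ n * g⁻¹ = x ^ n
    rw [h4.eq, mul_inv_cancel_right]
  rw [Subgroup.mem_normalizer_iff]
  intro y
  constructor
  · intro hy
    rw [h3 y hy]
    exact hy
  · intro hy
    have h4 := h3 _ hy
    have h5 : g * y * g⁻¹ = y := by
      have h6 := mul_left_cancel (mul_right_cancel h4)
      exact h6
    rwa [h5] at hy

/-- If a normal subgroup containing `x` centralises `x`, then `P` is normal. -/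
theorem normal_of_central {s : ℕ} [Fact s.Prime] (P : Sylow s D) (hP : Nat.card P = s) {x : D}
    (hx : x ∈ (P : Subgroup D)) (hx1 : x ≠ 1) (H : Subgroup D) (hHn : H.Normal)
    (hxH : x ∈ H) (hH : ∀ g ∈ H, g * x = x * g) : (P : Subgroup D).Normal := by
  apply ThmC.normal_of_conj_mem s P hP hx hx1
  intro g
  exact mem_normalizer_of_commute P hP hx hx1 (hH _ (hHn.conj_mem x hxH g))

/-- **Feit and Thompson**, general form. -/
theorem main {k V D : Type*} [Field k] [IsAlgClosed k] [AddCommGroup V] [Module k V]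
    [FiniteDimensional k V] [Group D] [Finite D] (s : ℕ) [Fact s.Prime] [CharP k s] (hs7 : 7 ≤ s)
    (ρ : Representation k D V) (hρ : Function.Injective ρ)
    (hdim : 2 * Module.finrank k V < s) (P : Sylow s D) (hP : Nat.card P = s) {x : D}
    (hx : x ∈ (P : Subgroup D)) (hx1 : x ≠ 1) :
    (P : Subgroup D).Normal ∨ ∃ (K N : Subgroup D) (t : ℕ), K.Normal ∧ (t = s - 1 ∨ 2 * t = s - 1) ∧
      x ∉ K ∧ (∀ g ∈ K, g * x = x * g) ∧
      (∀ g, g * x = x * g → g ∈ K ⊔ Subgroup.zpowers x) ∧
      Nat.card (Subgroup.centralizer {x}) = Nat.card K * s ∧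
      N ≤ Subgroup.normalizer ((P : Subgroup D) : Set D) ∧ Nat.card N = Nat.card K * (s * t) ∧
      N.index = s + 1 := by
  classical
  have hs : s.Prime := Fact.out
  have hs2 : s ≠ 2 := by omega
  have hPx := ThmC1.zpowers_eq P hP hx hx1
  have hxp := ThmC1.pow_eq_one_of_mem P hP hx
  have hxo : orderOf x = s := orderOf_eq_prime hxp hx1
  by_cases hcent : ∀ g ∈ Subgroup.normalizer ((P : Subgroup D) : Set D), g * x = x * g
  · left
    have h1 := ThmC1.central_of_le s ρ hρ hdim P hP hx hcent
    exact normal_of_central P hP hx hx1 ⊤ inferInstance (Subgroup.mem_top x) fun g _ => h1 g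
  obtain ⟨N₁, hcard, hN₁, hN⟩ := ThmC2.exists_complement P hP hx hx1
  obtain ⟨α, hα⟩ := Triple.exists_alpha (k := k) s hxo N₁ hN₁
  obtain ⟨σ, v, hv3, hv2, hspan, hvα⟩ := ThmC2.exists_sub s ρ hρ hs2 hdim P hP hx hx1 hcard hα hN
  obtain ⟨hfr, β, hsymm, hnd, hβ⟩ := Form.exists_form s hs7 σ.toRepresentation hxo N₁ hα
    (Subgroup.normalizer ((P : Subgroup D) : Set D)) hN (by
      intro g hg y hy hyg
      rw [hPx] at hy
      exact EndRep.ti_of_card s P hP g hg y hy hyg) v hv3 hv2 hspan hvα
  have hxσ : σ.toRepresentation x ≠ 1 := by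
    intro h
    apply hv2
    have h1 : (σ.toRepresentation x - 1 : Module.End k σ.toSubmodule) = 0 := sub_eq_zero.2 h
    rw [h1, zero_pow two_ne_zero, LinearMap.zero_apply]
  obtain ⟨K, hK, τ, hD, hxK⟩ := exists_dat s hs2 σ.toRepresentation hfr β hsymm hnd hβ hxp hxσ
  have hmob := hD.mobius (s := s)
  have hxbar : orderOf (x : D ⧸ K) = s := by
    apply orderOf_eq_prime
    · rw [← QuotientGroup.mk_pow, hxp, QuotientGroup.mk_one]
    · intro h
      exact hxK ((QuotientGroup.eq_one_iff x).1 h)
  have hsq : ¬ s ^ 2 ∣ Nat.card (D ⧸ K) := fun h =>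
    sq_not_dvd P hP (h.trans (Subgroup.card_quotient_dvd_card K))
  have hPK : ∀ y ∈ (P : Subgroup D), y ∈ K → y = 1 := by
    intro y hy hyK
    by_contra hy1
    have h1 := ThmC1.zpowers_eq P hP hy hy1
    rw [← h1] at hx
    exact hxK ((Subgroup.zpowers_le.2 hyK) hx)
  -- the preimage of `⟨x⟩ K / K`
  set H : Subgroup D := (Subgroup.zpowers (x : D ⧸ K)).comap (QuotientGroup.mk' K) with hH
  have hxH : x ∈ H := Subgroup.mem_zpowers (x : D ⧸ K)
  have hPH : (P : Subgroup D) ≤ H := by
    rw [← hPx, Subgroup.zpowers_le]; exact hxH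
  have hKH : K ≤ H := by
    intro g hg
    have h1 : (g : D ⧸ K) = 1 := (QuotientGroup.eq_one_iff g).2 hg
    show (g : D ⧸ K) ∈ Subgroup.zpowers (x : D ⧸ K)
    rw [h1]
    exact one_mem _
  have hcommH : ∀ g ∈ H, g ∈ Subgroup.normalizer ((P : Subgroup D) : Set D) → g * x = x * g := by
    intro g hg hgN
    have hg' : (g : D ⧸ K) ∈ Subgroup.zpowers (x : D ⧸ K) := hg
    obtain ⟨n, hn⟩ := hg'
    have h1 : g * x * g⁻¹ ∈ (P : Subgroup D) := ((Subgroup.mem_normalizer_iff.1 hgN) x).1 hx
    have h2 : g * x * g⁻¹ * x⁻¹ ∈ K := by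
      rw [← QuotientGroup.eq_one_iff]
      rw [QuotientGroup.mk_mul, QuotientGroup.mk_mul, QuotientGroup.mk_mul, QuotientGroup.mk_inv,
        QuotientGroup.mk_inv]
      have h3 : (x : D ⧸ K) ^ n = (g : D ⧸ K) := hn
      rw [← h3]
      group
    have h4 := hPK _ ((P : Subgroup D).mul_mem h1 ((P : Subgroup D).inv_mem hx)) h2
    rw [mul_inv_eq_one, mul_inv_eq_iff_eq_mul] at h4
    exact h4
  have hsub : K ⊔ Subgroup.zpowers x = H := by
    apply le_antisymm
    · rw [sup_le_iff, Subgroup.zpowers_le]
      exact ⟨hKH, hxH⟩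
    · intro g hg
      have hg' : (g : D ⧸ K) ∈ Subgroup.zpowers (x : D ⧸ K) := hg
      obtain ⟨n, hn⟩ := hg'
      have h3 : ((x ^ n : D) : D ⧸ K) = (g : D ⧸ K) := by
        rw [QuotientGroup.mk_zpow]; exact hn
      have h4 : g * (x ^ n)⁻¹ ∈ K := by
        rw [← QuotientGroup.eq_one_iff, QuotientGroup.mk_mul, QuotientGroup.mk_inv, h3,
          mul_inv_cancel]
      have h5 : g = g * (x ^ n)⁻¹ * x ^ n := by group
      rw [h5]
      exact Subgroup.mul_mem_sup h4 (Subgroup.zpow_mem_zpowers x n)
  rcases ConicCard.main hmob hs7 hxbar hsq with hn | ⟨N', t, ht, hN't, hN'i, hN'c, hcx⟩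
  · left
    have hHn : H.Normal := hn.comap _
    have hHc := central_of_normal s ρ hρ hdim P hP hx H hHn hPH hcommH
    exact normal_of_central P hP hx hx1 H hHn hxH hHc
  · right
    -- `P` is normalised by the preimage of `N'`
    have hHc : ∀ g ∈ H, g * x = x * g := by
      -- apply the central theorem inside `H`
      let PH : Sylow s H := P.subtype hPH
      have hPHcard : Nat.card PH = s :=
        (Nat.card_congr (Subgroup.subgroupOfEquivOfLe hPH).toEquiv).trans hP
      intro g hg
      have h1 := ThmC1.central_of_le s (MonoidHom.comp ρ H.subtype) (hρ.comp H.subtype_injective) hdim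
        PH hPHcard (x := ⟨x, hxH⟩) hx (by
          intro g hgN
          apply Subtype.ext
          refine hcommH g g.2 ?_
          rw [Subgroup.mem_normalizer_iff]
          intro y
          constructor
          · intro hy
            exact ((Subgroup.mem_normalizer_iff.1 hgN) ⟨y, hPH hy⟩).1 hy
          · intro hy
            have hyH : y ∈ H := by
              have h2 := H.mul_mem (H.mul_mem (H.inv_mem g.2) (hPH hy)) g.2
              simpa [mul_assoc] using h2
            exact ((Subgroup.mem_normalizer_iff.1 hgN) ⟨y, hyH⟩).2 hy) ⟨g, hg⟩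
      exact congrArg Subtype.val h1
    set N : Subgroup D := N'.comap (QuotientGroup.mk' K) with hNdef
    have hCH : Subgroup.centralizer {x} = H := by
      apply le_antisymm
      · intro g hg
        rw [Subgroup.mem_centralizer_singleton_iff] at hg
        apply hcx
        show (g : D ⧸ K) * x = x * g
        rw [← QuotientGroup.mk_mul, ← QuotientGroup.mk_mul, hg]
      · intro g hg
        rw [Subgroup.mem_centralizer_singleton_iff]
        exact hHc g hg
    have hcardcomap : ∀ L : Subgroup (D ⧸ K), Nat.card (L.comap (QuotientGroup.mk' K)) =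
        Nat.card K * Nat.card L := by
      intro L
      have h1 := Subgroup.index_comap_of_surjective L (QuotientGroup.mk'_surjective K)
      have h2 := (L.comap (QuotientGroup.mk' K)).card_mul_index
      have h3 := L.card_mul_index
      have h4 := Subgroup.card_eq_card_quotient_mul_card_subgroup K
      rw [h1] at h2
      have h5 : 0 < L.index := Nat.pos_of_ne_zero (Subgroup.index_ne_zero_of_finite)
      apply Nat.eq_of_mul_eq_mul_right h5
      rw [h2, h4, ← h3]
      ring
    refine ⟨K, N, t, hK, ht, hxK, fun g hg => hHc g (hKH hg), ?_, ?_, ?_, ?_, ?_⟩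
    · intro g hg
      rw [hsub]
      rw [← hCH, Subgroup.mem_centralizer_singleton_iff]
      exact hg
    · rw [hCH, hH, hcardcomap, Nat.card_zpowers, hxbar]
    · intro g hg
      by_contra hgN
      apply hx1
      refine EndRep.ti_of_card s P hP g hgN x hx ?_
      apply mem_normalizer_of_commute P hP hx hx1
      apply hHc
      have h1 := hN'c (g⁻¹ : D ⧸ K) (N'.inv_mem hg)
      rw [inv_inv] at h1
      exact h1
    · rw [hNdef, hcardcomap, hN't]
    · rw [hNdef, Subgroup.index_comap_of_surjective _ (QuotientGroup.mk'_surjective K), hN'i]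

end

end Cfsg.Agent.H697.FTDeg
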