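import Cfsg.Agent.H697.Lift
import Cfsg.Agent.H697.FTDeg
import Cfsg.Agent.LieRecognition.FT61.Grp
import Cfsg.Agent.LieRecognition.FT61.Red
import Cfsg.Agent.LieRecognition.FT61.ThmA
import Cfsg.Agent.LieExceptional.SingerCentralizer

/-!
# `q'`-groups of matrices over the prime field and primitive prime divisors

`D ≤ GL_n(q)` of order prime to `q`, `s` a primitive prime divisor of `q ^ n - 1`, large in the sense that
`s > 2 n` or `s ^ 2` divides the order of `D`. Then the Sylow `s`-subgroups of `D` are normal, or `s = 2 n + 1`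
and `D` is a central type extension of a group of order `n (2 n + 1) (2 n + 2)`.
-/

set_option autoImplicit false

namespace Cfsg.Agent.H697.HeringMat

open Matrix Module
open Cfsg.Agent.LieRecognition.FT61

/-- A primitive prime divisor of `q ^ n - 1` is congruent to `1` modulo `n`. -/
theorem dvd_sub_one {q n s : ℕ} (hs : s.Prime) (hq : 0 < q) (hn : 0 < n) (hsn : s ∣ q ^ n - 1)
    (hsd : ∀ d, 0 < d → d < n → ¬ s ∣ q ^ d - 1) : n ∣ s - 1 := by
  have : Fact s.Prime := ⟨hs⟩
  have hpow : ∀ m, ((q : ℕ) : ZMod s) ^ m = 1 ↔ s ∣ q ^ m - 1 := by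
    intro m
    rw [← ZMod.natCast_eq_zero_iff, Nat.cast_sub (Nat.one_le_pow _ _ hq), Nat.cast_pow, Nat.cast_one,
      sub_eq_zero]
  have h1 : ((q : ℕ) : ZMod s) ^ n = 1 := (hpow n).2 hsn
  have h0 : ((q : ℕ) : ZMod s) ≠ 0 := by
    intro h
    rw [h, zero_pow hn.ne'] at h1
    exact zero_ne_one h1
  have h2 : orderOf ((q : ℕ) : ZMod s) = n := by
    rw [orderOf_eq_iff hn]
    refine ⟨h1, fun m hm hm0 h => ?_⟩
    exact hsd m hm0 hm ((hpow m).1 h)
  rw [← h2]
  exact ZMod.orderOf_dvd_card_sub_one h0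

section

variable {D : Type*} [Group D] {q n : ℕ} [Fact q.Prime]

/-- The action on column vectors. -/
def toEnd (σ : D →* GL (Fin n) (ZMod q)) : D →* Module.End (ZMod q) (Fin n → ZMod q) :=
  ((Matrix.toLinAlgEquiv' (R := ZMod q) (n := Fin n) : _ ≃ₐ[ZMod q] _).toMulEquiv.toMonoidHom).comp
    ((Units.coeHom _).comp σ)

theorem toEnd_injective {σ : D →* GL (Fin n) (ZMod q)} (hσ : Function.Injective σ) :
    Function.Injective (toEnd σ) := by
  intro a b hab
  apply hσ
  apply Units.ext
  exact (Matrix.toLinAlgEquiv' (R := ZMod q) (n := Fin n)).injective hab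

theorem isCyclic_centralizer (σ : D →* GL (Fin n) (ZMod q))
    (hσ : Function.Injective σ) {s : ℕ} (hs : s.Prime) (hsn : s ∣ q ^ n - 1)
    (hsd : ∀ d, 0 < d → d < n → ¬ s ∣ q ^ d - 1) {z : D} (hz : orderOf z = s) :
    IsCyclic (Subgroup.centralizer ({z} : Set D)) := by
  have hcard : Nat.card (ZMod q) = q := Nat.card_zmod q
  have hrank : Module.finrank (ZMod q) (Fin n → ZMod q) = n := by simp
  exact Cfsg.Agent.LieExceptional.SingerCentralizer.isCyclic_centralizer (toEnd σ)
    (toEnd_injective hσ) hs hz (by rw [hcard, hrank]; exact hsn) (by rw [hcard, hrank]; exact hsd)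

theorem card_normalizer_le (σ : D →* GL (Fin n) (ZMod q))
    (hσ : Function.Injective σ) {s : ℕ} (hs : s.Prime) (hsn : s ∣ q ^ n - 1)
    (hsd : ∀ d, 0 < d → d < n → ¬ s ∣ q ^ d - 1) {z : D} (hz : orderOf z = s) :
    Nat.card (Subgroup.normalizer ((Subgroup.centralizer ({z} : Set D) : Subgroup D) : Set D)) ≤
      n * Nat.card (Subgroup.centralizer ({z} : Set D)) := by
  have hcard : Nat.card (ZMod q) = q := Nat.card_zmod q
  have hrank : Module.finrank (ZMod q) (Fin n → ZMod q) = n := by simp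
  have h := Cfsg.Agent.LieExceptional.SingerCentralizer.card_normalizer_centralizer_le (toEnd σ)
    (toEnd_injective hσ) hs hz (by rw [hcard, hrank]; exact hsn) (by rw [hcard, hrank]; exact hsd)
  rwa [hrank] at h

/-- The normaliser of `⟨z⟩` normalises the centraliser of `z`. -/
theorem normalizer_zpowers_le (z : D) :
    Subgroup.normalizer ((Subgroup.zpowers z : Subgroup D) : Set D) ≤
      Subgroup.normalizer ((Subgroup.centralizer ({z} : Set D) : Subgroup D) : Set D) := by
  have key : ∀ g ∈ Subgroup.normalizer ((Subgroup.zpowers z : Subgroup D) : Set D), ∀ h : D,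
      h ∈ Subgroup.centralizer ({z} : Set D) → g * h * g⁻¹ ∈ Subgroup.centralizer ({z} : Set D) := by
    intro g hg h hh
    rw [Subgroup.mem_centralizer_singleton_iff] at hh ⊢
    have hg' : g⁻¹ ∈ Subgroup.normalizer ((Subgroup.zpowers z : Subgroup D) : Set D) :=
      Subgroup.inv_mem _ hg
    have h1 : g⁻¹ * z * (g⁻¹)⁻¹ ∈ Subgroup.zpowers z :=
      ((Subgroup.mem_normalizer_iff.1 hg') z).1 (Subgroup.mem_zpowers z)
    rw [inv_inv] at h1
    obtain ⟨m, hm⟩ := h1
    have hm' : z ^ m = g⁻¹ * z * g := hm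
    have h2 : Commute h (z ^ m) := (show Commute h z from hh).zpow_right m
    rw [hm'] at h2
    have h3 : h * (g⁻¹ * z * g) = (g⁻¹ * z * g) * h := h2
    calc g * h * g⁻¹ * z = g * (h * (g⁻¹ * z * g)) * g⁻¹ := by group
      _ = g * ((g⁻¹ * z * g) * h) * g⁻¹ := by rw [h3]
      _ = z * (g * h * g⁻¹) := by group
  intro g hg
  rw [Subgroup.mem_normalizer_iff]
  intro h
  constructor
  · exact key g hg h
  · intro hh
    have := key g⁻¹ (Subgroup.inv_mem _ hg) _ hh
    simpa [mul_assoc] using this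

variable [Finite D]

/-- Matrix groups to representations. -/
theorem exists_rep {k : Type*} [Field k] {m : ℕ} (τ : D →* GL (Fin m) k)
    (hτ : Function.Injective τ) :
    ∃ r : Representation (AlgebraicClosure k) D (Fin m → AlgebraicClosure k),
      Function.Injective r := by
  let f : GL (Fin m) k →* GL (Fin m) (AlgebraicClosure k) :=
    Matrix.GeneralLinearGroup.map (algebraMap k (AlgebraicClosure k))
  have hf : Function.Injective f := by
    intro a b hab
    apply Units.ext
    ext i j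
    have h1 := congrArg (fun c : GL (Fin m) (AlgebraicClosure k) =>
      (c : Matrix (Fin m) (Fin m) (AlgebraicClosure k)) i j) hab
    exact (algebraMap k (AlgebraicClosure k)).injective h1
  let r : Representation (AlgebraicClosure k) D (Fin m → AlgebraicClosure k) :=
    ((Matrix.toLinAlgEquiv' (R := AlgebraicClosure k) (n := Fin m) :
      _ ≃ₐ[AlgebraicClosure k] _).toMulEquiv.toMonoidHom).comp
      ((Units.coeHom _).comp (f.comp τ))
  refine ⟨r, ?_⟩
  intro a b hab
  apply hτ
  apply hf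
  apply Units.ext
  exact (Matrix.toLinAlgEquiv' (R := AlgebraicClosure k) (n := Fin m)).injective hab

/-- **Sylow `s`-subgroups are normal**, or `s = 2 n + 1`. -/
theorem sylow_normal_or (σ : D →* GL (Fin n) (ZMod q)) (hσ : Function.Injective σ)
    (hqD : (Nat.card D).Coprime q) {s : ℕ} [Fact s.Prime] (hn : 0 < n) (hsn : s ∣ q ^ n - 1)
    (hsd : ∀ d, 0 < d → d < n → ¬ s ∣ q ^ d - 1)
    (hsize : (2 * n < s ∧ 7 ≤ s) ∨ s ^ 2 ∣ Nat.card D) (hsD : s ∣ Nat.card D) (P : Sylow s D) :
    (P : Subgroup D).Normal ∨ (s = 2 * n + 1 ∧ ∃ (K : Subgroup D) (x : D), K.Normal ∧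
      (P : Subgroup D) = Subgroup.zpowers x ∧ orderOf x = s ∧ x ∉ K ∧ (∀ g ∈ K, g * x = x * g) ∧
      Nat.card D = Nat.card K * (s * n) * (s + 1)) := by
  have hs : s.Prime := Fact.out
  have hq : q.Prime := Fact.out
  have hPne : (P : Subgroup D) ≠ ⊥ := by
    intro h
    have h1 := P.dvd_card_of_dvd_card hsD
    rw [h, Subgroup.card_bot] at h1
    exact hs.one_lt.ne' (Nat.dvd_one.1 h1)
  have hcyc : ∀ z : D, orderOf z = s → IsCyclic (Subgroup.centralizer ({z} : Set D)) := fun z hz =>
    isCyclic_centralizer σ hσ hs hsn hsd hz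
  have hns : n ∣ s - 1 := dvd_sub_one hs hq.pos hn hsn hsd
  have hnle : n ≤ s := by
    have h1 := Nat.le_of_dvd (by have := hs.two_le; omega) hns
    omega
  obtain ⟨K₀, _, _, ρ, hρ⟩ := Lift.exists_rep_charZero hqD σ hσ
  obtain ⟨k, _, _, τ, hτ⟩ := Red.exists_reduction s ρ
  by_cases hker : τ.ker = ⊥
  swap
  · left
    exact Grp.normal_of_normal_pSubgroup hcyc P τ.ker inferInstance (ThmA.isPGroup_ker ρ hρ τ hτ) hker
  have hτi : Function.Injective τ := (MonoidHom.ker_eq_bot_iff τ).1 hker
  have hPcyc := Grp.isCyclic_sylow hcyc P hPne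
  have hcard : Nat.card P = s := by
    obtain ⟨g, hg⟩ := IsCyclic.exists_ofOrder_eq_natCard (α := (P : Subgroup D))
    have h1 : (g : D) ^ s = 1 := by
      obtain ⟨a, ha⟩ := P.isPGroup' g
      refine ThmA.pow_eq_one (a := a) hnle τ hτi ?_
      exact congrArg Subtype.val ha
    have h2 : orderOf g ∣ s := by
      rw [← Subgroup.orderOf_coe]
      exact orderOf_dvd_of_pow_eq_one h1
    rcases (Nat.dvd_prime hs).1 h2 with h3 | h3
    · exfalso
      apply hPne
      rw [h3] at hg
      exact Subgroup.eq_bot_of_card_eq _ hg.symm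
    · rw [← hg]; exact h3
  rcases hsize with ⟨h2n, hs7⟩ | hsq
  swap
  · exact absurd hsq (FTDeg.sq_not_dvd P hcard)
  obtain ⟨x, hxP, hxs, -⟩ := Grp.exists_central_orderOf P hPne
  have hx1 : x ≠ 1 := by
    rintro rfl
    rw [orderOf_one] at hxs
    exact hs.one_lt.ne hxs
  have hPx := ThmC1.zpowers_eq P hcard hxP hx1
  obtain ⟨r, hr⟩ := exists_rep τ hτi
  have : CharP (AlgebraicClosure k) s := charP_of_injective_algebraMap
    (algebraMap k (AlgebraicClosure k)).injective s
  rcases FTDeg.main s hs7 r hr (by rw [Module.finrank_fin_fun]; exact h2n) P hcard hxP hx1 with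
    hnorm | ⟨K, N, t, hK, ht, hxK, hKx, -, hcC, hNle, hNc, hNi⟩
  · exact Or.inl hnorm
  · right
    have h1 : Nat.card N ≤ n * Nat.card (Subgroup.centralizer ({x} : Set D)) := by
      refine le_trans ?_ (card_normalizer_le σ hσ hs hsn hsd hxs)
      apply Nat.le_of_dvd Nat.card_pos
      apply Subgroup.card_dvd_of_le
      refine hNle.trans ?_
      rw [← hPx]
      exact normalizer_zpowers_le x
    rw [hNc, hcC] at h1
    have hKpos : 0 < Nat.card K := Nat.card_pos
    have h2 : t ≤ n := by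
      have h3 : Nat.card K * s * t ≤ Nat.card K * s * n := by
        calc Nat.card K * s * t = Nat.card K * (s * t) := by ring
          _ ≤ n * (Nat.card K * s) := h1
          _ = Nat.card K * s * n := by ring
      exact Nat.le_of_mul_le_mul_left h3 (Nat.mul_pos hKpos hs.pos)
    have h3 : s = 2 * n + 1 ∧ t = n := by
      rcases ht with ht | ht
      · omega
      · omega
    refine ⟨h3.1, K, x, hK, hPx.symm, hxs, hxK, hKx, ?_⟩
    rw [← N.card_mul_index, hNc, hNi, h3.2]

end

end Cfsg.Agent.H697.HeringMat
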