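import Cfsg.Agent.H697.TwoDimMain
import Cfsg.Agent.H697.Hering
import Cfsg.Agent.S0689

/-!
# `p'`-groups transitive on the nonzero vectors of a `p`-space: the number of classes
-/

set_option autoImplicit false

namespace Cfsg.Agent.H697.LinMain

open Module
open Cfsg.Agent.PermutationGroups.RegularLinear

variable {p : ℕ} [hp : Fact p.Prime] {V : Type*} [AddCommGroup V] [Module (ZMod p) V]

/-- Matrices of a linear group. -/
theorem exists_toGL [Finite V] (H : Subgroup (V ≃ₗ[ZMod p] V)) {n : ℕ} (hn : finrank (ZMod p) V = n) :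
    ∃ (b : V ≃ₗ[ZMod p] (Fin n → ZMod p)) (σ : H →* GL (Fin n) (ZMod p)), Function.Injective σ ∧
      ∀ (h : H) (v : V), (σ h : Matrix (Fin n) (Fin n) (ZMod p)).mulVec (b v) =
        b ((h : V ≃ₗ[ZMod p] V) v) := by
  subst hn
  have : Module.Finite (ZMod p) V := Module.Finite.of_finite
  let b : Basis (Fin (finrank (ZMod p) V)) (ZMod p) V := Module.finBasis (ZMod p) V
  let φ : H →* Module.End (ZMod p) V :=
    { toFun := fun h => ((h : V ≃ₗ[ZMod p] V) : Module.End (ZMod p) V)
      map_one' := rfl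
      map_mul' := fun _ _ => rfl }
  let ψ : H →* Matrix (Fin (finrank (ZMod p) V)) (Fin (finrank (ZMod p) V)) (ZMod p) :=
    ((LinearMap.toMatrixAlgEquiv b).toRingEquiv.toMonoidHom : Module.End (ZMod p) V →* _).comp φ
  refine ⟨b.equivFun, ψ.toHomUnits, ?_, ?_⟩
  · intro c d hcd
    have h1 : ψ c = ψ d := congrArg Units.val hcd
    have h2 : φ c = φ d := (LinearMap.toMatrixAlgEquiv b).injective h1
    apply Subtype.ext
    ext v
    exact DFunLike.congr_fun h2 v
  · intro h v
    have := LinearMap.toMatrix_mulVec_repr b b (φ h) v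
    exact this

/-- A transitive linear group of order `|V| - 1` is regular. -/
theorem regular_of_card [Finite V] (H : Subgroup (V ≃ₗ[ZMod p] V))
    (htr : ∀ v w : V, v ≠ 0 → w ≠ 0 → ∃ h ∈ H, h v = w) (hcard : Nat.card H = Nat.card V - 1) :
    ∀ v w : V, v ≠ 0 → w ≠ 0 → ∃! h : H, (h : V ≃ₗ[ZMod p] V) v = w := by
  classical
  intro v w hv hw
  have : Finite (V ≃ₗ[ZMod p] V) := finite_gl
  let f : H → {w : V // w ≠ 0} := fun g => ⟨(g : V ≃ₗ[ZMod p] V) v, fun h0 =>
    hv ((LinearEquiv.map_eq_zero_iff _).1 h0)⟩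
  have hsurj : Function.Surjective f := by
    rintro ⟨w, hw⟩
    obtain ⟨g, hg, hgw⟩ := htr v w hv hw
    exact ⟨⟨g, hg⟩, Subtype.ext hgw⟩
  have hc : Nat.card H = Nat.card {w : V // w ≠ 0} := by
    rw [hcard]
    have h1 : Nat.card {w : V // w ≠ 0} = ({0} : Set V)ᶜ.ncard := by
      rw [← Nat.card_coe_set_eq]
      rfl
    rw [h1, Set.ncard_compl, Set.ncard_singleton]
  have hbij : Function.Bijective f := by
    have := Fintype.ofFinite H
    have := Fintype.ofFinite {w : V // w ≠ 0}
    rw [Fintype.bijective_iff_surjective_and_card]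
    refine ⟨hsurj, ?_⟩
    rw [← Nat.card_eq_fintype_card, ← Nat.card_eq_fintype_card]
    exact hc
  obtain ⟨g, hg⟩ := hbij.2 ⟨w, hw⟩
  refine ⟨g, congrArg Subtype.val hg, ?_⟩
  intro h hh
  apply hbij.1
  rw [hg]
  exact Subtype.ext hh

theorem sq_lt_pow {n : ℕ} (hn : 3 ≤ n) : n ^ 2 < 5 ^ (n - 1) := by
  obtain ⟨m, rfl⟩ : ∃ m, n = m + 3 := ⟨n - 3, by omega⟩
  clear hn
  induction m with
  | zero => norm_num
  | succ m ih =>
    have e2 : m + 1 + 3 - 1 = (m + 3 - 1) + 1 := by omega
    have e3 : (m + 1 + 3) ^ 2 ≤ (m + 3) ^ 2 * 5 := by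
      have : (m + 3) ^ 2 * 5 = (m + 1 + 3) ^ 2 + (4 * m ^ 2 + 22 * m + 29) := by ring
      omega
    rw [e2, pow_succ 5]
    exact e3.trans_lt (Nat.mul_lt_mul_of_pos_right ih (by norm_num))

/-- **Class numbers of transitive `p'`-groups.** -/
theorem main [Finite V] [Nontrivial V] (H : Subgroup (V ≃ₗ[ZMod p] V))
    (htr : ∀ v w : V, v ≠ 0 → w ≠ 0 → ∃ h ∈ H, h v = w) (hpH : ¬ p ∣ Nat.card H) :
    p ≤ Nat.card (ConjClasses H) ∨ finrank (ZMod p) V = 1 ∨
      (p = 11 ∧ Nat.card V = 121 ∧ Nat.card H = 120 ∧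
        Nonempty (H ≃* Matrix.SpecialLinearGroup (Fin 2) (ZMod 5))) := by
  classical
  have hp' : p.Prime := hp.out
  have : Finite (V ≃ₗ[ZMod p] V) := finite_gl
  have hV := Hering.card_eq (p := p) (V := V)
  have hdvd := Hering.dvd_card H htr
  set n := finrank (ZMod p) V with hn
  have : Module.Finite (ZMod p) V := Module.Finite.of_finite
  have hnpos : 0 < n := by rw [hn]; exact Module.finrank_pos
  by_cases hn1 : n = 1
  · exact Or.inr (Or.inl hn1)
  have hle : Nat.card V - 1 ≤ Nat.card H := Nat.le_of_dvd Nat.card_pos hdvd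
  rcases Nat.lt_or_ge p 5 with hp5 | hp5
  · left
    have hp3 : p ≤ 3 := by
      by_contra hc
      have : p = 4 := by omega
      rw [this] at hp'
      revert hp'; decide
    have h1 : 2 ^ 2 ≤ p ^ n := (Nat.pow_le_pow_left hp'.two_le 2).trans
      (Nat.pow_le_pow_right hp'.pos (by omega))
    have h2 : 3 ≤ Nat.card H := by omega
    by_contra hcon
    have := ClassCount.card_le_two (G := H) (by omega)
    omega
  by_cases hn2 : n = 2
  · obtain ⟨b, σ, hσ, hσb⟩ := exists_toGL H (n := 2) hn2
    let e : H ≃* σ.range := MonoidHom.ofInjective hσ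
    have hcardL : Nat.card σ.range = Nat.card H := (Nat.card_congr e.toEquiv).symm
    have hk := ClassCount.card_conjClasses_congr e
    rcases TwoDim.main hp5 σ.range (by rw [hcardL]; exact hpH) (by
      intro v w hv hw
      obtain ⟨h, hh, hhw⟩ := htr (b.symm v) (b.symm w)
        (fun h0 => hv (by rw [← b.apply_symm_apply v, h0, map_zero]))
        (fun h0 => hw (by rw [← b.apply_symm_apply w, h0, map_zero]))
      refine ⟨σ ⟨h, hh⟩, ⟨⟨h, hh⟩, rfl⟩, ?_⟩
      have := hσb ⟨h, hh⟩ (b.symm v)
      rw [LinearEquiv.apply_symm_apply] at this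
      rw [this]
      show b (h (b.symm v)) = w
      rw [hhw, LinearEquiv.apply_symm_apply]) (by rw [hcardL, ← hn2, ← hV]; exact hdvd) with
      h | ⟨h11, h120, hns⟩
    · left; rw [hk]; exact h
    · right; right
      have hV' : Nat.card V = 121 := by rw [hV, hn2, h11]; norm_num
      rw [hcardL] at h120
      have hreg := regular_of_card H htr (by rw [h120, hV'])
      have hnsH : ¬ Group.IsSolvable H := by
        intro hs
        exact hns (Group.isSolvable_of_surjective e.surjective)
      refine ⟨h11, hV', h120, ?_⟩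
      rcases Cfsg.Agent.S0689.result H hreg hnsH with ⟨-, h⟩ | ⟨h, -⟩ | ⟨h, -⟩
      · exact h
      · omega
      · omega
  · left
    have hn3 : 3 ≤ n := by omega
    by_cases hexc : p = 5 ∧ n = 6
    · obtain ⟨h5, h6⟩ := hexc
      have hpow : ∀ a b : ℕ, a = 5 → b = 6 → a ^ b = 15625 := by
        rintro _ _ rfl rfl; norm_num
      have hd : 15624 ∣ Nat.card H := by
        rw [hV, hpow p n h5 h6] at hdvd
        exact hdvd
      have hex : ∀ q : ℕ, q.Prime → q ∣ 15624 → ∃ g : H, orderOf g = q := by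
        intro q hq hqd
        have : Fact q.Prime := ⟨hq⟩
        exact exists_prime_orderOf_dvd_card' q (hqd.trans hd)
      have := ClassCount.card_orders_le (G := H) {1, 2, 3, 7, 31} (by
        intro d hd
        simp only [Finset.mem_insert, Finset.mem_singleton] at hd
        rcases hd with rfl | rfl | rfl | rfl | rfl
        · exact ⟨1, orderOf_one⟩
        · exact hex 2 (by norm_num) (by norm_num)
        · exact hex 3 (by norm_num) (by norm_num)
        · exact hex 7 (by norm_num) (by norm_num)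
        · exact hex 31 (by norm_num) (by norm_num))
      exact h5.le.trans this
    · obtain ⟨A, -, hA, hAc⟩ := Hering.main hp5 hn3 hexc H htr hpH
      rw [← hn] at hAc
      have hcomm := Cfsg.Agent.LieRecognition.FT61.Grp.comm_of_isCyclic hA
      have h1 := ClassCount.card_le_mul_index A hcomm
      have h2 := A.card_mul_index
      have hidx : A.index ≤ n := by
        rw [← h2, mul_comm] at hAc
        exact Nat.le_of_mul_le_mul_right hAc Nat.card_pos
      by_contra hcon
      push Not at hcon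
      have h3 : Nat.card H ≤ n ^ 2 * Nat.card (ConjClasses H) := by
        calc Nat.card H = Nat.card A * A.index := h2.symm
          _ ≤ (A.index * Nat.card (ConjClasses H)) * A.index := Nat.mul_le_mul h1 le_rfl
          _ = (A.index * A.index) * Nat.card (ConjClasses H) := by ring
          _ ≤ (n * n) * Nat.card (ConjClasses H) :=
            Nat.mul_le_mul (Nat.mul_le_mul hidx hidx) le_rfl
          _ = n ^ 2 * Nat.card (ConjClasses H) := by ring
      have h4 : n ^ 2 * (Nat.card (ConjClasses H) + 1) ≤ n ^ 2 * p := Nat.mul_le_mul le_rfl hcon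
      have h5 : n ^ 2 * (Nat.card (ConjClasses H) + 1) = n ^ 2 * Nat.card (ConjClasses H) + n ^ 2 := by
        ring
      have h6 : p ^ n = p ^ (n - 1) * p := by
        rw [← pow_succ]; congr 1; omega
      have h7 : (n ^ 2 + 1) * p ≤ p ^ (n - 1) * p :=
        Nat.mul_le_mul ((sq_lt_pow hn3).trans_le (Nat.pow_le_pow_left hp5 _)) le_rfl
      have h8 : (n ^ 2 + 1) * p = n ^ 2 * p + p := by ring
      rw [hV] at hle
      have h9 : 1 ≤ n ^ 2 := Nat.one_le_pow _ _ hnpos
      omega

end Cfsg.Agent.H697.LinMain
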