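import Cfsg.Agent.H697.Affine
import Cfsg.Agent.H697.ActMain
import Cfsg.Agent.H697.LemmaY
import Cfsg.Agent.H697.CycAct

/-!
# `p`-solvable groups with one class of nontrivial `p`-elements: the case of a trivial `p'`-core
-/

set_option autoImplicit false

namespace Cfsg.Agent.H697.PSolvA

open Pk

variable {p : ℕ} [hp : Fact p.Prime]

/-- `p`-elements lift. -/
theorem exists_lift_pow {G Q : Type*} [Group G] [Group Q] [Finite G] (f : G →* Q)
    (hf : Function.Surjective f) {q : Q} (hq : ∃ k : ℕ, orderOf q = p ^ k) :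
    ∃ g : G, f g = q ∧ ∃ k : ℕ, orderOf g = p ^ k := by
  obtain ⟨g, rfl⟩ := hf q
  obtain ⟨k, hk⟩ := hq
  obtain ⟨a, m, hm, ham⟩ := Nat.exists_eq_pow_mul_and_not_dvd (orderOf_pos g).ne' p hp.out.ne_one
  have hcop : Nat.Coprime m (orderOf (f g)) := by
    rw [hk]
    exact (Nat.Coprime.pow_left k ((Nat.Prime.coprime_iff_not_dvd hp.out).2 hm)).symm
  obtain ⟨b, hb⟩ : ∃ b : ℕ, f g ^ (m * b) = f g := by
    obtain ⟨b, hb⟩ := exists_pow_eq_self_of_coprime hcop
    exact ⟨b, by rw [pow_mul]; exact hb⟩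
  refine ⟨g ^ (m * b), by rw [map_pow, hb], ?_⟩
  have h1 : orderOf (g ^ (m * b)) ∣ p ^ a := by
    apply orderOf_dvd_of_pow_eq_one
    rw [← pow_mul]
    have : m * b * p ^ a = orderOf g * b := by rw [ham]; ring
    rw [this, pow_mul, pow_orderOf_eq_one, one_pow]
  obtain ⟨j, -, hj⟩ := (Nat.dvd_prime_pow hp.out).1 h1
  exact ⟨j, hj⟩

/-- The hypothesis passes to quotients. -/
theorem hconj_map {G Q : Type*} [Group G] [Group Q] [Finite G] (f : G →* Q)
    (hf : Function.Surjective f)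
    (hconj : ∀ x y : G, x ≠ 1 → y ≠ 1 → (∃ k : ℕ, orderOf x = p ^ k) →
      (∃ k : ℕ, orderOf y = p ^ k) → IsConj x y) :
    ∀ x y : Q, x ≠ 1 → y ≠ 1 → (∃ k : ℕ, orderOf x = p ^ k) →
      (∃ k : ℕ, orderOf y = p ^ k) → IsConj x y := by
  intro x y hx hy hxk hyk
  obtain ⟨g, rfl, hg⟩ := exists_lift_pow f hf hxk
  obtain ⟨h, rfl, hh⟩ := exists_lift_pow f hf hyk
  have hg1 : g ≠ 1 := fun h => hx (by rw [h, map_one])
  have hh1 : h ≠ 1 := fun h' => hy (by rw [h', map_one])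
  obtain ⟨c, hc⟩ := isConj_iff.1 (hconj g h hg1 hh1 hg hh)
  exact isConj_iff.2 ⟨f c, by rw [← hc, map_mul, map_mul, map_inv]⟩

/-- The case of a trivial `p'`-core. -/
theorem core_case {Q : Type*} [Group Q] [Finite Q] (hsol : Cfsg.IsPSolvable p Q)
    (hcore : Cfsg.pPrimeCore p Q = ⊥) (hdiv : p ∣ Nat.card Q)
    (hconj : ∀ x y : Q, x ≠ 1 → y ≠ 1 → (∃ k : ℕ, orderOf x = p ^ k) →
      (∃ k : ℕ, orderOf y = p ^ k) → IsConj x y) :
    p ≤ Nat.card (PReg p Q) ∨
      (Nat.card (PReg p Q) = p - 1 ∧ Nonempty (Q ≃* Cfsg.affineGroup (ZMod p))) ∨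
      (p = 11 ∧ Nat.card (PReg p Q) = 9 ∧ ∃ V H : Subgroup Q, V.Normal ∧
        (∀ x ∈ V, ∀ y ∈ V, x * y = y * x) ∧ (∀ x ∈ V, x ^ p = 1) ∧ Nat.card V = 121 ∧
        Nat.card H = 120 ∧ Subgroup.IsComplement' V H ∧ Nonempty (H ≃* SL25.S) ∧
        (∀ v ∈ V, ∀ w ∈ V, v ≠ 1 → w ≠ 1 → ∃ h ∈ H, h * v * h⁻¹ = w)) := by
  classical
  obtain ⟨V, H, hVn, hVc, hVp, hV1, hVH, hpH, hcent, htr⟩ :=
    ActMain.structure_of_core hsol hcore hdiv hconj
  have hVpg : IsPGroup p V := by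
    intro x
    exact ⟨1, Subtype.ext (by rw [pow_one]; exact hVp x x.2)⟩
  have hκ : Nat.card (PReg p Q) = Nat.card (ConjClasses H) := by
    rw [← card_quotient_eq V hVpg, card_congr hVH.symm.QuotientMulEquiv, card_eq_of_not_dvd hpH]
  have hfaith : ∀ h ∈ H, (∀ v ∈ V, h * v = v * h) → h = 1 := by
    intro h hh hc
    exact Subgroup.disjoint_def.1 hVH.disjoint (hcent h hc) hh
  rw [hκ]
  rcases ActMain.grp_main V H hVn hVc hVp hV1 hfaith htr hpH with h | h | ⟨h1, h2, h3, h4⟩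
  · exact Or.inl h
  · right; left
    obtain ⟨hH, hHc⟩ := Affine.card_complement V H hVn h hVH hcent htr
    refine ⟨?_, Affine.affine_iso V H hVn h hVH hcent htr⟩
    letI : CommGroup H :=
      { (inferInstance : Group H) with
        mul_comm := fun a b => Subtype.ext (hHc a a.2 b b.2) }
    rw [← hH]
    refine Nat.card_congr (Equiv.ofBijective (ConjClasses.mk : H → ConjClasses H) ⟨?_, ConjClasses.mk_surjective⟩).symm
    intro a b hab
    exact isConj_iff_eq.1 (ConjClasses.mk_eq_mk_iff_isConj.1 hab)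
  · right; right
    obtain ⟨e⟩ := h4
    refine ⟨h1, ?_, V, H, hVn, hVc, hVp, h2, h3, hVH, ⟨e⟩, htr⟩
    rw [ClassCount.card_conjClasses_congr e, SL25.card_conjClasses]

/-- A regular complement is a Frobenius complement. -/
theorem isFrobeniusComplement {Q : Type*} [Group Q] [Finite Q] (V H : Subgroup Q) (hVn : V.Normal)
    (hVH : Subgroup.IsComplement' V H) (hV : 2 < Nat.card V) (hH : Nat.card H + 1 = Nat.card V)
    (htr : ∀ v ∈ V, ∀ w ∈ V, v ≠ 1 → w ≠ 1 → ∃ h ∈ H, h * v * h⁻¹ = w) :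
    Cfsg.IsFrobeniusComplement H := by
  classical
  have hdisj := hVH.disjoint
  have hreg : ∀ v ∈ V, v ≠ 1 → ∀ h ∈ H, h * v * h⁻¹ = v → h = 1 := by
    intro v hv hv1 h hh hhv
    let f : H → {w : V // w ≠ 1} := fun k => ⟨⟨k * v * (k : Q)⁻¹, hVn.conj_mem v hv k⟩, by
      intro e
      apply hv1
      have e' : (k : Q) * v * (k : Q)⁻¹ = 1 := congrArg Subtype.val e
      have : v = (k : Q)⁻¹ * ((k : Q) * v * (k : Q)⁻¹) * k := by group
      rw [this, e']
      group⟩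
    have hf : Function.Surjective f := by
      rintro ⟨⟨w, hw⟩, hw1⟩
      obtain ⟨k, hk, hkw⟩ := htr v hv w hw hv1 (fun e => hw1 (Subtype.ext e))
      exact ⟨⟨k, hk⟩, Subtype.ext (Subtype.ext hkw)⟩
    have hcard : Nat.card H = Nat.card {w : V // w ≠ 1} := by
      have h1 : Nat.card {w : V // w ≠ 1} = ({1} : Set V)ᶜ.ncard := by
        rw [← Nat.card_coe_set_eq]
        rfl
      rw [h1, Set.ncard_compl, Set.ncard_singleton]
      omega
    have hbij : Function.Injective f := by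
      have := Fintype.ofFinite H
      have := Fintype.ofFinite {w : V // w ≠ 1}
      have h2 : Function.Bijective f := by
        rw [Fintype.bijective_iff_surjective_and_card]
        exact ⟨hf, by rw [← Nat.card_eq_fintype_card, ← Nat.card_eq_fintype_card, hcard]⟩
      exact h2.1
    have h3 : f ⟨h, hh⟩ = f 1 := by
      apply Subtype.ext
      apply Subtype.ext
      show h * v * h⁻¹ = (1 : Q) * v * (1 : Q)⁻¹
      rw [hhv]
      group
    exact congrArg Subtype.val (hbij h3)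
  refine ⟨?_, ?_, ?_⟩
  · intro h
    rw [h, Subgroup.card_bot] at hH
    omega
  · intro h
    rw [h] at hdisj
    have : V = ⊥ := by rw [eq_bot_iff]; exact hdisj le_rfl le_top
    rw [this, Subgroup.card_bot] at hV
    omega
  · intro g hg
    rw [eq_bot_iff]
    intro x hxx
    obtain ⟨hx, hx'⟩ := Subgroup.mem_inf.1 hxx
    rw [Subgroup.mem_pointwise_smul_iff_inv_smul_mem] at hx'
    have hx2 : g⁻¹ * x * g ∈ H := by
      simpa [MulAut.smul_def] using hx'
    -- write `g = v h₀`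
    obtain ⟨⟨⟨v, hv⟩, ⟨h₀, hh₀⟩⟩, hvh⟩ := (hVH.existsUnique g).exists
    have hgv : v * h₀ = g := hvh
    have hv1 : v ≠ 1 := by
      intro e
      apply hg
      rw [← hgv, e, one_mul]
      exact hh₀
    have hk : v⁻¹ * x * v ∈ H := by
      have : v⁻¹ * x * v = h₀ * (g⁻¹ * x * g) * h₀⁻¹ := by
        rw [← hgv]; group
      rw [this]
      exact H.mul_mem (H.mul_mem hh₀ hx2) (H.inv_mem hh₀)
    -- `x⁻¹ (v⁻¹ x v)` lies in `V ∩ H`
    have h1 : x⁻¹ * (v⁻¹ * x * v) ∈ V := by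
      have : x⁻¹ * (v⁻¹ * x * v) = (x⁻¹ * v⁻¹ * x⁻¹⁻¹) * v := by group
      rw [this]
      exact V.mul_mem (hVn.conj_mem _ (V.inv_mem hv) x⁻¹) hv
    have h2 : x⁻¹ * (v⁻¹ * x * v) ∈ H := H.mul_mem (H.inv_mem hx) hk
    have h3 : x⁻¹ * (v⁻¹ * x * v) = 1 := Subgroup.disjoint_def.1 hdisj h1 h2
    have h4 : x * v * x⁻¹ = v := by
      have h5 : v⁻¹ * x * v = x := by
        have := congrArg (fun z => x * z) h3
        simpa using this
      have h6 : x * v = v * x := by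
        have := congrArg (fun z => v * z) h5
        simpa [mul_assoc] using this
      rw [h6]; group
    exact hreg v hv hv1 x hx h4

end Cfsg.Agent.H697.PSolvA
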