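import Cfsg.Agent.H697.ThreeDefs

/-!
# `p`-solvable groups with three classes of `p`-elements: reduction to linear groups
-/

set_option autoImplicit false
set_option linter.style.haveILetI false

universe u

namespace Cfsg.Agent.H697.Three

open Pk Module
open scoped Pointwise

variable {p : ℕ} [hp : Fact p.Prime]

section embed

variable {Q : Type*} [Group Q] [Finite Q]
variable (V H : Subgroup Q) (hVn : V.Normal) (hcardV : Nat.card V = p)
  (hH : Subgroup.IsComplement' V H) (hcent : ∀ g : Q, (∀ v ∈ V, g * v = v * g) → g ∈ V)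

include hVn hcardV hH hcent

/-- Embedding in the affine group. -/
theorem affine_embed : ∃ f : Q →* Cfsg.affineGroup (ZMod p), Function.Injective f := by
  classical
  have hp' : p.Prime := hp.out
  have : Nontrivial V := Finite.one_lt_card_iff_nontrivial.1 (by rw [hcardV]; exact hp'.one_lt)
  obtain ⟨⟨x, hx⟩, hx1⟩ := exists_ne (1 : V)
  have hx1' : x ≠ 1 := fun h => hx1 (Subtype.ext h)
  have hxp : x ^ p = 1 := by
    have : (⟨x, hx⟩ : V) ^ Nat.card V = 1 := pow_card_eq_one'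
    rw [hcardV] at this
    exact congrArg Subtype.val this
  have hxo : orderOf x = p := orderOf_eq_prime hxp hx1'
  have hVx : Subgroup.zpowers x = V := by
    apply Subgroup.eq_of_le_of_card_ge (by rw [Subgroup.zpowers_le]; exact hx)
    rw [hcardV, Nat.card_zpowers, hxo]
  have hdisj := hH.disjoint
  have hcx : ∀ g : Q, g * x = x * g → g ∈ V := by
    intro g hg
    apply hcent
    intro v hv
    rw [← hVx] at hv
    obtain ⟨i, rfl⟩ := hv
    exact ((show Commute g x from hg).zpow_right i).eq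
  -- the cosets
  let e₀ : ZMod p → Q ⧸ H := fun i => ((x ^ i.val : Q) : Q ⧸ H)
  have he₀ : Function.Injective e₀ := by
    intro i j hij
    have h1 : (x ^ i.val)⁻¹ * x ^ j.val ∈ H := QuotientGroup.eq.1 hij
    have h2 : (x ^ i.val)⁻¹ * x ^ j.val ∈ V := V.mul_mem (V.inv_mem (V.pow_mem hx _)) (V.pow_mem hx _)
    have h3 := Subgroup.disjoint_def.1 hdisj h2 h1
    have h4 : x ^ i.val = x ^ j.val := inv_mul_eq_one.1 h3
    have h5 := pow_injOn_Iio_orderOf (x := x) (by rw [hxo]; exact ZMod.val_lt i)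
      (by rw [hxo]; exact ZMod.val_lt j) h4
    exact ZMod.val_injective p h5
  have hcardQH : Nat.card (Q ⧸ H) = p := by
    rw [← hcardV]
    exact hH.index_eq_card
  have he₀b : Function.Bijective e₀ := by
    have := Fintype.ofFinite (Q ⧸ H)
    rw [Fintype.bijective_iff_injective_and_card]
    refine ⟨he₀, ?_⟩
    rw [ZMod.card, ← Nat.card_eq_fintype_card, hcardQH]
  let e : ZMod p ≃ Q ⧸ H := Equiv.ofBijective e₀ he₀b
  have hepow : ∀ n : ℤ, e (n : ZMod p) = ((x ^ n : Q) : Q ⧸ H) := by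
    intro n
    show ((x ^ (n : ZMod p).val : Q) : Q ⧸ H) = _
    congr 1
    rw [← zpow_natCast, ZMod.val_intCast, ← hxo, zpow_mod_orderOf]
  let φ : Q →* Equiv.Perm (ZMod p) :=
    (e.symm.permCongrHom.toMonoidHom).comp (MulAction.toPermHom Q (Q ⧸ H))
  have hφ : ∀ g i, e (φ g i) = g • e i := by
    intro g i
    show e (e.symm (g • e.symm.symm i)) = _
    rw [Equiv.apply_symm_apply, Equiv.symm_symm]
  have haff : ∀ g, φ g ∈ Cfsg.affineGroup (ZMod p) := by
    intro g
    have hg' : g ∈ (V : Set Q) * (H : Set Q) := by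
      rw [Subgroup.IsComplement.mul_eq hH]; trivial
    obtain ⟨y, hy, h, hh, rfl⟩ := hg'
    have hy' : y ∈ V := hy
    rw [← hVx] at hy'
    obtain ⟨b, rfl⟩ := hy'
    have hk := hVn.conj_mem x hx h
    rw [← hVx] at hk
    obtain ⟨a, ha⟩ := hk
    have ha' : x ^ a = h * x * h⁻¹ := ha
    have ha0 : ((a : ℤ) : ZMod p) ≠ 0 := by
      intro h0
      rw [ZMod.intCast_zmod_eq_zero_iff_dvd] at h0
      obtain ⟨c, rfl⟩ := h0
      rw [zpow_mul, zpow_natCast, hxp, one_zpow] at ha'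
      have := mul_inv_eq_one.1 ha'.symm
      exact hx1' (mul_left_cancel (this.trans (mul_one _).symm))
    refine ⟨Units.mk0 _ ha0, (b : ZMod p), fun i => ?_⟩
    apply e.injective
    rw [hφ]
    obtain ⟨n, rfl⟩ := ZMod.intCast_surjective i
    rw [Units.val_mk0, ← Int.cast_mul, ← Int.cast_add, hepow, hepow]
    show ((x ^ b * h * x ^ n : Q) : Q ⧸ H) = _
    rw [QuotientGroup.eq]
    have h1 : h * x ^ n * h⁻¹ = x ^ (a * n) := by
      rw [← conj_zpow, ← ha', ← zpow_mul]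
    have h2 : x ^ b * h * x ^ n = x ^ (a * n + b) * h := by
      have h3 : x ^ b * h * x ^ n = x ^ b * (h * x ^ n * h⁻¹) * h := by group
      rw [h3, h1, ← zpow_add, add_comm]
    have hh' : h ∈ H := hh
    have h3 : (x ^ b * h * x ^ n)⁻¹ * x ^ (a * n + b) = h⁻¹ := by
      rw [h2]; group
    rw [h3]
    exact H.inv_mem hh'
  let ψ : Q →* Cfsg.affineGroup (ZMod p) := φ.codRestrict _ haff
  refine ⟨ψ, ?_⟩
  rw [injective_iff_map_eq_one]
  intro g hg
  have hg1 : φ g = 1 := congrArg Subtype.val hg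
  have h1 : ∀ n : ℤ, g • ((x ^ n : Q) : Q ⧸ H) = ((x ^ n : Q) : Q ⧸ H) := by
    intro n
    rw [← hepow, ← hφ, hg1]
    rfl
  have h2 : g ∈ H := by
    have h3 := h1 0
    rw [zpow_zero] at h3
    have h4 : ((g * 1 : Q) : Q ⧸ H) = ((1 : Q) : Q ⧸ H) := h3
    rw [mul_one, QuotientGroup.eq, mul_one] at h4
    have := H.inv_mem h4
    rwa [inv_inv] at this
  have h3 : g⁻¹ * (x⁻¹ * g * x) ∈ H := by
    have h3 := h1 1
    rw [zpow_one] at h3
    have h4 : ((g * x : Q) : Q ⧸ H) = ((x : Q) : Q ⧸ H) := h3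
    rw [QuotientGroup.eq] at h4
    have h5 := H.inv_mem h4
    refine H.mul_mem (H.inv_mem h2) ?_
    have h6 : ((g * x)⁻¹ * x)⁻¹ = x⁻¹ * g * x := by group
    rwa [h6] at h5
  have h4 : g⁻¹ * (x⁻¹ * g * x) ∈ V := by
    have h5 : g⁻¹ * (x⁻¹ * g * x) = (g⁻¹ * x⁻¹ * g⁻¹⁻¹) * x := by group
    rw [h5]
    exact V.mul_mem (hVn.conj_mem _ (V.inv_mem hx) g⁻¹) hx
  have h5 : g⁻¹ * (x⁻¹ * g * x) = 1 := Subgroup.disjoint_def.1 hdisj h4 h3
  have h6 : g * x = x * g := by
    have h7 : x⁻¹ * g * x = g := by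
      have := congrArg (fun z => g * z) h5
      simpa using this
    have := congrArg (fun z => x * z) h7
    simpa [mul_assoc] using this
  exact Subgroup.disjoint_def.1 hdisj (hcx g h6) h2

end embed

/-- Two classes of nontrivial `p`-elements. -/
def TwoCl (p : ℕ) (G : Type*) [Group G] : Prop :=
  ∃ x₁ x₂ : G, x₁ ≠ 1 ∧ x₂ ≠ 1 ∧ (∃ k : ℕ, orderOf x₁ = p ^ k) ∧ (∃ k : ℕ, orderOf x₂ = p ^ k) ∧
    ¬ IsConj x₁ x₂ ∧ ∀ y : G, y ≠ 1 → (∃ k : ℕ, orderOf y = p ^ k) → IsConj x₁ y ∨ IsConj x₂ y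

omit hp in
theorem twoCl_of_card {G : Type*} [Group G] [Finite G]
    (h3 : Nat.card {c : ConjClasses G // ∃ g : G, ConjClasses.mk g = c ∧
      ∃ k : ℕ, orderOf g = p ^ k} = 3) : TwoCl p G := by
  classical
  set T := {c : ConjClasses G // ∃ g : G, ConjClasses.mk g = c ∧ ∃ k : ℕ, orderOf g = p ^ k} with hT
  have hfin : Finite T := Nat.finite_of_card_ne_zero (by rw [h3]; norm_num)
  have := Fintype.ofFinite T
  have hone : ∃ g : G, ConjClasses.mk g = (1 : ConjClasses G) ∧ ∃ k : ℕ, orderOf g = p ^ k :=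
    ⟨1, rfl, 0, by rw [orderOf_one, pow_zero]⟩
  let c₀ : T := ⟨1, hone⟩
  have hcard : (Finset.univ.erase c₀).card = 2 := by
    rw [Finset.card_erase_of_mem (Finset.mem_univ _), Finset.card_univ, ← Nat.card_eq_fintype_card, h3]
  obtain ⟨a, b, hab, hE⟩ := Finset.card_eq_two.1 hcard
  have ha : a ≠ c₀ := by
    have : a ∈ Finset.univ.erase c₀ := by rw [hE]; simp
    exact (Finset.mem_erase.1 this).1
  have hb : b ≠ c₀ := by
    have : b ∈ Finset.univ.erase c₀ := by rw [hE]; simp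
    exact (Finset.mem_erase.1 this).1
  obtain ⟨ca, x₁, hx₁, hk₁⟩ := a
  obtain ⟨cb, x₂, hx₂, hk₂⟩ := b
  refine ⟨x₁, x₂, ?_, ?_, hk₁, hk₂, ?_, ?_⟩
  · rintro rfl
    exact ha (Subtype.ext hx₁.symm)
  · rintro rfl
    exact hb (Subtype.ext hx₂.symm)
  · intro h
    apply hab
    apply Subtype.ext
    show ca = cb
    rw [← hx₁, ← hx₂]
    exact ConjClasses.mk_eq_mk_iff_isConj.2 h
  · intro y hy hky
    have h1 : (⟨ConjClasses.mk y, y, rfl, hky⟩ : T) ∈ Finset.univ.erase c₀ := by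
      refine Finset.mem_erase.2 ⟨?_, Finset.mem_univ _⟩
      intro h
      have h2 : ConjClasses.mk y = ConjClasses.mk 1 := congrArg Subtype.val h
      exact hy (isConj_one_left.1 (ConjClasses.mk_eq_mk_iff_isConj.1 h2))
    rw [hE, Finset.mem_insert, Finset.mem_singleton] at h1
    rcases h1 with h1 | h1
    · left
      have h2 : ConjClasses.mk y = ca := congrArg Subtype.val h1
      exact ConjClasses.mk_eq_mk_iff_isConj.1 (hx₁.trans h2.symm)
    · right
      have h2 : ConjClasses.mk y = cb := congrArg Subtype.val h1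
      exact ConjClasses.mk_eq_mk_iff_isConj.1 (hx₂.trans h2.symm)

/-- One class gives a strict inequality. -/
theorem strict_of_one {G : Type*} [Group G] [Finite G] (hsolv : Cfsg.IsPSolvable p G)
    (hdiv : p ∣ Nat.card G)
    (hconj : ∀ x y : G, x ≠ 1 → y ≠ 1 → (∃ k : ℕ, orderOf x = p ^ k) →
      (∃ k : ℕ, orderOf y = p ^ k) → IsConj x y) : p - 1 < 2 * Nat.card (PReg p G) := by
  have hp2 := hp.out.two_le
  rcases PSolvB.main p hsolv hdiv hconj with h | ⟨h, -⟩ | ⟨h1, h2, -⟩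
  · omega
  · omega
  · rw [h1] at h2 ⊢
    omega

omit hp in
theorem dvd_of_pow {G : Type*} [Group G] [Finite G] {x : G} (hx : x ≠ 1)
    (h : ∃ k : ℕ, orderOf x = p ^ k) : p ∣ Nat.card G := by
  obtain ⟨k, hk⟩ := h
  have hk0 : k ≠ 0 := by
    rintro rfl
    rw [pow_zero, orderOf_eq_one_iff] at hk
    exact hx hk
  exact (dvd_pow_self p hk0).trans (hk ▸ orderOf_dvd_natCard x)

/-- A normal subgroup containing some but not all nontrivial `p`-elements. -/
theorem strict_of_normal {G : Type*} [Group G] [Finite G] (hsolv : Cfsg.IsPSolvable p G)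
    (hT : TwoCl p G) (U : Subgroup G) (hU : U.Normal) {a b : G} (ha : a ∈ U) (ha1 : a ≠ 1)
    (hka : ∃ k : ℕ, orderOf a = p ^ k) (hb : b ∉ U) (hkb : ∃ k : ℕ, orderOf b = p ^ k) :
    p - 1 < 2 * Nat.card (PReg p G) := by
  classical
  obtain ⟨x₁, x₂, -, -, -, -, hne, hall⟩ := hT
  have hb1 : b ≠ 1 := by rintro rfl; exact hb U.one_mem
  have hmem : ∀ {u v : G}, IsConj u v → u ∈ U → v ∈ U := by
    intro u v huv hu
    obtain ⟨c, hc⟩ := isConj_iff.1 huv
    rw [← hc]
    exact hU.conj_mem u hu c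
  -- everything outside `U` is conjugate to `b`
  have key : ∀ y : G, y ∉ U → (∃ k : ℕ, orderOf y = p ^ k) → IsConj b y := by
    intro y hy hky
    have hy1 : y ≠ 1 := by rintro rfl; exact hy U.one_mem
    rcases hall a ha1 hka with h1 | h1 <;> rcases hall b hb1 hkb with h2 | h2 <;>
      rcases hall y hy1 hky with h3 | h3
    · exact absurd (hmem (h1.symm.trans h2) ha) hb
    · exact absurd (hmem (h1.symm.trans h2) ha) hb
    · exact absurd (hmem (h1.symm.trans h3) ha) hy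
    · exact h2.symm.trans h3
    · exact h2.symm.trans h3
    · exact absurd (hmem (h1.symm.trans h3) ha) hy
    · exact absurd (hmem (h1.symm.trans h2) ha) hb
    · exact absurd (hmem (h1.symm.trans h2) ha) hb
  have hsolQ := Lib.PSolvable.IsPSolvable_of_surjective p hsolv
    (QuotientGroup.mk' U) (QuotientGroup.mk'_surjective _)
  have hnt : ∀ y : G, (QuotientGroup.mk' U) y ≠ 1 → y ∉ U := by
    intro y hy hyU
    apply hy
    rwa [← MonoidHom.mem_ker, QuotientGroup.ker_mk']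
  have hconjQ : ∀ x y : G ⧸ U, x ≠ 1 → y ≠ 1 → (∃ k : ℕ, orderOf x = p ^ k) →
      (∃ k : ℕ, orderOf y = p ^ k) → IsConj x y := by
    intro x y hx hy hkx hky
    obtain ⟨g, rfl, hg⟩ := PSolvA.exists_lift_pow (QuotientGroup.mk' U)
      (QuotientGroup.mk'_surjective _) hkx
    obtain ⟨h, rfl, hh⟩ := PSolvA.exists_lift_pow (QuotientGroup.mk' U)
      (QuotientGroup.mk'_surjective _) hky
    obtain ⟨c, hc⟩ := isConj_iff.1 ((key g (hnt g hx) hg).symm.trans (key h (hnt h hy) hh))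
    exact isConj_iff.2 ⟨(QuotientGroup.mk' U) c, by rw [← hc, map_mul, map_mul, map_inv]⟩
  have hb' : (QuotientGroup.mk' U) b ≠ 1 := by
    intro h
    apply hb
    rwa [← MonoidHom.mem_ker, QuotientGroup.ker_mk'] at h
  have hdivQ : p ∣ Nat.card (G ⧸ U) := by
    apply dvd_of_pow hb'
    obtain ⟨k, hk⟩ := hkb
    have h1 : orderOf ((QuotientGroup.mk' U) b) ∣ p ^ k := hk ▸ orderOf_map_dvd _ b
    obtain ⟨j, -, hj⟩ := (Nat.dvd_prime_pow hp.out).1 h1
    exact ⟨j, hj⟩
  have h1 := strict_of_one hsolQ hdivQ hconjQ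
  have h2 := card_le_of_surjective (p := p) (QuotientGroup.mk' U) (QuotientGroup.mk'_surjective U)
  omega

end Cfsg.Agent.H697.Three
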