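import Cfsg.Agent.H697.ThreeWeight

/-!
# Counting in two-intersection sets over the prime field
-/

set_option autoImplicit false

universe u

namespace Cfsg.Agent.H697.ThreeCount

open Module

variable {p : ℕ} [hp : Fact p.Prime] {V : Type u} [AddCommGroup V] [Module (ZMod p) V] [Finite V]

theorem card_ann (W : Submodule (ZMod p) V) :
    Nat.card W.dualAnnihilator = p ^ (finrank (ZMod p) V - finrank (ZMod p) W) := by
  have : Module.Finite (ZMod p) V := Module.Finite.of_finite
  have h1 := Subspace.finrank_add_finrank_dualAnnihilator_eq W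
  have : Finite (Dual (ZMod p) V) := Module.finite_of_finite (ZMod p)
  rw [Module.natCard_eq_pow_finrank (K := ZMod p), Nat.card_zmod]
  congr 1
  omega

theorem ncard_one {v : V} (hv : v ≠ 0) :
    {f : Dual (ZMod p) V | f v = 0}.ncard = p ^ (finrank (ZMod p) V - 1) := by
  have h1 := card_ann (p := p) (Submodule.span (ZMod p) {v})
  rw [finrank_span_singleton hv] at h1
  rw [← h1, ← Nat.card_coe_set_eq]
  apply congrArg
  congr 1
  ext f
  simp only [Set.mem_ofPred_eq, SetLike.mem_coe, Submodule.mem_dualAnnihilator]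
  constructor
  · intro h w hw
    obtain ⟨c, rfl⟩ := Submodule.mem_span_singleton.1 hw
    rw [map_smul, h, smul_zero]
  · intro h
    exact h v (Submodule.mem_span_singleton_self v)

theorem ncard_two {v w : V} (hv : v ≠ 0) (hw : ∀ c : ZMod p, w ≠ c • v) :
    {f : Dual (ZMod p) V | f v = 0 ∧ f w = 0}.ncard = p ^ (finrank (ZMod p) V - 2) := by
  have hli : LinearIndependent (ZMod p) ![v, w] := by
    rw [LinearIndependent.pair_iff' hv]
    intro a h
    exact hw a h.symm
  have h2 : finrank (ZMod p) (Submodule.span (ZMod p) (Set.range ![v, w])) = 2 := by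
    rw [finrank_span_eq_card hli, Fintype.card_fin]
  have h1 := card_ann (p := p) (Submodule.span (ZMod p) (Set.range ![v, w]))
  rw [h2] at h1
  rw [← h1, ← Nat.card_coe_set_eq]
  apply congrArg
  congr 1
  ext f
  simp only [Set.mem_ofPred_eq, SetLike.mem_coe, Submodule.mem_dualAnnihilator]
  constructor
  · rintro ⟨ha, hb⟩ x hx
    have h3 : Submodule.span (ZMod p) (Set.range ![v, w]) ≤ LinearMap.ker f := by
      rw [Submodule.span_le]
      rintro _ ⟨i, rfl⟩
      fin_cases i
      · exact ha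
      · exact hb
    exact h3 hx
  · intro h
    exact ⟨h v (Submodule.subset_span ⟨0, rfl⟩), h w (Submodule.subset_span ⟨1, rfl⟩)⟩

theorem ncard_ker {f : Dual (ZMod p) V} (hf : f ≠ 0) :
    {v : V | f v = 0}.ncard = p ^ (finrank (ZMod p) V - 1) := by
  have : Module.Finite (ZMod p) V := Module.Finite.of_finite
  have h1 := LinearMap.finrank_range_add_finrank_ker f
  have h2 : LinearMap.range f = ⊤ := LinearMap.range_eq_top.2 (LinearMap.surjective hf)
  rw [h2, finrank_top, finrank_self] at h1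
  have h3 : Nat.card (LinearMap.ker f) = p ^ finrank (ZMod p) (LinearMap.ker f) := by
    rw [Module.natCard_eq_pow_finrank (K := ZMod p), Nat.card_zmod]
  rw [← Nat.card_coe_set_eq]
  have h4 : Nat.card (LinearMap.ker f) = Nat.card {v : V | f v = 0} := rfl
  rw [← h4, h3]
  congr 1
  omega

omit [Finite V] in
/-- The number of elements of a cone without `0`. -/
theorem dvd_cone [DecidableEq V] (T : Finset V) (h0 : (0 : V) ∉ T)
    (hT : ∀ c : ZMod p, c ≠ 0 → ∀ v ∈ T, c • v ∈ T) : (p - 1) ∣ T.card := by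
  classical
  have hcard := Finset.card_eq_sum_card_image (fun v : V => Submodule.span (ZMod p) {v}) T
  rw [hcard]
  apply Finset.dvd_sum
  intro W hW
  obtain ⟨v, hv, rfl⟩ := Finset.mem_image.1 hW
  have hv0 : v ≠ 0 := by rintro rfl; exact h0 hv
  have h1 : (Finset.filter (fun w : V => Submodule.span (ZMod p) {w} = Submodule.span (ZMod p) {v}) T)
      = (Finset.univ : Finset (ZMod p)ˣ).image (fun c : (ZMod p)ˣ => (c : ZMod p) • v) := by
    ext w
    rw [Finset.mem_filter, Finset.mem_image]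
    constructor
    · rintro ⟨-, hw⟩
      obtain ⟨c, hc⟩ := (Submodule.span_singleton_eq_span_singleton).1 hw.symm
      exact ⟨c, Finset.mem_univ _, hc⟩
    · rintro ⟨c, -, rfl⟩
      refine ⟨hT c c.ne_zero v hv, ?_⟩
      rw [Submodule.span_singleton_eq_span_singleton]
      refine ⟨c⁻¹, ?_⟩
      show ((c⁻¹ : (ZMod p)ˣ) : ZMod p) • ((c : ZMod p) • v) = v
      rw [smul_smul, ← Units.val_mul, inv_mul_cancel, Units.val_one, one_smul]
  rw [h1, Finset.card_image_of_injective, Finset.card_univ, ZMod.card_units]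
  intro c d hcd
  exact Units.ext (smul_left_injective (ZMod p) hv0 hcd)

section double

variable [Fintype V] [DecidableEq V] [Fintype (Dual (ZMod p) V)] [DecidableEq (Dual (ZMod p) V)]

omit [Finite V] [DecidableEq V] in
/-- First moment. -/
theorem sum_one (O : Finset V) (h0 : (0 : V) ∉ O) :
    ∑ f ∈ (Finset.univ : Finset (Dual (ZMod p) V)).erase 0, (Finset.filter (fun v => f v = 0) O).card =
      O.card * (p ^ (finrank (ZMod p) V - 1) - 1) := by
  have h1 := Finset.sum_card_bipartiteAbove_eq_sum_card_bipartiteBelow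
    (s := (Finset.univ : Finset (Dual (ZMod p) V)).erase 0) (t := O)
    (fun (f : Dual (ZMod p) V) (v : V) => f v = 0)
  refine h1.trans (Finset.sum_const_nat ?_)
  intro v hv
  have hv0 : v ≠ 0 := by rintro rfl; exact h0 hv
  have h2 := ncard_one (p := p) hv0
  rw [← h2]
  have h3 : Finset.bipartiteBelow (fun (f : Dual (ZMod p) V) (v : V) => f v = 0)
      ((Finset.univ : Finset (Dual (ZMod p) V)).erase 0) v =
      (Finset.univ.filter (fun f : Dual (ZMod p) V => f v = 0)).erase 0 := by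
    ext f
    simp [Finset.bipartiteBelow]
  rw [h3, Finset.card_erase_of_mem (by simp), Set.ncard_eq_toFinset_card']
  congr 2
  ext f
  simp

omit [Finite V] in
/-- Second moment. -/
theorem sum_two (O : Finset V) (h0 : (0 : V) ∉ O)
    (hO : ∀ c : ZMod p, c ≠ 0 → ∀ v ∈ O, c • v ∈ O) :
    ∑ f ∈ (Finset.univ : Finset (Dual (ZMod p) V)).erase 0,
      ((Finset.filter (fun v => f v = 0) O).card : ℤ) ^ 2 =
      O.card * (((p : ℤ) - 1) * ((p : ℤ) ^ (finrank (ZMod p) V - 1) - 1) +
        ((O.card : ℤ) - p + 1) * ((p : ℤ) ^ (finrank (ZMod p) V - 2) - 1)) := by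
  classical
  have hp1 : 1 ≤ p := hp.out.one_lt.le
  -- pairs
  have h1 := Finset.sum_card_bipartiteAbove_eq_sum_card_bipartiteBelow
    (s := (Finset.univ : Finset (Dual (ZMod p) V)).erase 0) (t := O ×ˢ O)
    (fun (f : Dual (ZMod p) V) (x : V × V) => f x.1 = 0 ∧ f x.2 = 0)
  have h2 : ∀ f : Dual (ZMod p) V, (Finset.bipartiteAbove
      (fun (f : Dual (ZMod p) V) (x : V × V) => f x.1 = 0 ∧ f x.2 = 0) (O ×ˢ O) f).card =
      (Finset.filter (fun v => f v = 0) O).card ^ 2 := by
    intro f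
    rw [sq, ← Finset.card_product]
    congr 1
    ext ⟨a, b⟩
    simp only [Finset.bipartiteAbove, Finset.mem_filter, Finset.mem_product]
    tauto
  simp_rw [h2] at h1
  have h3 : ∀ v ∈ O, ∀ w ∈ O, ((Finset.bipartiteBelow
      (fun (f : Dual (ZMod p) V) (x : V × V) => f x.1 = 0 ∧ f x.2 = 0)
      ((Finset.univ : Finset (Dual (ZMod p) V)).erase 0) (v, w)).card : ℤ) =
      if w ∈ Submodule.span (ZMod p) {v} then (p : ℤ) ^ (finrank (ZMod p) V - 1) - 1 else
        (p : ℤ) ^ (finrank (ZMod p) V - 2) - 1 := by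
    intro v hv w hw
    have hv0 : v ≠ 0 := by rintro rfl; exact h0 hv
    have h4 : Finset.bipartiteBelow
      (fun (f : Dual (ZMod p) V) (x : V × V) => f x.1 = 0 ∧ f x.2 = 0)
      ((Finset.univ : Finset (Dual (ZMod p) V)).erase 0) (v, w) =
      (Finset.univ.filter (fun f : Dual (ZMod p) V => f v = 0 ∧ f w = 0)).erase 0 := by
      ext f
      simp [Finset.bipartiteBelow]
    rw [h4, Finset.card_erase_of_mem (by simp)]
    split_ifs with hs
    · have h5 : (Finset.univ.filter (fun f : Dual (ZMod p) V => f v = 0 ∧ f w = 0)).card =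
          p ^ (finrank (ZMod p) V - 1) := by
        rw [← ncard_one (p := p) hv0, Set.ncard_eq_toFinset_card']
        congr 1
        ext f
        simp only [Finset.mem_filter, Finset.mem_univ, true_and, Set.mem_toFinset, Set.mem_ofPred_eq]
        constructor
        · exact fun h => h.1
        · intro h
          obtain ⟨c, rfl⟩ := Submodule.mem_span_singleton.1 hs
          exact ⟨h, by rw [map_smul, h, smul_zero]⟩
      rw [h5, Nat.cast_sub (Nat.one_le_pow _ _ hp1)]
      push_cast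
      ring
    · have h5 : (Finset.univ.filter (fun f : Dual (ZMod p) V => f v = 0 ∧ f w = 0)).card =
          p ^ (finrank (ZMod p) V - 2) := by
        rw [← ncard_two (p := p) hv0 (w := w), Set.ncard_eq_toFinset_card']
        · congr 1
          ext f
          simp
        · rintro c rfl
          exact hs (Submodule.smul_mem _ _ (Submodule.mem_span_singleton_self v))
      rw [h5, Nat.cast_sub (Nat.one_le_pow _ _ hp1)]
      push_cast
      ring
  have h4 : ∀ v ∈ O, ((O.filter (fun w => w ∈ Submodule.span (ZMod p) {v})).card : ℤ) = p - 1 := by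
    intro v hv
    have hv0 : v ≠ 0 := by rintro rfl; exact h0 hv
    have h5 : O.filter (fun w => w ∈ Submodule.span (ZMod p) {v}) =
        (Finset.univ : Finset (ZMod p)ˣ).image (fun c : (ZMod p)ˣ => (c : ZMod p) • v) := by
      ext w
      rw [Finset.mem_filter, Finset.mem_image]
      constructor
      · rintro ⟨hwO, hw⟩
        obtain ⟨c, rfl⟩ := Submodule.mem_span_singleton.1 hw
        have hc : c ≠ 0 := by
          rintro rfl
          rw [zero_smul] at hwO
          exact h0 hwO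
        exact ⟨Units.mk0 c hc, Finset.mem_univ _, rfl⟩
      · rintro ⟨c, -, rfl⟩
        exact ⟨hO c c.ne_zero v hv,
          Submodule.smul_mem _ _ (Submodule.mem_span_singleton_self v)⟩
    rw [h5, Finset.card_image_of_injective, Finset.card_univ, ZMod.card_units,
      Nat.cast_sub hp1, Nat.cast_one]
    intro c d hcd
    exact Units.ext (smul_left_injective (ZMod p) hv0 hcd)
  have h1' : ∑ f ∈ (Finset.univ : Finset (Dual (ZMod p) V)).erase 0,
      ((Finset.filter (fun v => f v = 0) O).card : ℤ) ^ 2 =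
      ∑ x ∈ O ×ˢ O, ((Finset.bipartiteBelow
      (fun (f : Dual (ZMod p) V) (x : V × V) => f x.1 = 0 ∧ f x.2 = 0)
      ((Finset.univ : Finset (Dual (ZMod p) V)).erase 0) x).card : ℤ) := by
    exact_mod_cast h1
  rw [h1', Finset.sum_product]
  have h5 : ∀ v ∈ O, ∑ w ∈ O, ((Finset.bipartiteBelow
      (fun (f : Dual (ZMod p) V) (x : V × V) => f x.1 = 0 ∧ f x.2 = 0)
      ((Finset.univ : Finset (Dual (ZMod p) V)).erase 0) (v, w)).card : ℤ) =
      ((p : ℤ) - 1) * ((p : ℤ) ^ (finrank (ZMod p) V - 1) - 1) +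
        ((O.card : ℤ) - p + 1) * ((p : ℤ) ^ (finrank (ZMod p) V - 2) - 1) := by
    intro v hv
    rw [Finset.sum_congr rfl (h3 v hv), Finset.sum_ite, Finset.sum_const, Finset.sum_const,
      nsmul_eq_mul, nsmul_eq_mul, h4 v hv]
    have h6 : ((O.filter (fun w => ¬ w ∈ Submodule.span (ZMod p) {v})).card : ℤ) =
        (O.card : ℤ) - p + 1 := by
      have h7 := Finset.card_filter_add_card_filter_not (s := O)
        (fun w => w ∈ Submodule.span (ZMod p) {v})
      have h8 := h4 v hv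
      have h9 : ((O.filter (fun w => w ∈ Submodule.span (ZMod p) {v})).card : ℤ) +
        ((O.filter (fun w => ¬ w ∈ Submodule.span (ZMod p) {v})).card : ℤ) = O.card := by
        exact_mod_cast h7
      linarith
    rw [h6]
  rw [Finset.sum_congr rfl h5, Finset.sum_const, nsmul_eq_mul]

omit [Finite V] in
/-- **Two-intersection sets** with orbit lengths prime to `p`. -/
theorem comb (hp3 : 3 ≤ p) (hn : 2 ≤ finrank (ZMod p) V) (O₁ O₂ : Finset V)
    (A B : Finset (Dual (ZMod p) V)) (hO : O₁ ∪ O₂ = Finset.univ.erase 0) (hdO : Disjoint O₁ O₂)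
    (hA : A ∪ B = Finset.univ.erase 0) (hdA : Disjoint A B)
    (sO₁ : ∀ c : ZMod p, c ≠ 0 → ∀ v ∈ O₁, c • v ∈ O₁)
    (sA : ∀ c : ZMod p, c ≠ 0 → ∀ v ∈ A, c • v ∈ A)
    (hO₁ : O₁.Nonempty) (hO₂ : O₂.Nonempty) (hA₁ : A.Nonempty) (hB₁ : B.Nonempty)
    (x₁ x₂ u₁ u₂ : ℕ) (hx₁ : ∀ f ∈ A, (O₁.filter (fun v => f v = 0)).card = x₁)
    (hx₂ : ∀ f ∈ B, (O₁.filter (fun v => f v = 0)).card = x₂)
    (hu₁ : ∀ v ∈ O₁, (A.filter (fun f => f v = 0)).card = u₁)
    (hu₂ : ∀ v ∈ O₂, (A.filter (fun f => f v = 0)).card = u₂)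
    (pO₁ : ¬ p ∣ O₁.card) (pO₂ : ¬ p ∣ O₂.card) (pA : ¬ p ∣ A.card) (pB : ¬ p ∣ B.card) :
    ∃ (m : ℕ) (ε : ℤ), (ε = 1 ∨ ε = -1) ∧ finrank (ZMod p) V = 2 * m ∧
      ((p : ℤ) ^ m - ε) ∣ (O₁.card : ℤ) ∧ ((p : ℤ) ^ m - ε) ∣ (O₂.card : ℤ) := by
  classical
  have hp1 : 1 ≤ p := hp.out.one_lt.le
  have h0O : (0 : V) ∉ O₁ := by
    intro h
    have : (0 : V) ∈ O₁ ∪ O₂ := Finset.mem_union_left _ h
    rw [hO] at this
    exact (Finset.mem_erase.1 this).1 rfl
  have h0A : (0 : Dual (ZMod p) V) ∉ A := by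
    intro h
    have : (0 : Dual (ZMod p) V) ∈ A ∪ B := Finset.mem_union_left _ h
    rw [hA] at this
    exact (Finset.mem_erase.1 this).1 rfl
  have hVc : Fintype.card V = p ^ finrank (ZMod p) V := by
    have h1 := Module.natCard_eq_pow_finrank (K := ZMod p) (V := V)
    rwa [Nat.card_zmod, Nat.card_eq_fintype_card] at h1
  have hDc : Fintype.card (Dual (ZMod p) V) = p ^ finrank (ZMod p) V := by
    have h1 := Module.natCard_eq_pow_finrank (K := ZMod p) (V := Dual (ZMod p) V)
    rwa [Nat.card_zmod, Nat.card_eq_fintype_card, Subspace.dual_finrank_eq] at h1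
  have hab : O₁.card + O₂.card = p ^ finrank (ZMod p) V - 1 := by
    rw [← Finset.card_union_of_disjoint hdO, hO, Finset.card_erase_of_mem (Finset.mem_univ _),
      Finset.card_univ, hVc]
  have hAB : A.card + B.card = p ^ finrank (ZMod p) V - 1 := by
    rw [← Finset.card_union_of_disjoint hdA, hA, Finset.card_erase_of_mem (Finset.mem_univ _),
      Finset.card_univ, hDc]
  set n := finrank (ZMod p) V with hn'
  have hpn : 1 ≤ p ^ n := Nat.one_le_pow _ _ hp1
  have hpn1 : 1 ≤ p ^ (n - 1) := Nat.one_le_pow _ _ hp1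
  -- the equations
  have e1 : A.card * x₁ + B.card * x₂ = O₁.card * (p ^ (n - 1) - 1) := by
    rw [← sum_one (p := p) O₁ h0O, ← hA, Finset.sum_union hdA, Finset.sum_congr rfl hx₁,
      Finset.sum_congr rfl hx₂, Finset.sum_const, Finset.sum_const, smul_eq_mul, smul_eq_mul]
  have e2 : (A.card : ℤ) * (x₁ : ℤ) ^ 2 + (B.card : ℤ) * (x₂ : ℤ) ^ 2 =
      (O₁.card : ℤ) * (((p : ℤ) - 1) * ((p : ℤ) ^ (n - 1) - 1) +
        ((O₁.card : ℤ) - p + 1) * ((p : ℤ) ^ (n - 2) - 1)) := by
    rw [← sum_two (p := p) O₁ h0O sO₁, ← hA, Finset.sum_union hdA,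
      Finset.sum_congr rfl (g := fun _ => (x₁ : ℤ) ^ 2) (fun f hf => by rw [hx₁ f hf]),
      Finset.sum_congr (s₁ := B) rfl (g := fun _ => (x₂ : ℤ) ^ 2) (fun f hf => by rw [hx₂ f hf]),
      Finset.sum_const, Finset.sum_const, nsmul_eq_mul, nsmul_eq_mul]
  have e3 : O₁.card * u₁ = A.card * x₁ := by
    have h1 := Finset.sum_card_bipartiteAbove_eq_sum_card_bipartiteBelow
      (s := A) (t := O₁) (fun (f : Dual (ZMod p) V) (v : V) => f v = 0)
    have a1 := Finset.sum_const_nat (s := A) (m := x₁) (f := fun f => (Finset.bipartiteAbove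
      (fun (f : Dual (ZMod p) V) (v : V) => f v = 0) O₁ f).card) (fun f hf => hx₁ f hf)
    have a2 := Finset.sum_const_nat (s := O₁) (m := u₁) (f := fun v => (Finset.bipartiteBelow
      (fun (f : Dual (ZMod p) V) (v : V) => f v = 0) A v).card) (fun f hf => hu₁ f hf)
    rw [← a1, ← a2, h1]
  have e4 : O₁.card * u₁ + O₂.card * u₂ = A.card * (p ^ (n - 1) - 1) := by
    have h1 := Finset.sum_card_bipartiteAbove_eq_sum_card_bipartiteBelow
      (s := A) (t := O₁ ∪ O₂) (fun (f : Dual (ZMod p) V) (v : V) => f v = 0)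
    have a1 := Finset.sum_const_nat (s := O₁) (m := u₁) (f := fun v => (Finset.bipartiteBelow
      (fun (f : Dual (ZMod p) V) (v : V) => f v = 0) A v).card) (fun f hf => hu₁ f hf)
    have a2 := Finset.sum_const_nat (s := O₂) (m := u₂) (f := fun v => (Finset.bipartiteBelow
      (fun (f : Dual (ZMod p) V) (v : V) => f v = 0) A v).card) (fun f hf => hu₂ f hf)
    rw [← a1, ← a2, ← Finset.sum_union hdO, ← h1]
    refine Finset.sum_const_nat ?_
    intro f hf
    have hf0 : f ≠ 0 := by rintro rfl; exact h0A hf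
    rw [hO, ← ncard_ker (p := p) hf0]
    have h3 : Finset.bipartiteAbove (fun (f : Dual (ZMod p) V) (v : V) => f v = 0)
        (Finset.univ.erase 0) f = (Finset.univ.filter (fun v : V => f v = 0)).erase 0 := by
      ext v
      simp [Finset.bipartiteAbove]
    rw [h3, Finset.card_erase_of_mem (by simp), Set.ncard_eq_toFinset_card']
    congr 2
    ext f
    simp
  have hfA : ∀ (f : Dual (ZMod p) V), (p - 1) ∣ (O₁.filter (fun v => f v = 0)).card := by
    intro f
    refine dvd_cone (p := p) _ (fun h => h0O (Finset.mem_filter.1 h).1) ?_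
    intro c hc v hv
    rw [Finset.mem_filter] at hv ⊢
    exact ⟨sO₁ c hc v hv.1, by rw [map_smul, hv.2, smul_zero]⟩
  have hfO : ∀ v : V, (p - 1) ∣ (A.filter (fun f => f v = 0)).card := by
    intro v
    refine dvd_cone (p := p) _ (fun h => h0A (Finset.mem_filter.1 h).1) ?_
    intro c hc f hf
    rw [Finset.mem_filter] at hf ⊢
    exact ⟨sA c hc f hf.1, by rw [LinearMap.smul_apply, hf.2, smul_zero]⟩
  obtain ⟨fA, hfA1⟩ := hA₁
  obtain ⟨fB, hfB1⟩ := hB₁
  obtain ⟨w₁, hw₁⟩ := hO₁
  obtain ⟨w₂, hw₂⟩ := hO₂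
  have cp : (((p - 1 : ℕ) : ℤ)) = (p : ℤ) - 1 := by rw [Nat.cast_sub hp1, Nat.cast_one]
  have d1 := hfA fA
  have d2 := hfA fB
  have d3 := hfO w₁
  have d4 := hfO w₂
  have d5 := dvd_cone (p := p) O₁ h0O sO₁
  rw [hx₁ fA hfA1] at d1
  rw [hx₂ fB hfB1] at d2
  rw [hu₁ w₁ hw₁] at d3
  rw [hu₂ w₂ hw₂] at d4
  have key := ThreeWeight.arith (p := p) (n := n) hp.out hp3 hn (a := O₁.card) (b := O₂.card)
    (A := A.card) (B := B.card) (x1 := x₁) (x2 := x₂) (u1 := u₁) (u2 := u₂)
    (by exact_mod_cast Finset.card_pos.2 ⟨w₁, hw₁⟩) (by exact_mod_cast Finset.card_pos.2 ⟨w₂, hw₂⟩)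
    (by exact_mod_cast Finset.card_pos.2 ⟨fA, hfA1⟩) (by exact_mod_cast Finset.card_pos.2 ⟨fB, hfB1⟩)
    (by
      have h1 : ((O₁.card + O₂.card : ℕ) : ℤ) = ((p ^ n - 1 : ℕ) : ℤ) := by rw [hab]
      rw [Nat.cast_sub hpn] at h1
      push_cast at h1
      exact h1)
    (by
      have h1 : ((A.card + B.card : ℕ) : ℤ) = ((p ^ n - 1 : ℕ) : ℤ) := by rw [hAB]
      rw [Nat.cast_sub hpn] at h1
      push_cast at h1
      exact h1)
    (by
      have h1 : ((A.card * x₁ + B.card * x₂ : ℕ) : ℤ) = ((O₁.card * (p ^ (n - 1) - 1) : ℕ) : ℤ) := by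
        rw [e1]
      rw [Nat.cast_mul, Nat.cast_sub hpn1] at h1
      push_cast at h1
      exact h1)
    e2
    (by exact_mod_cast e3)
    (by
      have h1 : ((O₁.card * u₁ + O₂.card * u₂ : ℕ) : ℤ) = ((A.card * (p ^ (n - 1) - 1) : ℕ) : ℤ) := by
        rw [e4]
      rw [Nat.cast_mul (A.card), Nat.cast_sub hpn1] at h1
      push_cast at h1
      exact h1)
    (by rw [← cp]; exact_mod_cast d5) (by rw [← cp]; exact_mod_cast d1)
    (by rw [← cp]; exact_mod_cast d2) (by rw [← cp]; exact_mod_cast d3)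
    (by rw [← cp]; exact_mod_cast d4)
    (fun h => pO₁ (by exact_mod_cast h)) (fun h => pO₂ (by exact_mod_cast h))
    (fun h => pA (by exact_mod_cast h)) (fun h => pB (by exact_mod_cast h))
  exact key

end double

end Cfsg.Agent.H697.ThreeCount
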