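import Cfsg.Agent.H697.TwoDimOrd

/-!
# Transitive `p'`-subgroups of `GL₂(p)` have at least `p` classes, or `p = 11` and the order is 120
-/

set_option autoImplicit false
set_option linter.unreachableTactic false
set_option linter.unusedTactic false
set_option linter.unusedVariables false

namespace Cfsg.Agent.H697.TwoDim

open Matrix MulAction Cfsg.Agent.H275.TwoFix Cfsg.Agent.H275.GLTwoFix
open scoped OnePoint

variable {p : ℕ} [hp : Fact p.Prime]

theorem finite_range (L : Subgroup (GL (Fin 2) (ZMod p))) : Finite (pr L).range :=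
  Set.finite_range (pr L)

theorem exists_of_dvd (L : Subgroup (GL (Fin 2) (ZMod p))) {q : ℕ} (hq : q.Prime)
    (h : q ∣ Nat.card (pr L).range) : ∃ g : L, orderOf (pr L g) = q := by
  have : Fact q.Prime := ⟨hq⟩
  have := finite_range L
  obtain ⟨⟨_, g, rfl⟩, hy⟩ := exists_prime_orderOf_dvd_card' q h
  refine ⟨g, ?_⟩
  rw [← hy, ← Subgroup.orderOf_coe]

theorem two_points (hp5 : 5 ≤ p) (L : Subgroup (GL (Fin 2) (ZMod p)))
    (hdvd : p ^ 2 - 1 ∣ Nat.card L) {a b : OnePoint (KK p)} (hab : a ≠ b)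
    (h : ∀ g : (pr L).range, (g • a = a ∧ g • b = b) ∨ (g • a = b ∧ g • b = a)) :
    p ≤ Nat.card (ConjClasses L) := by
  classical
  let A : Subgroup L := (stabilizer (pr L).range a).comap (pr L).rangeRestrict
  have hA : ∀ g ∈ A, bc p (g : GL (Fin 2) (ZMod p)) • a = a ∧
      bc p (g : GL (Fin 2) (ZMod p)) • b = b := by
    intro g hg
    have h1 : (pr L).rangeRestrict g • a = a := hg
    rcases h ((pr L).rangeRestrict g) with h2 | h2
    · exact h2
    · exact absurd (h1.symm.trans h2.1) hab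
  have hcomm : ∀ g ∈ A, ∀ g' ∈ A, g * g' = g' * g := by
    intro g hg g' hg'
    obtain ⟨h1, h2⟩ := hA g hg
    obtain ⟨h3, h4⟩ := hA g' hg'
    have h5 := commute_of_two _ _ hab h1 h2 h3 h4
    rw [← map_mul, ← map_mul] at h5
    exact Subtype.ext (bc_injective h5)
  have hidx : A.index ≤ 2 := by
    rw [Subgroup.index_comap_of_surjective _ (pr L).rangeRestrict_surjective,
      MulAction.index_stabilizer]
    have hsub : orbit (pr L).range a ⊆ {a, b} := by
      rintro _ ⟨g, rfl⟩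
      rcases h g with h2 | h2
      · left; exact h2.1
      · right; exact h2.1
    refine (Set.ncard_le_ncard hsub (Set.toFinite _)).trans ?_
    refine (Set.ncard_insert_le a {b}).trans ?_
    rw [Set.ncard_singleton]
  have h1 := ClassCount.card_le_mul_index A hcomm
  have h2 := A.card_mul_index
  have h3 : p ^ 2 - 1 ≤ Nat.card L := Nat.le_of_dvd Nat.card_pos hdvd
  have h4 : Nat.card A * A.index ≤ (A.index * Nat.card (ConjClasses L)) * A.index :=
    Nat.mul_le_mul h1 le_rfl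
  have h5 : (A.index * Nat.card (ConjClasses L)) * A.index ≤ 4 * Nat.card (ConjClasses L) := by
    have h6 : A.index * A.index ≤ 4 := Nat.mul_le_mul hidx hidx
    calc (A.index * Nat.card (ConjClasses L)) * A.index
        = (A.index * A.index) * Nat.card (ConjClasses L) := by ring
      _ ≤ 4 * Nat.card (ConjClasses L) := Nat.mul_le_mul h6 le_rfl
  by_contra hcon
  push Not at hcon
  have h6 : p ^ 2 ≤ 4 * Nat.card (ConjClasses L) + 1 := by omega
  have h7 : p ^ 2 = p * p := sq p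
  have h8 : 5 * p ≤ p * p := Nat.mul_le_mul hp5 le_rfl
  omega

/-- In a regular linear group `-1` is a scalar of the group. -/
theorem two_le_ker (hp5 : 5 ≤ p) (L : Subgroup (GL (Fin 2) (ZMod p)))
    (htr : ∀ v w : Fin 2 → ZMod p, v ≠ 0 → w ≠ 0 →
      ∃ g ∈ L, (g : Matrix (Fin 2) (Fin 2) (ZMod p)) *ᵥ v = w)
    (hcard : Nat.card L = p ^ 2 - 1) : 2 ≤ Nat.card (pr L).ker := by
  classical
  have hinj : ∀ v : Fin 2 → ZMod p, v ≠ 0 → ∀ g : L,
      ((g : GL (Fin 2) (ZMod p)) : Matrix (Fin 2) (Fin 2) (ZMod p)) *ᵥ v = v → g = 1 := by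
    intro v hv
    have hne : ∀ g : L, ((g : GL (Fin 2) (ZMod p)) : Matrix (Fin 2) (Fin 2) (ZMod p)) *ᵥ v ≠ 0 := by
      intro g h0
      apply hv
      have h1 : (((g⁻¹ : L) : GL (Fin 2) (ZMod p)) : Matrix (Fin 2) (Fin 2) (ZMod p)) *ᵥ
          (((g : GL (Fin 2) (ZMod p)) : Matrix (Fin 2) (Fin 2) (ZMod p)) *ᵥ v) = v := by
        rw [Matrix.mulVec_mulVec, ← Units.val_mul, ← Subgroup.coe_mul, inv_mul_cancel,
          Subgroup.coe_one, Units.val_one, Matrix.one_mulVec]
      rw [← h1, h0, Matrix.mulVec_zero]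
    let f : L → {w : Fin 2 → ZMod p // w ≠ 0} := fun g =>
      ⟨((g : GL (Fin 2) (ZMod p)) : Matrix (Fin 2) (Fin 2) (ZMod p)) *ᵥ v, hne g⟩
    have hsurj : Function.Surjective f := by
      rintro ⟨w, hw⟩
      obtain ⟨g, hg, hgw⟩ := htr v w hv hw
      exact ⟨⟨g, hg⟩, Subtype.ext hgw⟩
    have hc : Nat.card L = Nat.card {w : Fin 2 → ZMod p // w ≠ 0} := by
      rw [hcard]
      have h1 : Nat.card {w : Fin 2 → ZMod p // w ≠ 0} = ({0} : Set (Fin 2 → ZMod p))ᶜ.ncard := by
        rw [← Nat.card_coe_set_eq]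
        rfl
      rw [h1, Set.ncard_compl, Set.ncard_singleton, Nat.card_fun, Nat.card_zmod, Nat.card_fin]
    have hbij : Function.Bijective f := by
      have := Fintype.ofFinite L
      have := Fintype.ofFinite {w : Fin 2 → ZMod p // w ≠ 0}
      rw [Fintype.bijective_iff_surjective_and_card]
      refine ⟨hsurj, ?_⟩
      rw [← Nat.card_eq_fintype_card, ← Nat.card_eq_fintype_card]
      exact hc
    intro g hg
    apply hbij.1
    apply Subtype.ext
    show ((g : GL (Fin 2) (ZMod p)) : Matrix (Fin 2) (Fin 2) (ZMod p)) *ᵥ v =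
      (((1 : L) : GL (Fin 2) (ZMod p)) : Matrix (Fin 2) (Fin 2) (ZMod p)) *ᵥ v
    rw [hg, Subgroup.coe_one, Units.val_one, Matrix.one_mulVec]
  have h2 : (2 : ZMod p) ≠ 0 := by
    have : ((2 : ℕ) : ZMod p) ≠ 0 := by
      rw [ne_eq, ZMod.natCast_eq_zero_iff]
      intro hc
      have := Nat.le_of_dvd (by norm_num) hc
      omega
    exact_mod_cast this
  let e : Fin 2 → ZMod p := ![1, 0]
  have he : e ≠ 0 := by
    intro h
    have := congrFun h 0
    simp [e] at this
  obtain ⟨g, hg, hge⟩ := htr e (-e) he (neg_ne_zero.2 he)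
  have hg1 : (⟨g, hg⟩ : L) ≠ 1 := by
    intro h1
    have h3 : g = 1 := congrArg Subtype.val h1
    rw [h3, Units.val_one, Matrix.one_mulVec] at hge
    have := congrFun hge 0
    simp [e] at this
    apply h2
    linear_combination this
  have hsq : (⟨g, hg⟩ : L) * ⟨g, hg⟩ = 1 := by
    apply hinj e he
    show ((g * g : GL (Fin 2) (ZMod p)) : Matrix (Fin 2) (Fin 2) (ZMod p)) *ᵥ e = e
    rw [Units.val_mul, ← Matrix.mulVec_mulVec, hge, Matrix.mulVec_neg, hge, neg_neg]
  have hneg : ∀ w : Fin 2 → ZMod p, (g : Matrix (Fin 2) (Fin 2) (ZMod p)) *ᵥ w = - w := by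
    intro w
    by_contra hne
    apply hg1
    apply hinj ((g : Matrix (Fin 2) (Fin 2) (ZMod p)) *ᵥ w + w)
    · intro h0
      exact hne (eq_neg_of_add_eq_zero_left h0)
    · show (g : Matrix (Fin 2) (Fin 2) (ZMod p)) *ᵥ _ = _
      rw [Matrix.mulVec_add, Matrix.mulVec_mulVec, ← Units.val_mul]
      have h3 : g * g = 1 := congrArg Subtype.val hsq
      rw [h3, Units.val_one, Matrix.one_mulVec, add_comm]
  have hker : (⟨g, hg⟩ : L) ∈ (pr L).ker := by
    rw [mem_ker]
    have h3 := hneg ![1, 0]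
    have h4 := hneg ![0, 1]
    have e1 := congrFun h3 0
    have e2 := congrFun h3 1
    have e3 := congrFun h4 0
    have e4 := congrFun h4 1
    simp [Matrix.mulVec_fin_two] at e1 e2 e3 e4
    exact ⟨e2, e3, e1.trans e4.symm⟩
  have : Nontrivial (pr L).ker := ⟨⟨⟨⟨g, hg⟩, hker⟩, 1, fun h => hg1 (congrArg Subtype.val h)⟩⟩
  exact Finite.one_lt_card

theorem arith_aux {z N : ℕ} (hp5 : 5 ≤ p) (hz : z ∣ p - 1) (hz0 : 0 < z)
    (h : p ^ 2 - 1 ∣ N * z) : ∃ m, z * m = p - 1 ∧ m * (p + 1) ∣ N := by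
  obtain ⟨m, hm⟩ := hz
  refine ⟨m, hm.symm, ?_⟩
  have h1 : p ^ 2 - 1 = m * (p + 1) * z := by
    have h2 : p ^ 2 - 1 = (p + 1) * (p - 1) := by
      have := Nat.sq_sub_sq p 1
      simpa using this
    rw [h2, hm]; ring
  rw [h1] at h
  exact Nat.dvd_of_mul_dvd_mul_right hz0 h

omit hp in
theorem case12 {z m c1 c2 c3 k : ℕ} (hp : p.Prime) (hp5 : 5 ≤ p) (hm : z * m = p - 1)
    (h : m * (p + 1) ∣ 12) (h1 : z ≤ c1) (h2 : z ≤ 2 * c2) (h3 : z ≤ c3)
    (hk : c1 + c2 + c3 ≤ k) : p ≤ k := by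
  have hm0 : 0 < m := Nat.pos_of_ne_zero (by rintro rfl; omega)
  have hle := Nat.le_of_dvd (by norm_num) h
  have hm2 : m < 3 := by
    by_contra hc
    push Not at hc
    have : 3 * 6 ≤ m * (p + 1) := Nat.mul_le_mul hc (by omega)
    omega
  have hp12 : p ≤ 11 := by
    have : 1 * (p + 1) ≤ m * (p + 1) := Nat.mul_le_mul hm0 le_rfl
    omega
  interval_cases m
  · interval_cases p <;> first | omega | (exfalso; revert h; decide) | (exfalso; revert hp; decide)
  · interval_cases p <;> first | omega | (exfalso; revert h; decide) | (exfalso; revert hp; decide)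

omit hp in
theorem case24 {z m c1 c2 c3 c4 k : ℕ} (hp : p.Prime) (hp5 : 5 ≤ p) (hm : z * m = p - 1)
    (h : m * (p + 1) ∣ 24) (h1 : z ≤ c1) (h2 : z ≤ 2 * c2) (h3 : z ≤ c3) (h4 : z ≤ c4)
    (hz : 24 * z = p ^ 2 - 1 → 2 ≤ z)
    (hk : c1 + c2 + c3 + c4 ≤ k) : p ≤ k := by
  have hm0 : 0 < m := Nat.pos_of_ne_zero (by rintro rfl; omega)
  have hle := Nat.le_of_dvd (by norm_num) h
  have hm2 : m < 5 := by
    by_contra hc
    push Not at hc
    have : 5 * 6 ≤ m * (p + 1) := Nat.mul_le_mul hc (by omega)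
    omega
  have hp12 : p ≤ 23 := by
    have : 1 * (p + 1) ≤ m * (p + 1) := Nat.mul_le_mul hm0 le_rfl
    omega
  interval_cases m
  · interval_cases p <;> first | omega | (exfalso; revert h; decide) | (exfalso; revert hp; decide)
  · interval_cases p <;> first | omega | (exfalso; revert h; decide) | (exfalso; revert hp; decide)
  · interval_cases p <;> first | omega | (exfalso; revert h; decide) | (exfalso; revert hp; decide)
  · interval_cases p <;> first | omega | (exfalso; revert h; decide) | (exfalso; revert hp; decide) |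
      (have := hz (by omega); omega)

omit hp in
theorem case60 {z m c1 c2 c3 c4 k : ℕ} (hp : p.Prime) (hp5 : 5 ≤ p) (hm : z * m = p - 1)
    (h : m * (p + 1) ∣ 60) (h1 : z ≤ c1) (h2 : z ≤ 2 * c2) (h3 : z ≤ c3) (h4 : z ≤ c4)
    (hpz : ¬ p ∣ 60)
    (hk : c1 + c2 + c3 + c4 ≤ k) : p ≤ k ∨ (p = 11 ∧ z = 2) := by
  have hm0 : 0 < m := Nat.pos_of_ne_zero (by rintro rfl; omega)
  have hle := Nat.le_of_dvd (by norm_num) h
  have hp7 : 7 ≤ p := by
    by_contra hc
    push Not at hc
    interval_cases p <;> first | (exfalso; revert hpz; decide) | (exfalso; revert hp; decide)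
  have hm2 : m < 8 := by
    by_contra hc
    push Not at hc
    have : 8 * 8 ≤ m * (p + 1) := Nat.mul_le_mul hc (by omega)
    omega
  have hp12 : p ≤ 59 := by
    have : 1 * (p + 1) ≤ m * (p + 1) := Nat.mul_le_mul hm0 le_rfl
    omega
  have hcases : p + 1 ∣ 60 := (Dvd.intro_left m rfl).trans h
  have hpc : p = 11 ∨ p = 19 ∨ p = 29 ∨ p = 59 := by
    clear hm h hle hm2 hk
    interval_cases p <;> first | omega | (exfalso; revert hcases; decide) | (exfalso; revert hp; decide)
  rcases hpc with rfl | rfl | rfl | rfl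
  · interval_cases m <;> first | omega | (exfalso; revert h; decide)
  · interval_cases m <;> first | omega | (exfalso; revert h; decide)
  · interval_cases m <;> first | omega | (exfalso; revert h; decide)
  · interval_cases m <;> first | omega | (exfalso; revert h; decide)

/-- **The two-dimensional case.** -/
theorem main (hp5 : 5 ≤ p) (L : Subgroup (GL (Fin 2) (ZMod p))) (hL : ¬ p ∣ Nat.card L)
    (htr : ∀ v w : Fin 2 → ZMod p, v ≠ 0 → w ≠ 0 →
      ∃ g ∈ L, (g : Matrix (Fin 2) (Fin 2) (ZMod p)) *ᵥ v = w)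
    (hdvd : p ^ 2 - 1 ∣ Nat.card L) :
    p ≤ Nat.card (ConjClasses L) ∨ (p = 11 ∧ Nat.card L = 120 ∧ ¬ Group.IsSolvable L) := by
  classical
  have hp2 : p ≠ 2 := by omega
  have htf := twoFixed hp2 L hL
  have hker := card_ker_dvd L
  have hmul := card_mul L
  have hz0 : 0 < Nat.card (pr L).ker := Nat.card_pos
  set z := Nat.card (pr L).ker with hz
  have hone : orderOf (pr L 1) = 1 := by rw [map_one, orderOf_one]
  have c1 : z ≤ Nat.card (Cl L 1) := card_ker_le_of_ne_two hp2 L (by norm_num) 1 hone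
  rcases Tricho.tricho htf ⟨∞, ((0 : KK p) : OnePoint (KK p)), OnePoint.infty_ne_coe _⟩ with
    ⟨a, b, hab, h⟩ | hN | ⟨hN, x, hx⟩ | ⟨hN, x, hx⟩
  · exact Or.inl (two_points hp5 L hdvd hab h)
  · left
    obtain ⟨g2, hg2⟩ := exists_of_dvd L Nat.prime_two (by rw [hN]; norm_num)
    obtain ⟨g3, hg3⟩ := exists_of_dvd L Nat.prime_three (by rw [hN]; norm_num)
    have c2 := card_ker_le_two_mul L g2 hg2
    have c3 := card_ker_le_of_ne_two hp2 L (by norm_num) g3 hg3
    rw [hN] at hmul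
    rw [hmul] at hdvd
    obtain ⟨m, hm, hmd⟩ := arith_aux hp5 hker hz0 hdvd
    have hs := sum_Cl_le L {1, 2, 3}
    rw [Finset.sum_insert (by simp), Finset.sum_insert (by simp), Finset.sum_singleton] at hs
    exact case12 hp.out hp5 hm hmd c1 c2 c3 (by omega)
  · left
    obtain ⟨g2, hg2⟩ := exists_of_dvd L Nat.prime_two (by rw [hN]; norm_num)
    obtain ⟨g3, hg3⟩ := exists_of_dvd L Nat.prime_three (by rw [hN]; norm_num)
    obtain ⟨g4, hg4⟩ := exists_orderOf hp2 L hL x
    rw [hx] at hg4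
    have c2 := card_ker_le_two_mul L g2 hg2
    have c3 := card_ker_le_of_ne_two hp2 L (by norm_num) g3 hg3
    have c4 := card_ker_le_of_ne_two hp2 L (by norm_num) g4 hg4
    rw [hN] at hmul
    have hdvd' := hdvd
    rw [hmul] at hdvd'
    obtain ⟨m, hm, hmd⟩ := arith_aux hp5 hker hz0 hdvd'
    have hs := sum_Cl_le L {1, 2, 3, 4}
    rw [Finset.sum_insert (by simp), Finset.sum_insert (by simp), Finset.sum_insert (by simp),
      Finset.sum_singleton] at hs
    refine case24 hp.out hp5 hm hmd c1 c2 c3 c4 (fun h => ?_) (by omega)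
    exact two_le_ker hp5 L htr (by rw [hmul]; exact h)
  · obtain ⟨g2, hg2⟩ := exists_of_dvd L Nat.prime_two (by rw [hN]; norm_num)
    obtain ⟨g3, hg3⟩ := exists_of_dvd L Nat.prime_three (by rw [hN]; norm_num)
    obtain ⟨g4, hg4⟩ := exists_of_dvd L Nat.prime_five (by rw [hN]; norm_num)
    have c2 := card_ker_le_two_mul L g2 hg2
    have c3 := card_ker_le_of_ne_two hp2 L (by norm_num) g3 hg3
    have c4 := card_ker_le_of_ne_two hp2 L (by norm_num) g4 hg4
    rw [hN] at hmul
    have hdvd' := hdvd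
    rw [hmul] at hdvd'
    obtain ⟨m, hm, hmd⟩ := arith_aux hp5 hker hz0 hdvd'
    have hs := sum_Cl_le L {1, 2, 3, 5}
    rw [Finset.sum_insert (by simp), Finset.sum_insert (by simp), Finset.sum_insert (by simp),
      Finset.sum_singleton] at hs
    have hp60 : ¬ p ∣ 60 := fun h => hL (by rw [hmul]; exact h.mul_right _)
    rcases case60 hp.out hp5 hm hmd c1 c2 c3 c4 hp60 (by omega : _ ≤ Nat.card (ConjClasses L)) with
      h | ⟨h, hz2⟩
    · exact Or.inl h
    · right
      refine ⟨h, by rw [hmul, hz2], fun hs => ?_⟩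
      refine not_solvable_of_twoFixed htf hN x hx ?_
      exact Group.isSolvable_of_surjective (pr L).rangeRestrict_surjective

end Cfsg.Agent.H697.TwoDim
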