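import Cfsg.Agent.H697.ThreeDefs
import Cfsg.Agent.H697.TwoDimMain

/-!
# `p'`-subgroups of `GL₂(p)` of order at least `(p² - 1) / 2`
-/

set_option autoImplicit false
set_option linter.unreachableTactic false
set_option linter.unusedTactic false
set_option linter.unusedVariables false

universe u

namespace Cfsg.Agent.H697.Three

open Matrix MulAction Module Cfsg.Agent.H275.TwoFix Cfsg.Agent.H275.GLTwoFix
open Cfsg.Agent.H697.TwoDim
open scoped OnePoint

variable {p : ℕ} [hp : Fact p.Prime]

omit hp in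
theorem eq_eleven (hp : p.Prime) (h8 : 8 ≤ p) (h12 : p < 12) : p = 11 := by
  interval_cases p
  · exfalso; revert hp; decide
  · exfalso; revert hp; decide
  · exfalso; revert hp; decide
  · rfl

omit hp in
theorem eq_seventeen (hp : p.Prime) (h8 : 14 ≤ p) (h12 : p < 18) : p = 17 := by
  interval_cases p
  · exfalso; revert hp; decide
  · exfalso; revert hp; decide
  · exfalso; revert hp; decide
  · rfl

theorem two_points' (hp5 : 5 ≤ p) (L : Subgroup (GL (Fin 2) (ZMod p)))
    (hle : p ^ 2 - 1 ≤ 2 * Nat.card L) {a b : OnePoint (KK p)} (hab : a ≠ b)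
    (h : ∀ g : (pr L).range, (g • a = a ∧ g • b = b) ∨ (g • a = b ∧ g • b = a)) :
    p ≤ 2 * Nat.card (ConjClasses L) := by
  classical
  let A : Subgroup L := (stabilizer (pr L).range a).comap (pr L).rangeRestrict
  have hA : ∀ g ∈ A, bc p (g : GL (Fin 2) (ZMod p)) • a = a ∧
      bc p (g : GL (Fin 2) (ZMod p)) • b = b := by
    intro g hg
    have h1 : (pr L).rangeRestrict g • a = a := hg
    rcases h ((pr L).rangeRestrict g) with h2 | h2
    · exact h2
    · exact absurd (h1.symm.trans h2.1) hab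
  have hcomm : ∀ g ∈ A, ∀ g' ∈ A, g * g' = g' * g := by
    intro g hg g' hg'
    obtain ⟨h1, h2⟩ := hA g hg
    obtain ⟨h3, h4⟩ := hA g' hg'
    have h5 := commute_of_two _ _ hab h1 h2 h3 h4
    rw [← map_mul, ← map_mul] at h5
    exact Subtype.ext (bc_injective h5)
  have hidx : A.index ≤ 2 := by
    rw [Subgroup.index_comap_of_surjective _ (pr L).rangeRestrict_surjective,
      MulAction.index_stabilizer]
    have hsub : orbit (pr L).range a ⊆ {a, b} := by
      rintro _ ⟨g, rfl⟩
      rcases h g with h2 | h2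
      · left; exact h2.1
      · right; exact h2.1
    refine (Set.ncard_le_ncard hsub (Set.toFinite _)).trans ?_
    refine (Set.ncard_insert_le a {b}).trans ?_
    rw [Set.ncard_singleton]
  have h1 := ClassCount.card_le_mul_index A hcomm
  have h2 := A.card_mul_index
  have h4 : Nat.card A * A.index ≤ (A.index * Nat.card (ConjClasses L)) * A.index :=
    Nat.mul_le_mul h1 le_rfl
  have h5 : (A.index * Nat.card (ConjClasses L)) * A.index ≤ 4 * Nat.card (ConjClasses L) := by
    have h6 : A.index * A.index ≤ 4 := Nat.mul_le_mul hidx hidx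
    calc (A.index * Nat.card (ConjClasses L)) * A.index
        = (A.index * A.index) * Nat.card (ConjClasses L) := by ring
      _ ≤ 4 * Nat.card (ConjClasses L) := Nat.mul_le_mul h6 le_rfl
  by_contra hcon
  push Not at hcon
  have h6 : p ^ 2 ≤ 8 * Nat.card (ConjClasses L) + 1 := by omega
  have h7 : p ^ 2 = p * p := sq p
  have h8 : 5 * p ≤ p * p := Nat.mul_le_mul hp5 le_rfl
  omega

/-- If no nontrivial element fixes a nonzero vector and the order is even, `-1` is a scalar of the
group. -/
theorem two_le_ker' (hp5 : 5 ≤ p) (L : Subgroup (GL (Fin 2) (ZMod p)))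
    (hreg : ∀ v : Fin 2 → ZMod p, v ≠ 0 → ∀ g ∈ L,
      (g : Matrix (Fin 2) (Fin 2) (ZMod p)) *ᵥ v = v → g = 1)
    (hcard : 2 ∣ Nat.card L) : 2 ≤ Nat.card (pr L).ker := by
  classical
  have : Fact (Nat.Prime 2) := ⟨Nat.prime_two⟩
  obtain ⟨g, hg⟩ := exists_prime_orderOf_dvd_card' (G := L) 2 hcard
  have hg1 : g ≠ 1 := by
    rintro rfl
    rw [orderOf_one] at hg
    omega
  have hg2 : (g : GL (Fin 2) (ZMod p)) * g = 1 := by
    have h1 : g ^ 2 = 1 := by
      have h0 := pow_orderOf_eq_one g
      rwa [hg] at h0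
    have h2 := congrArg Subtype.val h1
    rw [sq] at h2
    exact h2
  have hneg : ∀ v : Fin 2 → ZMod p,
      ((g : GL (Fin 2) (ZMod p)) : Matrix (Fin 2) (Fin 2) (ZMod p)) *ᵥ v = -v := by
    intro v
    by_contra hne
    set w := ((g : GL (Fin 2) (ZMod p)) : Matrix (Fin 2) (Fin 2) (ZMod p)) *ᵥ v + v with hw
    have hw0 : w ≠ 0 := fun h => hne (eq_neg_of_add_eq_zero_left h)
    have h1 : ((g : GL (Fin 2) (ZMod p)) : Matrix (Fin 2) (Fin 2) (ZMod p)) *ᵥ w = w := by
      rw [hw, Matrix.mulVec_add, Matrix.mulVec_mulVec, ← Units.val_mul, hg2, Units.val_one,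
        Matrix.one_mulVec, add_comm]
    exact hg1 (Subtype.ext (hreg w hw0 g g.2 h1))
  have hmat : ((g : GL (Fin 2) (ZMod p)) : Matrix (Fin 2) (Fin 2) (ZMod p)) = -1 := by
    apply Matrix.ext_of_mulVec_single
    intro i
    rw [hneg, Matrix.neg_mulVec, Matrix.one_mulVec]
  have hgk : g ∈ (pr L).ker := by
    rw [mem_ker]
    refine ⟨?_, ?_, ?_⟩ <;> simp [hmat]
  have hnt : Nontrivial (pr L).ker := ⟨⟨g, hgk⟩, 1, fun h => hg1 (congrArg Subtype.val h)⟩
  exact Finite.one_lt_card_iff_nontrivial.2 hnt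

/-- **Dimension two.** -/
theorem dim_two (hp5 : 5 ≤ p) (L : Subgroup (GL (Fin 2) (ZMod p))) (hL : ¬ p ∣ Nat.card L)
    (hle : p ^ 2 - 1 ≤ 2 * Nat.card L)
    (hreg : 2 * Nat.card L = p ^ 2 - 1 → ∀ v : Fin 2 → ZMod p, v ≠ 0 → ∀ g ∈ L,
      (g : Matrix (Fin 2) (Fin 2) (ZMod p)) *ᵥ v = v → g = 1) :
    p ≤ 2 * Nat.card (ConjClasses L) := by
  classical
  have hp2 : p ≠ 2 := by omega
  have htf := twoFixed hp2 L hL
  have hmul := card_mul L
  have hz0 : 0 < Nat.card (pr L).ker := Nat.card_pos
  set z := Nat.card (pr L).ker with hz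
  have hone : orderOf (pr L 1) = 1 := by rw [map_one, orderOf_one]
  have c1 : z ≤ Nat.card (Cl L 1) := card_ker_le_of_ne_two hp2 L (by norm_num) 1 hone
  have hpp : p ^ 2 = p * p := sq p
  rcases Tricho.tricho htf ⟨∞, ((0 : KK p) : OnePoint (KK p)), OnePoint.infty_ne_coe _⟩ with
    ⟨a, b, hab, h⟩ | hN | ⟨hN, x, hx⟩ | ⟨hN, x, hx⟩
  · exact two_points' hp5 L hle hab h
  · obtain ⟨g2, hg2⟩ := exists_of_dvd L Nat.prime_two (by rw [hN]; norm_num)
    obtain ⟨g3, hg3⟩ := exists_of_dvd L Nat.prime_three (by rw [hN]; norm_num)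
    have c2 := card_ker_le_two_mul L g2 hg2
    have c3 := card_ker_le_of_ne_two hp2 L (by norm_num) g3 hg3
    rw [hN] at hmul
    rw [hmul] at hle
    have hs := sum_Cl_le L {1, 2, 3}
    rw [Finset.sum_insert (by simp), Finset.sum_insert (by simp), Finset.sum_singleton] at hs
    have h5 : 5 * p ≤ p * p := Nat.mul_le_mul hp5 le_rfl
    omega
  · obtain ⟨g2, hg2⟩ := exists_of_dvd L Nat.prime_two (by rw [hN]; norm_num)
    obtain ⟨g3, hg3⟩ := exists_of_dvd L Nat.prime_three (by rw [hN]; norm_num)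
    obtain ⟨g4, hg4⟩ := exists_orderOf hp2 L hL x
    rw [hx] at hg4
    have c2 := card_ker_le_two_mul L g2 hg2
    have c3 := card_ker_le_of_ne_two hp2 L (by norm_num) g3 hg3
    have c4 := card_ker_le_of_ne_two hp2 L (by norm_num) g4 hg4
    rw [hN] at hmul
    rw [hmul] at hle
    have hs := sum_Cl_le L {1, 2, 3, 4}
    rw [Finset.sum_insert (by simp), Finset.sum_insert (by simp), Finset.sum_insert (by simp),
      Finset.sum_singleton] at hs
    rcases Nat.lt_or_ge p 7 with h7 | h7
    · have : p ≤ 6 := by omega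
      omega
    · have h5 : 7 * p ≤ p * p := Nat.mul_le_mul h7 le_rfl
      omega
  · obtain ⟨g2, hg2⟩ := exists_of_dvd L Nat.prime_two (by rw [hN]; norm_num)
    obtain ⟨g3, hg3⟩ := exists_of_dvd L Nat.prime_three (by rw [hN]; norm_num)
    obtain ⟨g4, hg4⟩ := exists_of_dvd L Nat.prime_five (by rw [hN]; norm_num)
    have c2 := card_ker_le_two_mul L g2 hg2
    have c3 := card_ker_le_of_ne_two hp2 L (by norm_num) g3 hg3
    have c4 := card_ker_le_of_ne_two hp2 L (by norm_num) g4 hg4
    rw [hN] at hmul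
    have hs := sum_Cl_le L {1, 2, 3, 5}
    rw [Finset.sum_insert (by simp), Finset.sum_insert (by simp), Finset.sum_insert (by simp),
      Finset.sum_singleton] at hs
    rcases Nat.lt_or_ge p 18 with h18 | h18
    · by_cases hz1 : z = 1
      · rcases Nat.lt_or_ge p 8 with h8 | h8
        · omega
        · -- `p = 11`
          rw [hz1, mul_one] at hmul
          have h11 : p = 11 := by
            rw [hmul] at hle
            have hp12 : p < 12 := by
              by_contra hc
              push Not at hc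
              have : 12 * 12 ≤ p * p := Nat.mul_le_mul hc hc
              omega
            exact eq_eleven hp.out h8 hp12
          have h1 := two_le_ker' hp5 L (hreg (by rw [hmul, h11]; norm_num)) (by rw [hmul]; norm_num)
          omega
      · rcases Nat.lt_or_ge p 14 with h14 | h14
        · omega
        · have h17 := eq_seventeen hp.out h14 h18
          rw [hmul] at hle
          have : 17 * 17 ≤ p * p := by rw [h17]
          omega
    · have h5 : 18 * p ≤ p * p := Nat.mul_le_mul h18 le_rfl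
      rw [hmul] at hle
      omega

end Cfsg.Agent.H697.Three
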