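import Cfsg.Agent.H697.ThreeDim2
import Cfsg.Agent.H697.LinMain

/-!
# Linear `p'`-groups with two orbits: small primes, dimension two, swapped orbits
-/

set_option autoImplicit false
set_option linter.style.haveILetI false

universe u

namespace Cfsg.Agent.H697.Three

open Module
open Cfsg.Agent.H697.TwoDim
open Cfsg.Agent.PermutationGroups.RegularLinear

/-- A group with at most three classes has order at most six. -/
theorem card_le_six {G : Type*} [Group G] [Finite G] (h : Nat.card (ConjClasses G) ≤ 3) :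
    Nat.card G ≤ 6 := by
  classical
  rcases Nat.lt_or_ge (Nat.card (ConjClasses G)) 3 with h2 | h3
  · have := ClassCount.card_le_two (G := G) (by omega)
    omega
  have h3' : Nat.card (ConjClasses G) = 3 := le_antisymm h h3
  have := Fintype.ofFinite G
  have := Fintype.ofFinite (ConjClasses G)
  have hcard : (Finset.univ.erase (1 : ConjClasses G)).card = 2 := by
    rw [Finset.card_erase_of_mem (Finset.mem_univ _), Finset.card_univ, ← Nat.card_eq_fintype_card, h3']
  obtain ⟨a, b, hab, hE⟩ := Finset.card_eq_two.1 hcard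
  have hsum := sum_conjClasses_card_eq_card G
  rw [← Finset.add_sum_erase Finset.univ _ (Finset.mem_univ (1 : ConjClasses G)), hE,
    Finset.sum_pair hab] at hsum
  have h1 : ((1 : ConjClasses G).carrier.toFinset).card = 1 := by
    have h4 : (1 : ConjClasses G).carrier = {1} := by
      ext x
      rw [ConjClasses.mem_carrier_iff_mk_eq, Set.mem_singleton_iff]
      constructor
      · intro hx
        exact isConj_one_left.1 (ConjClasses.mk_eq_mk_iff_isConj.1 hx)
      · rintro rfl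
        rfl
    rw [← Set.ncard_eq_toFinset_card', h4, Set.ncard_singleton]
  rw [h1] at hsum
  have hdvd : ∀ c : ConjClasses G, c.carrier.toFinset.card ∣ Nat.card G := by
    intro c
    obtain ⟨g, rfl⟩ := ConjClasses.mk_surjective c
    rw [← Set.ncard_eq_toFinset_card', ← ClassCount.index_centralizer]
    exact Subgroup.index_dvd_card _
  rw [← Nat.card_eq_fintype_card] at hsum
  obtain ⟨x, hx⟩ := hdvd a
  obtain ⟨y, hy⟩ := hdvd b
  set N := Nat.card G
  set α := a.carrier.toFinset.card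
  set β := b.carrier.toFinset.card
  have hN : 0 < N := Nat.card_pos
  clear_value N α β
  clear hab hE hcard h1 hdvd h3' h h3
  -- arithmetic
  have hα : 0 < α := Nat.pos_of_ne_zero (by rintro rfl; omega)
  have hβ : 0 < β := Nat.pos_of_ne_zero (by rintro rfl; omega)
  have key : ∀ {α β x y : ℕ}, 0 < α → 0 < β → 1 + (α + β) = N → N = α * x → N = β * y → x ≤ 2 →
      N ≤ 6 := by
    intro α β x y hα hβ hs hx hy hx2
    have hx1 : x ≠ 0 := by rintro rfl; omega
    have hx1' : x ≠ 1 := by rintro rfl; omega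
    have hx' : x = 2 := by omega
    subst hx'
    have h1 : α = β + 1 := by omega
    have h2 : β * y = 2 * β + 2 := by omega
    have h3 : β ∣ 2 := by
      have h4 : β ∣ 2 * β + 2 := ⟨y, h2.symm⟩
      exact (Nat.dvd_add_right (Dvd.intro_left 2 rfl)).1 h4
    have h4 := Nat.le_of_dvd (by norm_num) h3
    omega
  by_cases hx3 : x ≤ 2
  · exact key hα hβ hsum hx hy hx3
  by_cases hy3 : y ≤ 2
  · exact key hβ hα (by omega) hy hx hy3
  push Not at hx3 hy3
  have e1 : α * 3 ≤ N := by rw [hx]; exact Nat.mul_le_mul le_rfl hx3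
  have e2 : β * 3 ≤ N := by rw [hy]; exact Nat.mul_le_mul le_rfl hy3
  omega

variable {p : ℕ} [hp : Fact p.Prime] {V : Type u} [AddCommGroup V] [Module (ZMod p) V]

/-- The orbit of a vector. -/
def orb (H : Subgroup (V ≃ₗ[ZMod p] V)) (v : V) : Set V := {w | ∃ h ∈ H, h v = w}


theorem mem_orb_self (H : Subgroup (V ≃ₗ[ZMod p] V)) (v : V) : v ∈ orb H v := ⟨1, H.one_mem, rfl⟩


theorem orb_eq_of_mem (H : Subgroup (V ≃ₗ[ZMod p] V)) {v w : V} (h : w ∈ orb H v) :
    orb H w = orb H v := by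
  obtain ⟨a, ha, rfl⟩ := h
  ext x
  constructor
  · rintro ⟨b, hb, rfl⟩
    exact ⟨b * a, H.mul_mem hb ha, rfl⟩
  · rintro ⟨b, hb, rfl⟩
    refine ⟨b * a⁻¹, H.mul_mem hb (H.inv_mem ha), ?_⟩
    show b (a⁻¹ (a v)) = b v
    congr 1
    exact a.symm_apply_apply v


theorem orb_eq_orbit (H : Subgroup (V ≃ₗ[ZMod p] V)) (v : V) : orb H v = MulAction.orbit H v := by
  ext w
  constructor
  · rintro ⟨h, hh, rfl⟩
    exact ⟨⟨h, hh⟩, rfl⟩
  · rintro ⟨⟨h, hh⟩, rfl⟩
    exact ⟨h, hh, rfl⟩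


theorem ncard_orb (H : Subgroup (V ≃ₗ[ZMod p] V)) (v : V) :
    (orb H v).ncard = (MulAction.stabilizer H v).index := by
  rw [orb_eq_orbit, MulAction.index_stabilizer]

variable [Finite V] (H : Subgroup (V ≃ₗ[ZMod p] V))


theorem ncard_orb_dvd (v : V) : (orb H v).ncard ∣ Nat.card H := by
  rw [ncard_orb]
  exact Subgroup.index_dvd_card _


theorem ncard_orb_pos (v : V) : 0 < (orb H v).ncard := by
  rw [Set.ncard_pos (Set.toFinite _)]
  exact ⟨v, mem_orb_self H v⟩


/-- The two orbits. -/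
theorem ncard_add {v₁ v₂ : V} (hv₁ : v₁ ≠ 0) (hv₂ : v₂ ≠ 0) (hne : ∀ h ∈ H, h v₁ ≠ v₂)
    (hall : ∀ w : V, w ≠ 0 → (∃ h ∈ H, h v₁ = w) ∨ (∃ h ∈ H, h v₂ = w)) :
    (orb H v₁).ncard + (orb H v₂).ncard = Nat.card V - 1 := by
  classical
  have hdisj : Disjoint (orb H v₁) (orb H v₂) := by
    rw [Set.disjoint_left]
    intro w h1 h2
    have h3 : v₂ ∈ orb H v₁ := by
      rw [← orb_eq_of_mem H h1, orb_eq_of_mem H h2]
      exact mem_orb_self H v₂
    obtain ⟨h, hh, hhv⟩ := h3
    exact hne h hh hhv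
  have hun : orb H v₁ ∪ orb H v₂ = ({0} : Set V)ᶜ := by
    ext w
    rw [Set.mem_compl_iff, Set.mem_singleton_iff, Set.mem_union]
    constructor
    · rintro (⟨h, hh, rfl⟩ | ⟨h, hh, rfl⟩)
      · intro h0
        exact hv₁ (h.injective (h0.trans (map_zero h).symm))
      · intro h0
        exact hv₂ (h.injective (h0.trans (map_zero h).symm))
    · intro hw
      exact hall w hw
  rw [← Set.ncard_union_eq hdisj (Set.toFinite _) (Set.toFinite _), hun, Set.ncard_compl,
    Set.ncard_singleton]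


theorem card_le (hT : TwoOrb H) : Nat.card V - 1 ≤ 2 * Nat.card H := by
  obtain ⟨v₁, v₂, hv₁, hv₂, hne, hall⟩ := hT
  have h1 := ncard_add H hv₁ hv₂ hne hall
  have hfin : Finite H := by
    have : Finite (V ≃ₗ[ZMod p] V) := finite_gl
    infer_instance
  have h2 := Nat.le_of_dvd Nat.card_pos (ncard_orb_dvd H v₁)
  have h3 := Nat.le_of_dvd Nat.card_pos (ncard_orb_dvd H v₂)
  omega


/-- If `2 |H| = |V| - 1` then `H` is semiregular. -/
theorem semireg (hT : TwoOrb H) (hcard : 2 * Nat.card H = Nat.card V - 1) (w : V) (hw : w ≠ 0)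
    (g : V ≃ₗ[ZMod p] V) (hg : g ∈ H) (hgw : g w = w) : g = 1 := by
  obtain ⟨v₁, v₂, hv₁, hv₂, hne, hall⟩ := hT
  have h1 := ncard_add H hv₁ hv₂ hne hall
  have hfin : Finite H := by
    have : Finite (V ≃ₗ[ZMod p] V) := finite_gl
    infer_instance
  have h2 := Nat.le_of_dvd Nat.card_pos (ncard_orb_dvd H v₁)
  have h3 := Nat.le_of_dvd Nat.card_pos (ncard_orb_dvd H v₂)
  have h4 : (orb H w).ncard = Nat.card H := by
    rcases hall w hw with h | h
    · rw [orb_eq_of_mem H h]; omega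
    · rw [orb_eq_of_mem H h]; omega
  rw [ncard_orb, ← Subgroup.card_mul_index (MulAction.stabilizer H w)] at h4
  have h5 : 0 < (MulAction.stabilizer H w).index := Nat.pos_of_ne_zero Subgroup.FiniteIndex.index_ne_zero
  have h6 : Nat.card (MulAction.stabilizer H w) = 1 := by
    have h7 : 1 * (MulAction.stabilizer H w).index =
        Nat.card (MulAction.stabilizer H w) * (MulAction.stabilizer H w).index := by
      rw [one_mul]; exact h4
    exact (Nat.eq_of_mul_eq_mul_right h5 h7).symm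
  have h8 := Subgroup.eq_bot_of_card_eq _ h6
  have h9 : (⟨g, hg⟩ : H) ∈ MulAction.stabilizer H w := hgw
  rw [h8, Subgroup.mem_bot] at h9
  exact congrArg Subtype.val h9

/-- **Dimension two**, `p ≥ 5`. -/
theorem lin_dim_two (hp5 : 5 ≤ p) (hpH : ¬ p ∣ Nat.card H) (hT : TwoOrb H)
    (hn : finrank (ZMod p) V = 2) : p ≤ 2 * Nat.card (ConjClasses H) := by
  classical
  have hVcard := Hering.card_eq (p := p) (V := V)
  rw [hn] at hVcard
  obtain ⟨b, σ, hσ, hσb⟩ := LinMain.exists_toGL H (n := 2) hn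
  let e : H ≃* σ.range := MonoidHom.ofInjective hσ
  have hcardL : Nat.card σ.range = Nat.card H := (Nat.card_congr e.toEquiv).symm
  have hle := card_le H hT
  rw [ClassCount.card_conjClasses_congr e]
  apply dim_two hp5 σ.range (by rw [hcardL]; exact hpH) (by rw [hcardL, ← hVcard]; exact hle)
  rw [hcardL, ← hVcard]
  rintro hc v hv _ ⟨h, rfl⟩ hhv
  have h1 := hσb h (b.symm v)
  rw [LinearEquiv.apply_symm_apply, hhv] at h1
  have h2 : (h : V ≃ₗ[ZMod p] V) (b.symm v) = b.symm v := by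
    apply b.injective
    rw [← h1, LinearEquiv.apply_symm_apply]
  have h3 := semireg H hT hc (b.symm v) (fun h0 => hv (by
    rw [← b.apply_symm_apply v, h0, map_zero])) h h.2 h2
  have h4 : h = 1 := Subtype.ext h3
  rw [h4, map_one]

/-- An abelian subgroup of small index gives many classes. -/
theorem of_index_le (hp5 : 5 ≤ p) (hT : TwoOrb H) (hn : 3 ≤ finrank (ZMod p) V)
    (B : Subgroup H) (hB : ∀ a ∈ B, ∀ b ∈ B, a * b = b * a) {c : ℕ} (hBc : B.index ≤ c)
    (hc : c ^ 2 < p ^ (finrank (ZMod p) V - 1)) : p ≤ 2 * Nat.card (ConjClasses H) := by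
  classical
  have hfin : Finite H := by
    have : Finite (V ≃ₗ[ZMod p] V) := finite_gl
    infer_instance
  have hVcard := Hering.card_eq (p := p) (V := V)
  have hle := card_le H hT
  rw [hVcard] at hle
  set n := finrank (ZMod p) V with hn'
  have h1 := ClassCount.card_le_mul_index B hB
  have h2 := B.card_mul_index
  set k := Nat.card (ConjClasses H)
  by_contra hcon
  push Not at hcon
  have h3 : Nat.card H ≤ c ^ 2 * k := by
    rw [← h2]
    calc Nat.card B * B.index ≤ (B.index * k) * B.index := Nat.mul_le_mul h1 le_rfl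
      _ = (B.index * B.index) * k := by ring
      _ ≤ (c * c) * k := Nat.mul_le_mul (Nat.mul_le_mul hBc hBc) le_rfl
      _ = c ^ 2 * k := by ring
  have h4 : p ^ n = p * p ^ (n - 1) := by
    rw [← pow_succ']
    congr 1; omega
  have h5 : 2 * Nat.card H ≤ (p - 1) * p ^ (n - 1) := by
    calc 2 * Nat.card H ≤ 2 * (c ^ 2 * k) := Nat.mul_le_mul le_rfl h3
      _ = (2 * k) * c ^ 2 := by ring
      _ ≤ (p - 1) * p ^ (n - 1) := Nat.mul_le_mul (by omega) hc.le
  have h6 : p ^ n = (p - 1) * p ^ (n - 1) + p ^ (n - 1) := by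
    rw [h4]
    obtain ⟨q, hq⟩ : ∃ q, p = q + 1 := ⟨p - 1, by omega⟩
    have h7 : p - 1 = q := by omega
    rw [h7]
    nth_rewrite 1 [hq]
    ring
  have h7 : 1 < p ^ (n - 1) := Nat.one_lt_pow (by omega) (by omega)
  omega

/-- **Swapped orbits.** -/
theorem swapped [Nontrivial V] (hp5 : 5 ≤ p) (hpH : ¬ p ∣ Nat.card H) {v₁ v₂ : V} (hv₁ : v₁ ≠ 0)
    (hv₂ : v₂ ≠ 0) (hne : ∀ h ∈ H, h v₁ ≠ v₂)
    (hall : ∀ w : V, w ≠ 0 → (∃ h ∈ H, h v₁ = w) ∨ (∃ h ∈ H, h v₂ = w))
    (hn : 3 ≤ finrank (ZMod p) V) (hexc : ¬ (p = 5 ∧ finrank (ZMod p) V = 6)) {c : ZMod p}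
    (hc : c ≠ 0) (hsw : ∃ h ∈ H, h v₁ = c • v₂) : p ≤ 2 * Nat.card (ConjClasses H) := by
  classical
  have hp' : p.Prime := hp.out
  have hfinG : Finite (V ≃ₗ[ZMod p] V) := finite_gl
  have hfin : Finite H := inferInstance
  -- the scalars
  let S : (ZMod p)ˣ →* (V ≃ₗ[ZMod p] V) :=
    { toFun := fun a => LinearEquiv.smulOfUnit a
      map_one' := by
        apply LinearEquiv.ext
        intro x
        show ((1 : (ZMod p)ˣ) : ZMod p) • x = x
        rw [Units.val_one, one_smul]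
      map_mul' := fun a b => by
        apply LinearEquiv.ext
        intro x
        show ((a * b : (ZMod p)ˣ) : ZMod p) • x = (a : ZMod p) • ((b : ZMod p) • x)
        rw [Units.val_mul, mul_smul] }
  have hS : ∀ (a : (ZMod p)ˣ) (x : V), S a x = (a : ZMod p) • x := fun _ _ => rfl
  have hSc : ∀ (a : (ZMod p)ˣ) (g : V ≃ₗ[ZMod p] V), g * S a = S a * g := by
    intro a g
    apply LinearEquiv.ext
    intro x
    show g ((a : ZMod p) • x) = (a : ZMod p) • g x
    exact map_smul g _ _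
  have hSn : S.range.Normal := by
    refine ⟨?_⟩
    rintro _ ⟨a, rfl⟩ g
    refine ⟨a, ?_⟩
    rw [hSc, mul_inv_cancel_right]
  let Hh : Subgroup (V ≃ₗ[ZMod p] V) := H ⊔ S.range
  have hHle : H ≤ Hh := le_sup_left
  have hSle : S.range ≤ Hh := le_sup_right
  -- transitivity
  have htr1 : ∀ w : V, w ≠ 0 → ∃ h ∈ Hh, h v₂ = w := by
    intro w hw
    rcases hall w hw with ⟨h, hh, hhw⟩ | ⟨h, hh, hhw⟩
    · obtain ⟨g, hg, hgv⟩ := hsw
      refine ⟨h * (g⁻¹ * S (Units.mk0 c hc)), Hh.mul_mem (hHle hh)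
        (Hh.mul_mem (hHle (H.inv_mem hg)) (hSle ⟨_, rfl⟩)), ?_⟩
      show h (g⁻¹ (c • v₂)) = w
      rw [← hgv]
      have : g⁻¹ (g v₁) = v₁ := g.symm_apply_apply v₁
      rw [this, hhw]
    · exact ⟨h, hHle hh, hhw⟩
  have htr : ∀ v w : V, v ≠ 0 → w ≠ 0 → ∃ h ∈ Hh, h v = w := by
    intro v w hv hw
    obtain ⟨a, ha, hav⟩ := htr1 v hv
    obtain ⟨b, hb, hbw⟩ := htr1 w hw
    refine ⟨b * a⁻¹, Hh.mul_mem hb (Hh.inv_mem ha), ?_⟩
    show b (a⁻¹ v) = w
    rw [← hav]
    have : a⁻¹ (a v₂) = v₂ := a.symm_apply_apply v₂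
    rw [this, hbw]
  -- the order
  have hpHh : ¬ p ∣ Nat.card Hh := by
    intro h
    have h1 : Nat.card Hh ∣ Nat.card S.range * Nat.card H := by
      have h2 := Lib.Cores.card_sup_dvd S.range H hSn
      rwa [sup_comm] at h2
    rcases (Nat.Prime.dvd_mul hp').1 (h.trans h1) with h3 | h3
    · have h4 : Nat.card S.range ∣ p - 1 := by
        have h5 := Subgroup.card_range_dvd S
        rwa [Nat.card_eq_fintype_card (α := (ZMod p)ˣ), ZMod.card_units] at h5
      have h5 := Nat.le_of_dvd (by omega) (h3.trans h4)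
      omega
    · exact hpH h3
  obtain ⟨A, hAn, hAc, hAle⟩ := Hering.main (p := p) hp5 hn hexc Hh htr hpHh
  have hAidx : A.index ≤ finrank (ZMod p) V := by
    have h1 := A.card_mul_index
    rw [← h1, mul_comm] at hAle
    exact Nat.le_of_mul_le_mul_right hAle Nat.card_pos
  let ι : H →* Hh := Subgroup.inclusion hHle
  let B : Subgroup H := A.comap ι
  have hBidx : B.index ≤ finrank (ZMod p) V := by
    refine le_trans ?_ hAidx
    apply Nat.le_of_dvd (Nat.pos_of_ne_zero Subgroup.FiniteIndex.index_ne_zero)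
    rw [Subgroup.index_comap]
    exact Subgroup.relIndex_dvd_index_of_normal _ _
  refine of_index_le H hp5 ⟨v₁, v₂, hv₁, hv₂, hne, hall⟩ hn B ?_ hBidx ?_
  · intro a ha b hb
    have h1 : (⟨ι a, ha⟩ : A) * ⟨ι b, hb⟩ = ⟨ι b, hb⟩ * ⟨ι a, ha⟩ :=
      (IsCyclic.commGroup (α := A)).mul_comm _ _
    have h2 : ι a * ι b = ι b * ι a := congrArg Subtype.val h1
    rw [← map_mul, ← map_mul] at h2
    exact Subgroup.inclusion_injective hHle h2
  · exact (LinMain.sq_lt_pow hn).trans_le (Nat.pow_le_pow_left hp5 _)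

end Cfsg.Agent.H697.Three
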