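import Cfsg.Agent.H697.ThreeCount
import Cfsg.Agent.H697.ThreeLin

/-!
# Orbits on the dual space and the two-weight theorem
-/

set_option autoImplicit false
set_option linter.style.haveILetI false

universe u

namespace Cfsg.Agent.H697.ThreeDual

open Module
open Cfsg.Agent.H697.Three

variable {p : ℕ} [hp : Fact p.Prime] {V : Type u} [AddCommGroup V] [Module (ZMod p) V]

/-- The contragredient action. -/
def contra : (V ≃ₗ[ZMod p] V) →* (Dual (ZMod p) V ≃ₗ[ZMod p] Dual (ZMod p) V) where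
  toFun g := (g⁻¹ : V ≃ₗ[ZMod p] V).dualMap
  map_one' := by
    apply LinearEquiv.ext
    intro f
    apply LinearMap.ext
    intro v
    rfl
  map_mul' := by
    intro g h
    apply LinearEquiv.ext
    intro f
    apply LinearMap.ext
    intro v
    rw [mul_inv_rev]
    rfl

theorem contra_apply (g : V ≃ₗ[ZMod p] V) (f : Dual (ZMod p) V) (v : V) :
    contra g f v = f (g⁻¹ v) := rfl

variable [Finite V]

theorem card_fixed (g : V ≃ₗ[ZMod p] V) :
    Nat.card {f : Dual (ZMod p) V // contra g f = f} = Nat.card {v : V // g v = v} := by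
  have : Module.Finite (ZMod p) V := Module.Finite.of_finite
  let φ : V →ₗ[ZMod p] V := ((g⁻¹ : V ≃ₗ[ZMod p] V) : V →ₗ[ZMod p] V) - LinearMap.id
  have h1 : Nat.card {f : Dual (ZMod p) V // contra g f = f} =
      Nat.card (LinearMap.range φ).dualAnnihilator := by
    apply Nat.card_congr
    refine Equiv.subtypeEquivRight ?_
    intro f
    rw [Submodule.mem_dualAnnihilator]
    constructor
    · rintro h _ ⟨v, rfl⟩
      show f (g⁻¹ v - v) = 0
      rw [map_sub, sub_eq_zero, ← contra_apply, h]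
    · intro h
      apply LinearMap.ext
      intro v
      have h2 := h (φ v) ⟨v, rfl⟩
      have h3 : f (g⁻¹ v - v) = 0 := h2
      rw [map_sub, sub_eq_zero] at h3
      exact h3
  have h2 : Nat.card {v : V // g v = v} = Nat.card (LinearMap.ker φ) := by
    apply Nat.card_congr
    refine Equiv.subtypeEquivRight ?_
    intro v
    rw [LinearMap.mem_ker]
    constructor
    · intro h
      show g⁻¹ v - v = 0
      rw [sub_eq_zero]
      nth_rewrite 1 [← h]
      exact g.symm_apply_apply v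
    · intro h
      have h3 : g⁻¹ v - v = 0 := h
      rw [sub_eq_zero] at h3
      nth_rewrite 1 [← h3]
      exact g.apply_symm_apply v
  have h3 := LinearMap.finrank_range_add_finrank_ker φ
  rw [h1, h2, ThreeCount.card_ann, Module.natCard_eq_pow_finrank (K := ZMod p) (V := LinearMap.ker φ),
    Nat.card_zmod]
  congr 1
  omega

omit [Finite V] in
/-- Three orbits. -/
theorem exists_three {Q : Type*} (hQ : Nat.card Q = 3) (q : Q) :
    ∃ a b : Q, a ≠ q ∧ b ≠ q ∧ a ≠ b ∧ ∀ x : Q, x = q ∨ x = a ∨ x = b := by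
  classical
  have hfin : Finite Q := Nat.finite_of_card_ne_zero (by omega)
  have := Fintype.ofFinite Q
  have hcard : (Finset.univ.erase q).card = 2 := by
    rw [Finset.card_erase_of_mem (Finset.mem_univ _), Finset.card_univ, ← Nat.card_eq_fintype_card, hQ]
  obtain ⟨a, b, hab, hE⟩ := Finset.card_eq_two.1 hcard
  have ha : a ∈ Finset.univ.erase q := by rw [hE]; simp
  have hb : b ∈ Finset.univ.erase q := by rw [hE]; simp
  refine ⟨a, b, (Finset.mem_erase.1 ha).1, (Finset.mem_erase.1 hb).1, hab, fun x => ?_⟩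
  by_cases hx : x = q
  · exact Or.inl hx
  · right
    have h1 : x ∈ Finset.univ.erase q := Finset.mem_erase.2 ⟨hx, Finset.mem_univ _⟩
    rw [hE] at h1
    simpa using h1

/-- **Two orbits on the dual space.** -/
theorem dual_orbits (Γ : Subgroup (V ≃ₗ[ZMod p] V)) {v₁ v₂ : V} (hv₁ : v₁ ≠ 0) (hv₂ : v₂ ≠ 0)
    (hne : ∀ h ∈ Γ, h v₁ ≠ v₂)
    (hall : ∀ w : V, w ≠ 0 → (∃ h ∈ Γ, h v₁ = w) ∨ (∃ h ∈ Γ, h v₂ = w)) :
    ∃ f₁ f₂ : Dual (ZMod p) V, f₁ ≠ 0 ∧ f₂ ≠ 0 ∧ (∀ h ∈ Γ, contra h f₁ ≠ f₂) ∧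
      ∀ f : Dual (ZMod p) V, f ≠ 0 → (∃ h ∈ Γ, contra h f₁ = f) ∨ (∃ h ∈ Γ, contra h f₂ = f) := by
  classical
  have hfinG : Finite (V ≃ₗ[ZMod p] V) := Cfsg.Agent.PermutationGroups.RegularLinear.finite_gl
  have : Module.Finite (ZMod p) V := Module.Finite.of_finite
  have hfinD : Finite (Dual (ZMod p) V) := Module.finite_of_finite (ZMod p)
  have := Fintype.ofFinite Γ
  have := Fintype.ofFinite V
  have := Fintype.ofFinite (Dual (ZMod p) V)
  letI act : MulAction Γ (Dual (ZMod p) V) := MulAction.compHom _ (contra.comp Γ.subtype)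
  have hact : ∀ (g : Γ) (f : Dual (ZMod p) V), g • f = contra (g : V ≃ₗ[ZMod p] V) f := fun _ _ => rfl
  have hB1 := MulAction.sum_card_fixedBy_eq_card_orbits_mul_card_group Γ V
  have hB2 := MulAction.sum_card_fixedBy_eq_card_orbits_mul_card_group Γ (Dual (ZMod p) V)
  have hsum : ∑ a : Γ, Fintype.card (MulAction.fixedBy V a) =
      ∑ a : Γ, Fintype.card (MulAction.fixedBy (Dual (ZMod p) V) a) := by
    apply Finset.sum_congr rfl
    intro a _
    rw [← Nat.card_eq_fintype_card, ← Nat.card_eq_fintype_card]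
    exact (card_fixed (a : V ≃ₗ[ZMod p] V)).symm
  rw [hB1, hB2] at hsum
  have hcard := Nat.eq_of_mul_eq_mul_right (Fintype.card_pos (α := Γ)) hsum
  have h3 : Fintype.card (Quotient (MulAction.orbitRel Γ V)) = 3 := by
    have hm : ∀ (v w : V), (Quotient.mk (MulAction.orbitRel Γ V) v = Quotient.mk _ w) ↔
        ∃ g ∈ Γ, g w = v := by
      intro v w
      rw [Quotient.eq]
      constructor
      · rintro ⟨g, hg⟩
        exact ⟨g, g.2, hg⟩
      · rintro ⟨g, hg, h⟩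
        exact ⟨⟨g, hg⟩, h⟩
    have huniv : (Finset.univ : Finset (Quotient (MulAction.orbitRel Γ V))) =
        {Quotient.mk _ 0, Quotient.mk _ v₁, Quotient.mk _ v₂} := by
      symm
      rw [Finset.eq_univ_iff_forall]
      intro x
      induction x using Quotient.inductionOn with
      | _ v =>
        by_cases hv : v = 0
        · rw [hv]; simp
        · rcases hall v hv with ⟨h, hh, hhv⟩ | ⟨h, hh, hhv⟩
          · have : Quotient.mk (MulAction.orbitRel Γ V) v = Quotient.mk _ v₁ :=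
              (hm v v₁).2 ⟨h, hh, hhv⟩
            rw [this]; simp
          · have : Quotient.mk (MulAction.orbitRel Γ V) v = Quotient.mk _ v₂ :=
              (hm v v₂).2 ⟨h, hh, hhv⟩
            rw [this]; simp
    rw [← Finset.card_univ, huniv, Finset.card_eq_three]
    refine ⟨_, _, _, ?_, ?_, ?_, rfl⟩
    · intro h
      obtain ⟨g, -, hg⟩ := (hm _ _).1 h
      exact hv₁ (g.injective (hg.trans (map_zero g).symm))
    · intro h
      obtain ⟨g, -, hg⟩ := (hm _ _).1 h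
      exact hv₂ (g.injective (hg.trans (map_zero g).symm))
    · intro h
      obtain ⟨g, hgΓ, hg⟩ := (hm _ _).1 h.symm
      exact hne g hgΓ hg
  rw [h3] at hcard
  obtain ⟨a, b, ha, hb, hab, hx⟩ := exists_three
    (by rw [Nat.card_eq_fintype_card]; exact hcard.symm)
    (Quotient.mk (MulAction.orbitRel Γ (Dual (ZMod p) V)) 0)
  induction a using Quotient.inductionOn with
  | _ f₁ =>
    induction b using Quotient.inductionOn with
    | _ f₂ =>
      have hm : ∀ (v w : Dual (ZMod p) V),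
          (Quotient.mk (MulAction.orbitRel Γ (Dual (ZMod p) V)) v = Quotient.mk _ w) ↔
          ∃ g ∈ Γ, contra g w = v := by
        intro v w
        rw [Quotient.eq]
        constructor
        · rintro ⟨g, hg⟩
          exact ⟨g, g.2, hg⟩
        · rintro ⟨g, hg, h⟩
          exact ⟨⟨g, hg⟩, h⟩
      refine ⟨f₁, f₂, ?_, ?_, ?_, ?_⟩
      · rintro rfl
        exact ha rfl
      · rintro rfl
        exact hb rfl
      · intro h hh he
        exact hab ((hm f₂ f₁).2 ⟨h, hh, he⟩).symm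
      · intro f hf
        rcases hx (Quotient.mk _ f) with h | h | h
        · exfalso
          apply hf
          obtain ⟨g, -, hg⟩ := (hm f 0).1 h
          rw [map_zero] at hg
          exact hg.symm
        · exact Or.inl ((hm _ _).1 h)
        · exact Or.inr ((hm _ _).1 h)

/-- **The two-weight theorem**, group containing the scalars. -/
theorem two_weight_scalars (hp3 : 3 ≤ p) (hn : 2 ≤ finrank (ZMod p) V)
    (Γ : Subgroup (V ≃ₗ[ZMod p] V)) (hpΓ : ¬ p ∣ Nat.card Γ)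
    (hscal : ∀ c : ZMod p, c ≠ 0 → ∃ g ∈ Γ, ∀ v, g v = c • v)
    {v₁ v₂ : V} (hv₁ : v₁ ≠ 0) (hv₂ : v₂ ≠ 0) (hne : ∀ h ∈ Γ, h v₁ ≠ v₂)
    (hall : ∀ w : V, w ≠ 0 → (∃ h ∈ Γ, h v₁ = w) ∨ (∃ h ∈ Γ, h v₂ = w)) :
    ∃ (m : ℕ) (ε : ℤ), (ε = 1 ∨ ε = -1) ∧ finrank (ZMod p) V = 2 * m ∧
      ((p : ℤ) ^ m - ε) ∣ ((orb Γ v₁).ncard : ℤ) ∧ ((p : ℤ) ^ m - ε) ∣ ((orb Γ v₂).ncard : ℤ) := by
  classical
  have hfinG : Finite (V ≃ₗ[ZMod p] V) := Cfsg.Agent.PermutationGroups.RegularLinear.finite_gl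
  have : Module.Finite (ZMod p) V := Module.Finite.of_finite
  have hfinD : Finite (Dual (ZMod p) V) := Module.finite_of_finite (ZMod p)
  have := Fintype.ofFinite V
  have := Fintype.ofFinite (Dual (ZMod p) V)
  obtain ⟨f₁, f₂, hf₁, hf₂, hfne, hfall⟩ := dual_orbits Γ hv₁ hv₂ hne hall
  let Δ : Subgroup (Dual (ZMod p) V ≃ₗ[ZMod p] Dual (ZMod p) V) := Γ.map contra
  have hΔ : Nat.card Δ ∣ Nat.card Γ := Subgroup.card_map_dvd _ _
  -- membership in the orbits
  have hOm : ∀ (v w : V), w ∈ orb Γ v ↔ ∃ h ∈ Γ, h v = w := fun _ _ => Iff.rfl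
  have hDm : ∀ (f g : Dual (ZMod p) V), g ∈ orb Δ f ↔ ∃ h ∈ Γ, contra h f = g := by
    intro f g
    constructor
    · rintro ⟨_, ⟨h, hh, rfl⟩, e⟩
      exact ⟨h, hh, e⟩
    · rintro ⟨h, hh, e⟩
      exact ⟨_, ⟨h, hh, rfl⟩, e⟩
  have hinv : ∀ (h : V ≃ₗ[ZMod p] V) (v : V), h (h⁻¹ v) = v := fun h v => h.apply_symm_apply v
  have hinv' : ∀ (h : V ≃ₗ[ZMod p] V) (v : V), h⁻¹ (h v) = v := fun h v => h.symm_apply_apply v
  have hOst : ∀ (u v : V) (h : V ≃ₗ[ZMod p] V), h ∈ Γ → v ∈ orb Γ u → h v ∈ orb Γ u := by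
    rintro u _ h hh ⟨g, hg, rfl⟩
    exact ⟨h * g, Γ.mul_mem hh hg, rfl⟩
  have hDst : ∀ (u f : Dual (ZMod p) V) (h : V ≃ₗ[ZMod p] V), h ∈ Γ → f ∈ orb Δ u →
      contra h f ∈ orb Δ u := by
    rintro u _ h hh ⟨g, hg, rfl⟩
    exact ⟨contra h * g, Δ.mul_mem ⟨h, hh, rfl⟩ hg, rfl⟩
  -- the sets
  let O : V → Finset V := fun v => (orb Γ v).toFinset
  let D : Dual (ZMod p) V → Finset (Dual (ZMod p) V) := fun f => (orb Δ f).toFinset
  have hOmem : ∀ v w : V, w ∈ O v ↔ w ∈ orb Γ v := fun v w => Set.mem_toFinset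
  have hDmem : ∀ f g, g ∈ D f ↔ g ∈ orb Δ f := fun v w => Set.mem_toFinset
  have hOcard : ∀ v, (O v).card = (orb Γ v).ncard := fun v => (Set.ncard_eq_toFinset_card' _).symm
  have hDcard : ∀ v, (D v).card = (orb Δ v).ncard := fun v => (Set.ncard_eq_toFinset_card' _).symm
  have hcount1 : ∀ (u : V) (f : Dual (ZMod p) V) (h : V ≃ₗ[ZMod p] V), h ∈ Γ →
      ((O u).filter (fun v => contra h f v = 0)).card = ((O u).filter (fun v => f v = 0)).card := by
    intro u f h hh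
    apply Finset.card_nbij' (fun v => h⁻¹ v) (fun v => h v)
    · intro v hv
      simp only [Finset.coe_filter, Set.mem_ofPred_eq, hOmem] at hv ⊢
      exact ⟨hOst u v h⁻¹ (Γ.inv_mem hh) hv.1, hv.2⟩
    · intro v hv
      simp only [Finset.coe_filter, Set.mem_ofPred_eq, hOmem] at hv ⊢
      refine ⟨hOst u v h hh hv.1, ?_⟩
      rw [contra_apply, hinv']
      exact hv.2
    · intro v _
      exact hinv h v
    · intro v _
      exact hinv' h v
  have hcount2 : ∀ (u : Dual (ZMod p) V) (v : V) (h : V ≃ₗ[ZMod p] V), h ∈ Γ →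
      ((D u).filter (fun f => f (h v) = 0)).card = ((D u).filter (fun f => f v = 0)).card := by
    intro u v h hh
    apply Finset.card_nbij' (fun f => contra h⁻¹ f) (fun f => contra h f)
    · intro f hf
      simp only [Finset.coe_filter, Set.mem_ofPred_eq, hDmem] at hf ⊢
      refine ⟨hDst u f h⁻¹ (Γ.inv_mem hh) hf.1, ?_⟩
      rw [contra_apply, inv_inv]
      exact hf.2
    · intro f hf
      simp only [Finset.coe_filter, Set.mem_ofPred_eq, hDmem] at hf ⊢
      refine ⟨hDst u f h hh hf.1, ?_⟩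
      rw [contra_apply, hinv']
      exact hf.2
    · intro f _
      show contra h (contra h⁻¹ f) = f
      apply LinearMap.ext
      intro w
      rw [contra_apply, contra_apply, inv_inv, hinv]
    · intro f _
      show contra h⁻¹ (contra h f) = f
      apply LinearMap.ext
      intro w
      rw [contra_apply, contra_apply, inv_inv, hinv']
  have hp0 : ∀ k : ℕ, k ∣ Nat.card Γ → ¬ p ∣ k := fun k hk h => hpΓ (h.trans hk)
  have key := ThreeCount.comb (p := p) hp3 hn (O v₁) (O v₂) (D f₁) (D f₂) ?_ ?_ ?_ ?_ ?_ ?_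
    ⟨v₁, (hOmem _ _).2 (mem_orb_self _ _)⟩ ⟨v₂, (hOmem _ _).2 (mem_orb_self _ _)⟩
    ⟨f₁, (hDmem _ _).2 (mem_orb_self _ _)⟩ ⟨f₂, (hDmem _ _).2 (mem_orb_self _ _)⟩
    ((O v₁).filter (fun v => f₁ v = 0)).card ((O v₁).filter (fun v => f₂ v = 0)).card
    ((D f₁).filter (fun f => f v₁ = 0)).card ((D f₁).filter (fun f => f v₂ = 0)).card
    ?_ ?_ ?_ ?_ ?_ ?_ ?_ ?_
  · rw [hOcard, hOcard] at key
    exact key
  · ext w
    rw [Finset.mem_union, hOmem, hOmem, Finset.mem_erase]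
    constructor
    · rintro (⟨h, hh, rfl⟩ | ⟨h, hh, rfl⟩)
      · exact ⟨fun h0 => hv₁ (h.injective (h0.trans (map_zero h).symm)), Finset.mem_univ _⟩
      · exact ⟨fun h0 => hv₂ (h.injective (h0.trans (map_zero h).symm)), Finset.mem_univ _⟩
    · rintro ⟨hw, -⟩
      exact hall w hw
  · rw [Finset.disjoint_left]
    intro w h1 h2
    rw [hOmem] at h1 h2
    have h3 : v₂ ∈ orb Γ v₁ := by
      rw [← orb_eq_of_mem Γ h1, orb_eq_of_mem Γ h2]
      exact mem_orb_self Γ v₂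
    obtain ⟨h, hh, hhv⟩ := h3
    exact hne h hh hhv
  · ext w
    rw [Finset.mem_union, hDmem, hDmem, Finset.mem_erase]
    constructor
    · rintro (⟨h, hh, rfl⟩ | ⟨h, hh, rfl⟩)
      · exact ⟨fun h0 => hf₁ (h.injective (h0.trans (map_zero h).symm)), Finset.mem_univ _⟩
      · exact ⟨fun h0 => hf₂ (h.injective (h0.trans (map_zero h).symm)), Finset.mem_univ _⟩
    · rintro ⟨hw, -⟩
      rcases hfall w hw with h | h
      · exact Or.inl ((hDm _ _).2 h)
      · exact Or.inr ((hDm _ _).2 h)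
  · rw [Finset.disjoint_left]
    intro w h1 h2
    rw [hDmem] at h1 h2
    have h3 : f₂ ∈ orb Δ f₁ := by
      rw [← orb_eq_of_mem Δ h1, orb_eq_of_mem Δ h2]
      exact mem_orb_self Δ f₂
    obtain ⟨h, hh, hhv⟩ := (hDm _ _).1 h3
    exact hfne h hh hhv
  · intro c hc v hv
    obtain ⟨g, hg, hgc⟩ := hscal c hc
    rw [hOmem] at hv ⊢
    rw [← hgc]
    exact hOst _ _ _ hg hv
  · intro c hc f hf
    obtain ⟨g, hg, hgc⟩ := hscal c hc
    rw [hDmem] at hf ⊢
    have h1 : c • f = contra g⁻¹ f := by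
      apply LinearMap.ext
      intro v
      rw [contra_apply, inv_inv, hgc, map_smul, LinearMap.smul_apply]
    rw [h1]
    exact hDst _ _ _ (Γ.inv_mem hg) hf
  · intro f hf
    obtain ⟨h, hh, rfl⟩ := (hDm _ _).1 ((hDmem _ _).1 hf)
    exact hcount1 _ _ _ hh
  · intro f hf
    obtain ⟨h, hh, rfl⟩ := (hDm _ _).1 ((hDmem _ _).1 hf)
    exact hcount1 _ _ _ hh
  · intro v hv
    obtain ⟨h, hh, rfl⟩ := (hOmem _ _).1 hv
    exact hcount2 _ _ _ hh
  · intro v hv
    obtain ⟨h, hh, rfl⟩ := (hOmem _ _).1 hv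
    exact hcount2 _ _ _ hh
  · rw [hOcard]
    exact hp0 _ (ncard_orb_dvd Γ v₁)
  · rw [hOcard]
    exact hp0 _ (ncard_orb_dvd Γ v₂)
  · rw [hDcard]
    exact hp0 _ ((ncard_orb_dvd Δ f₁).trans hΔ)
  · rw [hDcard]
    exact hp0 _ ((ncard_orb_dvd Δ f₂).trans hΔ)

/-- The scalars. -/
def scal : (ZMod p)ˣ →* (V ≃ₗ[ZMod p] V) where
  toFun a := LinearEquiv.smulOfUnit a
  map_one' := by
    apply LinearEquiv.ext
    intro x
    show ((1 : (ZMod p)ˣ) : ZMod p) • x = x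
    rw [Units.val_one, one_smul]
  map_mul' := fun a b => by
    apply LinearEquiv.ext
    intro x
    show ((a * b : (ZMod p)ˣ) : ZMod p) • x = (a : ZMod p) • ((b : ZMod p) • x)
    rw [Units.val_mul, mul_smul]

omit [Finite V] in
theorem scal_apply (a : (ZMod p)ˣ) (x : V) : scal a x = (a : ZMod p) • x := rfl

omit [Finite V] in
theorem scal_comm (a : (ZMod p)ˣ) (g : V ≃ₗ[ZMod p] V) : g * scal a = scal a * g := by
  apply LinearEquiv.ext
  intro x
  show g ((a : ZMod p) • x) = (a : ZMod p) • g x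
  exact map_smul g _ _

omit [Finite V] in
theorem scal_normal : (scal (p := p) (V := V)).range.Normal := by
  refine ⟨?_⟩
  rintro _ ⟨a, rfl⟩ g
  refine ⟨a, ?_⟩
  rw [scal_comm, mul_inv_cancel_right]

/-- Adjoining the scalars keeps the order prime to `p`. -/
theorem not_dvd_sup (H : Subgroup (V ≃ₗ[ZMod p] V)) (hpH : ¬ p ∣ Nat.card H) :
    ¬ p ∣ Nat.card (H ⊔ (scal (p := p) (V := V)).range : Subgroup (V ≃ₗ[ZMod p] V)) := by
  classical
  have hp' : p.Prime := hp.out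
  have hfinG : Finite (V ≃ₗ[ZMod p] V) := Cfsg.Agent.PermutationGroups.RegularLinear.finite_gl
  intro h
  have h1 : Nat.card (H ⊔ (scal (p := p) (V := V)).range : Subgroup (V ≃ₗ[ZMod p] V)) ∣
      Nat.card (scal (p := p) (V := V)).range * Nat.card H := by
    have h2 := Lib.Cores.card_sup_dvd (scal (p := p) (V := V)).range H scal_normal
    rwa [sup_comm] at h2
  rcases (Nat.Prime.dvd_mul hp').1 (h.trans h1) with h3 | h3
  · have h4 : Nat.card (scal (p := p) (V := V)).range ∣ p - 1 := by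
      have h5 := Subgroup.card_range_dvd (scal (p := p) (V := V))
      rwa [Nat.card_eq_fintype_card (α := (ZMod p)ˣ), ZMod.card_units] at h5
    have h5 := Nat.le_of_dvd (by have := hp'.two_le; omega) (h3.trans h4)
    have := hp'.two_le
    omega
  · exact hpH h3

/-- **The two-weight theorem**: orbits not swapped by the scalars. -/
theorem two_weight (hp3 : 3 ≤ p) (hn : 2 ≤ finrank (ZMod p) V)
    (H : Subgroup (V ≃ₗ[ZMod p] V)) (hpH : ¬ p ∣ Nat.card H)
    {v₁ v₂ : V} (hv₁ : v₁ ≠ 0) (hv₂ : v₂ ≠ 0) (hne : ∀ h ∈ H, h v₁ ≠ v₂)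
    (hall : ∀ w : V, w ≠ 0 → (∃ h ∈ H, h v₁ = w) ∨ (∃ h ∈ H, h v₂ = w))
    (hns : ∀ c : ZMod p, c ≠ 0 → ∀ h ∈ H, h v₁ ≠ c • v₂) :
    (∀ c : ZMod p, c ≠ 0 → c • v₁ ∈ orb H v₁) ∧ (∀ c : ZMod p, c ≠ 0 → c • v₂ ∈ orb H v₂) ∧
    ∃ (m : ℕ) (ε : ℤ), (ε = 1 ∨ ε = -1) ∧ finrank (ZMod p) V = 2 * m ∧
      ((p : ℤ) ^ m - ε) ∣ ((orb H v₁).ncard : ℤ) ∧ ((p : ℤ) ^ m - ε) ∣ ((orb H v₂).ncard : ℤ) := by
  have hs1 : ∀ c : ZMod p, c ≠ 0 → c • v₁ ∈ orb H v₁ := by
    intro c hc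
    rcases hall (c • v₁) (smul_ne_zero hc hv₁) with h | ⟨h, hh, he⟩
    · exact h
    · exfalso
      refine hns c⁻¹ (inv_ne_zero hc) h⁻¹ (H.inv_mem hh) ?_
      have h1 : v₁ = c⁻¹ • h v₂ := by rw [he, smul_smul, inv_mul_cancel₀ hc, one_smul]
      rw [h1, map_smul]
      congr 1
      exact h.symm_apply_apply v₂
  have hs2 : ∀ c : ZMod p, c ≠ 0 → c • v₂ ∈ orb H v₂ := by
    intro c hc
    rcases hall (c • v₂) (smul_ne_zero hc hv₂) with ⟨h, hh, he⟩ | h
    · exact absurd he (hns c hc h hh)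
    · exact h
  refine ⟨hs1, hs2, ?_⟩
  have hsn := scal_normal (p := p) (V := V)
  let Γ : Subgroup (V ≃ₗ[ZMod p] V) := H ⊔ (scal (p := p) (V := V)).range
  have hΓm : ∀ g ∈ Γ, ∃ h ∈ H, ∃ c : ZMod p, c ≠ 0 ∧ ∀ v, g v = h (c • v) := by
    intro g hg
    obtain ⟨h, hh, z, ⟨a, rfl⟩, rfl⟩ := Subgroup.mem_sup_of_normal_right.1 hg
    exact ⟨h, hh, a, a.ne_zero, fun v => rfl⟩
  have horb : ∀ v : V, (∀ c : ZMod p, c ≠ 0 → c • v ∈ orb H v) → orb Γ v = orb H v := by
    intro v hv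
    ext w
    constructor
    · rintro ⟨g, hg, rfl⟩
      obtain ⟨h, hh, c, hc, he⟩ := hΓm g hg
      obtain ⟨k, hk, hkv⟩ := hv c hc
      exact ⟨h * k, H.mul_mem hh hk, by rw [he, ← hkv]; rfl⟩
    · rintro ⟨h, hh, rfl⟩
      exact ⟨h, (le_sup_left : H ≤ Γ) hh, rfl⟩
  have key := two_weight_scalars hp3 hn Γ (not_dvd_sup H hpH)
    (fun c hc => ⟨scal (Units.mk0 c hc), (le_sup_right : (scal (p := p) (V := V)).range ≤ Γ)
      ⟨_, rfl⟩, fun v => rfl⟩) hv₁ hv₂ ?_ ?_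
  · rw [horb v₁ hs1, horb v₂ hs2] at key
    exact key
  · intro g hg he
    have h1 : v₂ ∈ orb Γ v₁ := ⟨g, hg, he⟩
    rw [horb v₁ hs1] at h1
    obtain ⟨h, hh, h2⟩ := h1
    exact hne h hh h2
  · intro w hw
    rcases hall w hw with ⟨h, hh, he⟩ | ⟨h, hh, he⟩
    · exact Or.inl ⟨h, (le_sup_left : H ≤ Γ) hh, he⟩
    · exact Or.inr ⟨h, (le_sup_left : H ≤ Γ) hh, he⟩

end Cfsg.Agent.H697.ThreeDual
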