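import Cfsg.Agent.H697.Hering
import Cfsg.Agent.H697.ThreeDual

/-!
# `p'`-groups of matrices of order divisible by a large primitive prime divisor
-/

set_option autoImplicit false
set_option linter.style.haveILetI false

universe u

namespace Cfsg.Agent.H697.ThreePpd

open Module
open Cfsg.Agent.PermutationGroups.RegularLinear
open Cfsg.Agent.LieRecognition.FT61
open Cfsg.Agent.H697.Three Cfsg.Agent.H697.ThreeDual

variable {p : ℕ} [hp : Fact p.Prime] {V : Type u} [AddCommGroup V] [Module (ZMod p) V] [Finite V]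

/-- A reducible subgroup of the centraliser of an irreducible element of prime order is small. -/
theorem card_reducible (H : Subgroup (V ≃ₗ[ZMod p] V)) {s : ℕ} (hs : s.Prime)
    (hsn : s ∣ p ^ finrank (ZMod p) V - 1)
    (hsd : ∀ d, 0 < d → d < finrank (ZMod p) V → ¬ s ∣ p ^ d - 1) (x : H) (hx : orderOf x = s)
    (K : Subgroup H) (hKx : ∀ g ∈ K, g * x = x * g) (W : Submodule (ZMod p) V) (hW0 : W ≠ ⊥)
    (hW1 : W ≠ ⊤) (hW : ∀ a ∈ K, ∀ v ∈ W, ((a : H) : V ≃ₗ[ZMod p] V) v ∈ W) :
    (Nat.card K + 1) ^ 2 ≤ p ^ finrank (ZMod p) V := by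
  classical
  have hfinG : Finite (V ≃ₗ[ZMod p] V) := finite_gl
  have : Module.Finite (ZMod p) V := Module.Finite.of_finite
  let E : H → End (ZMod p) V := fun a => ((a : V ≃ₗ[ZMod p] V) : End (ZMod p) V)
  have hEmul : ∀ a b : H, E (a * b) = E a * E b := fun _ _ => rfl
  have hE1 : E 1 = 1 := rfl
  have hEpow : ∀ (a : H) (k : ℕ), E (a ^ k) = E a ^ k := by
    intro a k
    induction k with
    | zero => rw [pow_zero, pow_zero, hE1]
    | succ k ih => rw [pow_succ, pow_succ, hEmul, ih]
  have hEinj : Function.Injective E := by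
    intro a b hab
    apply Subtype.ext
    apply LinearEquiv.ext
    intro v
    exact DFunLike.congr_fun hab v
  have hg : E x ^ s = 1 := by rw [← hEpow, ← hx, pow_orderOf_eq_one, hE1]
  have hg1 : E x ≠ 1 := by
    intro h
    have h1 : x = 1 := hEinj (h.trans hE1.symm)
    rw [h1, orderOf_one] at hx
    exact hs.one_lt.ne hx
  have hcardF : Nat.card (ZMod p) = p := Nat.card_zmod p
  have hinj : ∀ u ∈ K, ∀ v ∈ K, u ≠ v → Function.Injective (E u - E v) := by
    intro u hu v hv huv
    refine LieExceptional.SingerCentralizer.injective_of_commute hs hg hg1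
      (by rw [hcardF]; exact hsn) (by rw [hcardF]; exact hsd) (a := E u - E v) ?_ ?_
    · have h1 : Commute (E u) (E x) := by
        show E u * E x = E x * E u
        rw [← hEmul, ← hEmul, hKx u hu]
      have h2 : Commute (E v) (E x) := by
        show E v * E x = E x * E v
        rw [← hEmul, ← hEmul, hKx v hv]
      exact h1.sub_left h2
    · intro h
      exact huv (hEinj (sub_eq_zero.1 h))
  have hsubW : ∀ u ∈ K, ∀ v ∈ K, ∀ w ∈ W, (E u - E v) w ∈ W := by
    intro u hu v hv w hw
    rw [LinearMap.sub_apply]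
    exact W.sub_mem (hW u hu w hw) (hW v hv w hw)
  -- the subspace
  have h1 : Nat.card K + 1 ≤ Nat.card W := by
    obtain ⟨w, hwW, hw0⟩ := W.exists_mem_ne_zero_of_ne_bot hW0
    let f : Option K → W := fun o => match o with
      | none => 0
      | some u => ⟨((u : H) : V ≃ₗ[ZMod p] V) w, hW u u.2 w hwW⟩
    have hf : Function.Injective f := by
      intro a b hab
      match a, b with
      | none, none => rfl
      | none, some u =>
        exfalso
        apply hw0
        have h2 : (0 : V) = ((u : H) : V ≃ₗ[ZMod p] V) w := congrArg Subtype.val hab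
        exact ((u : H) : V ≃ₗ[ZMod p] V).injective (h2.symm.trans (map_zero _).symm)
      | some u, none =>
        exfalso
        apply hw0
        have h2 : ((u : H) : V ≃ₗ[ZMod p] V) w = 0 := congrArg Subtype.val hab
        exact ((u : H) : V ≃ₗ[ZMod p] V).injective (h2.trans (map_zero _).symm)
      | some u, some v =>
        by_contra hne
        have huv : (u : H) ≠ v := fun h => hne (congrArg some (Subtype.ext h))
        have h2 : ((u : H) : V ≃ₗ[ZMod p] V) w = ((v : H) : V ≃ₗ[ZMod p] V) w :=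
          congrArg Subtype.val hab
        apply hw0
        apply hinj u u.2 v v.2 huv
        rw [map_zero, LinearMap.sub_apply, sub_eq_zero]
        exact h2
    have h2 := Nat.card_le_card_of_injective f hf
    rwa [Finite.card_option] at h2
  have h2 : Nat.card K + 1 ≤ Nat.card (V ⧸ W) := by
    obtain ⟨w, hw⟩ : ∃ w, w ∉ W := by
      by_contra h
      push Not at h
      exact hW1 (Submodule.eq_top_iff'.2 h)
    have hinvW : ∀ u ∈ K, ((u : H) : V ≃ₗ[ZMod p] V) w ∉ W := by
      intro u hu h
      apply hw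
      have h3 := hW u⁻¹ (K.inv_mem hu) _ h
      have h4 : ((u⁻¹ : H) : V ≃ₗ[ZMod p] V) (((u : H) : V ≃ₗ[ZMod p] V) w) = w :=
        ((u : H) : V ≃ₗ[ZMod p] V).symm_apply_apply w
      rwa [h4] at h3
    let f : Option K → V ⧸ W := fun o => match o with
      | none => 0
      | some u => W.mkQ (((u : H) : V ≃ₗ[ZMod p] V) w)
    have hf : Function.Injective f := by
      intro a b hab
      match a, b with
      | none, none => rfl
      | none, some u =>
        exfalso
        have h3 : (0 : V ⧸ W) = W.mkQ (((u : H) : V ≃ₗ[ZMod p] V) w) := hab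
        exact hinvW u u.2 ((Submodule.Quotient.mk_eq_zero W).1 h3.symm)
      | some u, none =>
        exfalso
        have h3 : W.mkQ (((u : H) : V ≃ₗ[ZMod p] V) w) = 0 := hab
        exact hinvW u u.2 ((Submodule.Quotient.mk_eq_zero W).1 h3)
      | some u, some v =>
        by_contra hne
        have huv : (u : H) ≠ v := fun h => hne (congrArg some (Subtype.ext h))
        have h3 : W.mkQ (((u : H) : V ≃ₗ[ZMod p] V) w) = W.mkQ (((v : H) : V ≃ₗ[ZMod p] V) w) := hab
        rw [Submodule.mkQ_apply, Submodule.mkQ_apply, Submodule.Quotient.eq] at h3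
        have h4 : (E u - E v) w ∈ W := h3
        -- surjectivity on `W`
        let g : W → W := fun y => ⟨(E u - E v) y, hsubW u u.2 v v.2 y y.2⟩
        have hgi : Function.Injective g := by
          intro a b hab
          exact Subtype.ext (hinj u u.2 v v.2 huv (congrArg Subtype.val hab))
        obtain ⟨y, hy⟩ := Finite.surjective_of_injective hgi ⟨_, h4⟩
        have h5 : (E u - E v) y = (E u - E v) w := congrArg Subtype.val hy
        have h6 := hinj u u.2 v v.2 huv h5
        rw [← h6] at hw
        exact hw y.2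
    have hfq : Finite (V ⧸ W) := Finite.of_surjective W.mkQ W.mkQ_surjective
    have h3 := Nat.card_le_card_of_injective f hf
    rwa [Finite.card_option] at h3
  have h3 : Nat.card W * Nat.card (V ⧸ W) = p ^ finrank (ZMod p) V := by
    rw [← Hering.card_eq (p := p) (V := V)]
    exact (Submodule.card_eq_card_quotient_mul_card W).symm
  rw [← h3, sq]
  exact Nat.mul_le_mul h1 h2

/-- **Groups with a large primitive prime divisor.** -/
theorem ppd_main [Nontrivial V] (H : Subgroup (V ≃ₗ[ZMod p] V)) (hpH : ¬ p ∣ Nat.card H)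
    (hn : 3 ≤ finrank (ZMod p) V) {s : ℕ} (hs : s.Prime) (hsn : s ∣ p ^ finrank (ZMod p) V - 1)
    (hsd : ∀ d, 0 < d → d < finrank (ZMod p) V → ¬ s ∣ p ^ d - 1)
    (hslarge : finrank (ZMod p) V + 1 < s ∨ s ^ 2 ∣ Nat.card H) (hsD : s ∣ Nat.card H) :
    (∃ A : Subgroup H, A.Normal ∧ IsCyclic A ∧ Nat.card H ≤ finrank (ZMod p) V * Nat.card A) ∨
    (s = 2 * finrank (ZMod p) V + 1 ∧ ∃ K : Subgroup H, (Nat.card K + 1) ^ 2 ≤ p ^ finrank (ZMod p) V ∧
      Nat.card H = Nat.card K * (s * finrank (ZMod p) V) * (s + 1)) := by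
  classical
  have hp' : p.Prime := Fact.out
  have hfinG : Finite (V ≃ₗ[ZMod p] V) := finite_gl
  have hsf : Fact s.Prime := ⟨hs⟩
  obtain ⟨σ, hσ⟩ : ∃ σ : H →* GL (Fin (finrank (ZMod p) V)) (ZMod p), Function.Injective σ :=
    Hering.exists_toGL H
  have hcop : (Nat.card H).Coprime p := by
    rw [Nat.coprime_comm]
    exact (Nat.Prime.coprime_iff_not_dvd hp').2 hpH
  have hns := HeringMat.dvd_sub_one hs hp'.pos (by omega) hsn hsd
  obtain ⟨P⟩ : Nonempty (Sylow s H) := inferInstance
  have hsize : (2 * finrank (ZMod p) V < s ∧ 7 ≤ s) ∨ s ^ 2 ∣ Nat.card H := by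
    rcases hslarge with h1 | h1
    · left
      obtain ⟨c, hc⟩ := hns
      have h2 : 2 ≤ c := by
        by_contra h3
        have h4 : c = 0 ∨ c = 1 := by omega
        rcases h4 with rfl | rfl
        · omega
        · omega
      have h3 : finrank (ZMod p) V * 2 ≤ finrank (ZMod p) V * c := Nat.mul_le_mul le_rfl h2
      omega
    · exact Or.inr h1
  have hPne : (P : Subgroup H) ≠ ⊥ := by
    intro h
    have h1 := P.dvd_card_of_dvd_card hsD
    rw [h, Subgroup.card_bot] at h1
    exact hs.one_lt.ne' (Nat.dvd_one.1 h1)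
  have hcyc : ∀ z : H, orderOf z = s → IsCyclic (Subgroup.centralizer ({z} : Set H)) := fun z hz =>
    HeringMat.isCyclic_centralizer σ hσ hs hsn hsd hz
  have fin : (P : Subgroup H).Normal → ∃ A : Subgroup H, A.Normal ∧ IsCyclic A ∧
      Nat.card H ≤ finrank (ZMod p) V * Nat.card A := by
    intro hPn
    obtain ⟨x, hxP, hxs, hxc⟩ := Grp.exists_central_orderOf P hPne
    have hPcyc := Grp.isCyclic_sylow hcyc P hPne
    have hnorm : ∀ g : H, g ∈ Subgroup.normalizer ((Subgroup.zpowers x : Subgroup H) : Set H) := by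
      have h1 : ∀ g : H, g * x * g⁻¹ ∈ Subgroup.zpowers x := by
        intro g
        have h2 : g * x * g⁻¹ ∈ (P : Subgroup H) := hPn.conj_mem x hxP g
        have h3 : orderOf (g * x * g⁻¹) = orderOf x := by
          have h4 : g * x * g⁻¹ = MulAut.conj g x := rfl
          rw [h4]
          exact MulEquiv.orderOf_eq (MulAut.conj g) x
        rw [← Grp.zpowers_eq_of_orderOf hPcyc h2 hxP h3]
        exact Subgroup.mem_zpowers _
      have h2 : ∀ g : H, ∀ y ∈ Subgroup.zpowers x, g * y * g⁻¹ ∈ Subgroup.zpowers x := by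
        rintro g _ ⟨m, rfl⟩
        show g * x ^ m * g⁻¹ ∈ Subgroup.zpowers x
        rw [← conj_zpow]
        exact Subgroup.zpow_mem _ (h1 g) m
      intro g
      rw [Subgroup.mem_normalizer_iff]
      intro y
      refine ⟨h2 g y, fun hy => ?_⟩
      have := h2 g⁻¹ _ hy
      simpa [mul_assoc] using this
    have hnorm2 : Subgroup.normalizer
        ((Subgroup.centralizer ({x} : Set H) : Subgroup H) : Set H) = ⊤ := by
      rw [eq_top_iff]
      intro g _
      exact HeringMat.normalizer_zpowers_le x (hnorm g)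
    refine ⟨Subgroup.centralizer ({x} : Set H), Subgroup.normalizer_eq_top_iff.1 hnorm2,
      hcyc x hxs, ?_⟩
    have h1 := HeringMat.card_normalizer_le σ hσ hs hsn hsd hxs
    rw [hnorm2, Subgroup.card_top] at h1
    exact h1
  rcases HeringMat.sylow_normal_or σ hσ hcop (by omega) hsn hsd hsize hsD P with h1 |
    ⟨hs2n, K, x, hK, hPx, hxs, hxK, hKx, hcard⟩
  · exact Or.inl (fin h1)
  · by_cases hirr : ∀ W : Submodule (ZMod p) V,
        (∀ a ∈ K, ∀ v ∈ W, ((a : H) : V ≃ₗ[ZMod p] V) v ∈ W) → W = ⊥ ∨ W = ⊤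
    · left
      apply fin
      have h1 := centralizer_comm_of_irreducible H K hirr
      apply Grp.normal_of_le_comm P (Subgroup.centralizer (K : Set H)) inferInstance
      · intro a ha b hb
        exact congrArg Subtype.val (h1.is_comm.comm ⟨a, ha⟩ ⟨b, hb⟩)
      · rw [hPx, Subgroup.zpowers_le, Subgroup.mem_centralizer_iff]
        intro g hg
        exact hKx g hg
    · right
      push Not at hirr
      obtain ⟨W, hW, hW0, hW1⟩ := hirr
      exact ⟨hs2n, K, card_reducible H hs hsn hsd x hxs K hKx W hW0 hW1 hW, hcard⟩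

end Cfsg.Agent.H697.ThreePpd
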