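import Mathlib

/-!
# Two-intersection sets over the prime field with orbit lengths prime to `p`
-/

set_option autoImplicit false

namespace Cfsg.Agent.H697.ThreeWeight

open Module Finset

section arith

/-- One labelling of the arithmetic. -/
private theorem key {P : ℤ} (hP3 : 3 ≤ P) (j : ℕ) {a b x y η : ℤ} (hη : η = 1 ∨ η = -1)
    (hab : a + b = P ^ 2 * (P ^ j * P ^ j) - 1) (da : (P - 1) ∣ a) (hy : (P - 1) ∣ y)
    (hxy : x - y = (P - 1) * (η * P ^ j))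
    (h1 : a * x + b * y = a * (P * (P ^ j * P ^ j) - 1)) : (P ^ (j + 1) - η) ∣ a := by
  have hη2 : η ^ 2 = 1 := by rcases hη with rfl | rfl <;> norm_num
  obtain ⟨y', hy'⟩ := hy
  obtain ⟨a', ha'⟩ := da
  have hx : x = y + (P - 1) * (η * P ^ j) := by linear_combination hxy
  have h2 : (P ^ 2 * (P ^ j * P ^ j) - 1) * y =
      a * (P * (P ^ j * P ^ j) - 1 - (P - 1) * (η * P ^ j)) := by
    rw [← hab]
    rw [hx] at h1
    linear_combination h1
  have h3 : (P * P ^ j + η) * ((P * P ^ j - η) * y) = (P * P ^ j + η) * (a * (P ^ j - η)) := by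
    linear_combination h2 + (a - y) * hη2
  have hne : P * P ^ j + η ≠ 0 := by
    have h7 : (1 : ℤ) ≤ P ^ j := one_le_pow₀ (by linarith)
    have h8 : (3 : ℤ) ≤ P * P ^ j := by nlinarith
    rcases hη with rfl | rfl
    · linarith
    · linarith
  have h4 := mul_left_cancel₀ hne h3
  have hp1' : P - 1 ≠ 0 := by linarith
  have h5 : (P * P ^ j - η) * y' = a' * (P ^ j - η) := by
    apply mul_left_cancel₀ hp1'
    linear_combination h4 + (P ^ j - η) * ha' - (P * P ^ j - η) * hy'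
  have h6 : (P * P ^ j - η) ∣ η * a := by
    refine ⟨a' - P * y', ?_⟩
    linear_combination P * h5 + η * ha'
  have h7 : (P * P ^ j - η) ∣ a := by
    have h8 : a = η * (η * a) := by linear_combination (-a) * hη2
    rw [h8]
    exact Dvd.dvd.mul_left h6 η
  have h8 : P ^ (j + 1) - η = P * P ^ j - η := by ring
  rw [h8]
  exact h7

private theorem fin' {P : ℤ} (j : ℕ) {a b η : ℤ} (hη : η = 1 ∨ η = -1)
    (hab : a + b = P ^ 2 * (P ^ j * P ^ j) - 1) (h : (P ^ (j + 1) - η) ∣ a) :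
    (P ^ (j + 1) - η) ∣ b := by
  have hη2 : η ^ 2 = 1 := by rcases hη with rfl | rfl <;> norm_num
  have h1 : (P ^ (j + 1) - η) ∣ a + b := by
    refine ⟨P ^ (j + 1) + η, ?_⟩
    rw [hab]
    linear_combination hη2
  exact (dvd_add_right h).1 h1

set_option maxHeartbeats 1000000 in
/-- The arithmetic of two-intersection sets. `q = p ^ (n - 2)`. -/
theorem arith {p n : ℕ} (hp : p.Prime) (hp3 : 3 ≤ p) (hn : 2 ≤ n) {a b A B x1 x2 u1 u2 : ℤ}
    (ha : 0 < a) (hb : 0 < b) (hA : 0 < A) (hB : 0 < B)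
    (hab : a + b = p ^ n - 1) (hAB : A + B = p ^ n - 1)
    (e1 : A * x1 + B * x2 = a * (p ^ (n - 1) - 1))
    (e2 : A * x1 ^ 2 + B * x2 ^ 2 =
      a * ((p - 1) * (p ^ (n - 1) - 1) + (a - p + 1) * (p ^ (n - 2) - 1)))
    (e3 : a * u1 = A * x1) (e4 : a * u1 + b * u2 = A * (p ^ (n - 1) - 1))
    (da : ((p : ℤ) - 1) ∣ a) (dx1 : ((p : ℤ) - 1) ∣ x1) (dx2 : ((p : ℤ) - 1) ∣ x2)
    (du1 : ((p : ℤ) - 1) ∣ u1) (du2 : ((p : ℤ) - 1) ∣ u2)
    (pa : ¬ (p : ℤ) ∣ a) (pb : ¬ (p : ℤ) ∣ b) (pA : ¬ (p : ℤ) ∣ A) (pB : ¬ (p : ℤ) ∣ B) :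
    ∃ (m : ℕ) (ε : ℤ), (ε = 1 ∨ ε = -1) ∧ n = 2 * m ∧ ((p : ℤ) ^ m - ε) ∣ a ∧
      ((p : ℤ) ^ m - ε) ∣ b := by
  have hpZ : Prime (p : ℤ) := Nat.prime_iff_prime_int.1 hp
  have hp1 : (p : ℤ) - 1 ≠ 0 := by
    have : (3 : ℤ) ≤ p := by exact_mod_cast hp3
    omega
  obtain ⟨k, rfl⟩ : ∃ k, n = k + 2 := ⟨n - 2, by omega⟩
  simp only [Nat.add_sub_cancel, show k + 2 - 1 = k + 1 by omega] at e1 e2 e4
  set P : ℤ := (p : ℤ) with hP
  set q : ℤ := P ^ k with hq
  have hq1 : P ^ (k + 1) = P * q := by rw [hq]; ring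
  have hq2 : P ^ (k + 2) = P ^ 2 * q := by rw [hq]; ring
  rw [hq1] at e1 e2 e4
  rw [hq2] at hab hAB
  have hqpos : 0 < q := by
    rw [hq]
    apply pow_pos
    rw [hP]
    exact_mod_cast hp.pos
  -- the basic identity
  have E : A * B * (x1 - x2) ^ 2 = (P - 1) ^ 2 * q * (a * b) := by
    have h1 : A * B * (x1 - x2) ^ 2 =
        (A + B) * (A * x1 ^ 2 + B * x2 ^ 2) - (A * x1 + B * x2) ^ 2 := by ring
    have hb' : b = P ^ 2 * q - 1 - a := by linarith
    rw [h1, hAB, e2, e1, hb']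
    ring
  have hAB0 : A * B ≠ 0 := (mul_pos hA hB).ne'
  have hab0 : a * b ≠ 0 := (mul_pos ha hb).ne'
  have E2 : a * b * (u1 - u2) = A * B * (x1 - x2) := by
    have h1 : b * u2 = A * (P * q - 1) - A * x1 := by linarith
    have h2 : a * b * (u1 - u2) = b * (a * u1) - a * (b * u2) := by ring
    rw [h2, e3, h1]
    have h3 : a * (P * q - 1) = A * x1 + B * x2 := e1.symm
    have h4 : b * (A * x1) - a * (A * (P * q - 1) - A * x1) =
        A * ((a + b) * x1 - a * (P * q - 1)) := by ring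
    rw [h4, hab, ← hAB, h3]
    ring
  have E3 : (u1 - u2) * (x1 - x2) = (P - 1) ^ 2 * q := by
    have h1 : a * b * ((u1 - u2) * (x1 - x2)) = a * b * ((P - 1) ^ 2 * q) := by
      calc a * b * ((u1 - u2) * (x1 - x2)) = (a * b * (u1 - u2)) * (x1 - x2) := by ring
        _ = A * B * (x1 - x2) ^ 2 := by rw [E2]; ring
        _ = a * b * ((P - 1) ^ 2 * q) := by rw [E]; ring
    exact mul_left_cancel₀ hab0 h1
  obtain ⟨X, hX⟩ := dvd_sub dx1 dx2
  obtain ⟨U, hU⟩ := dvd_sub du1 du2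
  have hp12 : (P - 1) ^ 2 ≠ 0 := pow_ne_zero 2 hp1
  have E4 : U * X = q := by
    rw [hX, hU] at E3
    have h1 : (P - 1) ^ 2 * (U * X) = (P - 1) ^ 2 * q := by rw [← E3]; ring
    exact mul_left_cancel₀ hp12 h1
  have E5 : A * B * X ^ 2 = q * (a * b) := by
    rw [hX] at E
    have h1 : (P - 1) ^ 2 * (A * B * X ^ 2) = (P - 1) ^ 2 * (q * (a * b)) := by
      calc (P - 1) ^ 2 * (A * B * X ^ 2) = A * B * ((P - 1) * X) ^ 2 := by ring
        _ = _ := by rw [E]; ring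
    exact mul_left_cancel₀ hp12 h1
  -- `X = ± p ^ j`
  have hXd : X ∣ P ^ k := ⟨U, by rw [← hq, ← E4]; ring⟩
  obtain ⟨j, hjk, hXj⟩ : ∃ j ≤ k, X = P ^ j ∨ X = -P ^ j := by
    obtain ⟨j, hj, hassoc⟩ := (dvd_prime_pow hpZ k).1 hXd
    exact ⟨j, hj, Int.associated_iff.1 hassoc⟩
  obtain ⟨ε, hε, hXε⟩ : ∃ ε : ℤ, (ε = 1 ∨ ε = -1) ∧ X = ε * P ^ j := by
    rcases hXj with h | h
    · exact ⟨1, Or.inl rfl, by rw [h]; ring⟩
    · exact ⟨-1, Or.inr rfl, by rw [h]; ring⟩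
  have hε2 : ε ^ 2 = 1 := by rcases hε with rfl | rfl <;> norm_num
  have hX2 : X ^ 2 = P ^ (2 * j) := by
    rw [hXε, mul_pow, hε2, one_mul, ← pow_mul]
    congr 1; ring
  rw [hX2, hq] at E5
  have hpAB : ¬ P ∣ A * B := fun h => (hpZ.dvd_or_dvd h).elim pA pB
  have hpab : ¬ P ∣ a * b := fun h => (hpZ.dvd_or_dvd h).elim pa pb
  have hkj : k = 2 * j := by
    have hP0 : P ≠ 0 := hpZ.ne_zero
    rcases lt_trichotomy k (2 * j) with h | h | h
    · exfalso
      obtain ⟨c, hc⟩ : ∃ c, 2 * j = k + (c + 1) := ⟨2 * j - k - 1, by omega⟩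
      rw [hc] at E5
      have h1 : P ^ k * (A * B * P ^ (c + 1)) = P ^ k * (a * b) := by rw [← E5]; ring
      have h2 := mul_left_cancel₀ (pow_ne_zero k hP0) h1
      exact hpab ⟨A * B * P ^ c, by rw [← h2]; ring⟩
    · exact h
    · exfalso
      obtain ⟨c, hc⟩ : ∃ c, k = 2 * j + (c + 1) := ⟨k - 2 * j - 1, by omega⟩
      rw [hc] at E5
      have h1 : P ^ (2 * j) * (A * B) = P ^ (2 * j) * (P ^ (c + 1) * (a * b)) := by
        rw [← mul_assoc (P ^ (2 * j)) (P ^ (c + 1)), ← pow_add, ← E5]; ring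
      have h2 := mul_left_cancel₀ (pow_ne_zero (2 * j) hP0) h1
      exact hpAB ⟨P ^ c * (a * b), by rw [h2]; ring⟩
  subst hkj
  have hABab : A * B = a * b := by
    have hP0 : P ≠ 0 := hpZ.ne_zero
    apply mul_left_cancel₀ (pow_ne_zero (2 * j) hP0)
    rw [← E5]; ring
  have hsum : A + B = a + b := by rw [hAB, hab]
  -- `A = a` or `A = b`
  have hqj : q = P ^ j * P ^ j := by rw [hq, ← pow_add]; congr 1; ring
  have hP3 : (3 : ℤ) ≤ P := by rw [hP]; exact_mod_cast hp3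
  have hab' : a + b = P ^ 2 * (P ^ j * P ^ j) - 1 := by rw [hab, hqj]
  have hcase : A = a ∨ A = b := by
    have h1 : (A - a) * (A - b) = 0 := by
      linear_combination A * hsum - hABab
    rcases mul_eq_zero.1 h1 with h | h
    · left; linear_combination h
    · right; linear_combination h
  rcases hcase with h | h
  · have hBb : B = b := by linear_combination hsum - h
    have h1 := key hP3 j (x := x1) (y := x2) hε hab' da dx2 (by rw [hX, hXε])
      (by rw [← hqj, ← e1, h, hBb])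
    exact ⟨j + 1, ε, hε, by ring, h1, fin' j hε hab' h1⟩
  · have hBa : B = a := by linear_combination hsum - h
    have hε' : -ε = 1 ∨ -ε = -1 := by rcases hε with rfl | rfl <;> simp
    have h1 := key hP3 j (x := x2) (y := x1) hε' hab' da dx1
      (by linear_combination (-1 : ℤ) * hX - (P - 1) * hXε)
      (by rw [← hqj, ← e1, h, hBa]; ring)
    exact ⟨j + 1, -ε, hε', by ring, h1, fin' j hε' hab' h1⟩

end arith

end Cfsg.Agent.H697.ThreeWeight
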