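import Cfsg.Agent.H275.TwoFix

/-!
# Groups all of whose nonidentity elements have exactly two fixed points: the classical list
-/

set_option autoImplicit false

namespace Cfsg.Agent.H697.Tricho

open MulAction Cfsg.Agent.ClassicalGeometry.DicksonCount Cfsg.Agent.H275.TwoFix

/-- The arithmetic of three orbits. -/
theorem arith {N a b c x y z : ℕ} (ha : a * x = N) (hb : b * y = N) (hc : c * z = N)
    (hx : 2 ≤ x) (hxy : x ≤ y) (hyz : y ≤ z) (hN : 0 < N) (h : N + 2 = a + b + c) :
    c = 2 ∨ N = 12 ∨ (N = 24 ∧ z = 4) ∨ (N = 60 ∧ z = 5) := by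
  have hmul : ∀ (n e k : ℕ), n * e = N → k ≤ e → n * k ≤ N := by
    intro n e k h1 h2
    rw [← h1]; exact Nat.mul_le_mul le_rfl h2
  have hx2 : x = 2 := by
    by_contra hne
    have h1 := hmul _ _ 3 ha (by omega)
    have h2 := hmul _ _ 3 hb (by omega)
    have h3 := hmul _ _ 3 hc (by omega)
    omega
  subst hx2
  have hy3 : y = 2 ∨ y = 3 := by
    by_contra hne
    push Not at hne
    have h2 := hmul _ _ 4 hb (by omega)
    have h3 := hmul _ _ 4 hc (by omega)
    omega
  rcases hy3 with rfl | rfl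
  · left; omega
  · right
    have h4 : 6 * c = N + 12 := by omega
    have hz5 : z ≤ 5 := by
      by_contra hcon
      have := hmul _ _ 6 hc (by omega)
      omega
    have hz3 : z = 3 ∨ z = 4 ∨ z = 5 := by omega
    rcases hz3 with rfl | rfl | rfl
    · left; omega
    · right; left; omega
    · right; right; omega

variable {G X : Type*} [Group G] [MulAction G X] [Finite G]

theorem tricho (h : TwoFixed G X) (hX : ∃ a b : X, a ≠ b) :
    (∃ a b : X, a ≠ b ∧ ∀ g : G, (g • a = a ∧ g • b = b) ∨ (g • a = b ∧ g • b = a)) ∨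
    Nat.card G = 12 ∨ (Nat.card G = 24 ∧ ∃ x : X, Nat.card (stabilizer G x) = 4) ∨
    (Nat.card G = 60 ∧ ∃ x : X, Nat.card (stabilizer G x) = 5) := by
  classical
  obtain ⟨S, R, hSR⟩ := exists_reps' h
  have hsum := sum_R h hSR
  set N := Nat.card G with hN
  have hne : ∀ r : X, Nat.card (orbit G r) * Nat.card (stabilizer G r) = N := fun r : X => card_orbit_mul r
  have he : ∀ r ∈ R, 2 ≤ Nat.card (stabilizer G r) := by
    intro r hr
    obtain ⟨g, hg, hgr⟩ := (hSR.mem r).1 (hSR.sub hr)
    have : Nontrivial (stabilizer G r) :=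
      ⟨⟨⟨g, hgr⟩, 1, fun hc => hg (congrArg Subtype.val hc)⟩⟩
    exact Finite.one_lt_card
  have hNpos : 0 < N := Nat.card_pos
  have hR3 : R.card ≤ 3 := by
    by_contra hcon
    push Not at hcon
    have h1 : ∑ r ∈ R, Nat.card (orbit G r) * 2 ≤ ∑ r ∈ R, N := by
      apply Finset.sum_le_sum
      intro r hr
      rw [← hne r]
      exact Nat.mul_le_mul le_rfl (he r hr)
    rw [← Finset.sum_mul, Finset.sum_const, smul_eq_mul] at h1
    have h5 : 4 * N ≤ R.card * N := Nat.mul_le_mul (by omega) le_rfl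
    omega
  have hpos : ∀ s : X, 0 < Nat.card (orbit G s) := by
    intro s
    apply Nat.pos_of_ne_zero
    intro h0
    have := hne s
    rw [h0] at this
    omega
  have hfix : ∀ x : X, Nat.card (orbit G x) = 1 → ∀ g : G, g • x = x := by
    intro x hx g
    rw [Nat.card_eq_one_iff_unique] at hx
    have := hx.1
    have h1 : (⟨g • x, mem_orbit _ _⟩ : orbit G x) = ⟨x, mem_orbit_self x⟩ := Subsingleton.elim _ _
    exact congrArg Subtype.val h1
  have htwo : ∀ x : X, Nat.card (orbit G x) = 2 →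
      ∃ a b : X, a ≠ b ∧ ∀ g : G, (g • a = a ∧ g • b = b) ∨ (g • a = b ∧ g • b = a) := by
    intro x hx
    rw [Nat.card_coe_set_eq, Set.ncard_eq_two] at hx
    obtain ⟨a, b, hab, hEq⟩ := hx
    refine ⟨a, b, hab, fun g => ?_⟩
    have hmem : ∀ y : X, y ∈ orbit G x → g • y ∈ orbit G x := by
      rintro _ ⟨c, rfl⟩
      exact ⟨g * c, mul_smul _ _ _⟩
    have h1 : g • a = a ∨ g • a = b := by
      have := hmem a (by rw [hEq]; simp)
      rw [hEq] at this
      simpa using this
    have h2 : g • b = a ∨ g • b = b := by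
      have := hmem b (by rw [hEq]; simp)
      rw [hEq] at this
      simpa using this
    rcases h1 with h1 | h1 <;> rcases h2 with h2 | h2
    · exact absurd (smul_left_cancel g (h1.trans h2.symm)) hab
    · exact Or.inl ⟨h1, h2⟩
    · exact Or.inr ⟨h1, h2⟩
    · exact absurd (smul_left_cancel g (h1.trans h2.symm)) hab
  obtain ⟨a₀, b₀, hab₀⟩ := hX
  interval_cases hRc : R.card
  · left
    have hR : R = ∅ := Finset.card_eq_zero.1 hRc
    rw [hR, Finset.sum_empty] at hsum
    have hN1 : N = 1 := by omega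
    have : Subsingleton G := (Nat.card_eq_one_iff_unique.1 hN1).1
    refine ⟨a₀, b₀, hab₀, fun g => Or.inl ?_⟩
    rw [Subsingleton.elim g 1, one_smul, one_smul]
    exact ⟨rfl, rfl⟩
  · exfalso
    obtain ⟨s, rfl⟩ := Finset.card_eq_one.1 hRc
    rw [Finset.sum_singleton] at hsum
    have h1 := hpos s
    have h2 := he s (by simp)
    have h3 := hne s
    have h4 : Nat.card (orbit G s) * 2 ≤ N := by rw [← h3]; exact Nat.mul_le_mul le_rfl h2
    omega
  · left
    obtain ⟨s, t, hst, rfl⟩ := Finset.card_eq_two.1 hRc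
    rw [Finset.sum_pair hst] at hsum
    have h1 := hpos s
    have h2 := hpos t
    have h3 : Nat.card (orbit G s) = 1 := by omega
    have h4 : Nat.card (orbit G t) = 1 := by omega
    exact ⟨s, t, hst, fun g => Or.inl ⟨hfix s h3 g, hfix t h4 g⟩⟩
  · -- three orbits
    obtain ⟨r, s, t, hrs, hrt, hst, hRR⟩ := Finset.card_eq_three.1 hRc
    have hr2 := he r (by rw [hRR]; simp)
    have hs2 := he s (by rw [hRR]; simp)
    have ht2 := he t (by rw [hRR]; simp)
    rw [hRR, Finset.sum_insert (by simp [hrs, hrt]), Finset.sum_pair hst] at hsum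
    have key : ∀ u v w : X, 2 ≤ Nat.card (stabilizer G u) →
        Nat.card (stabilizer G u) ≤ Nat.card (stabilizer G v) →
        Nat.card (stabilizer G v) ≤ Nat.card (stabilizer G w) →
        N + 2 = Nat.card (orbit G u) + Nat.card (orbit G v) + Nat.card (orbit G w) →
        (∃ a b : X, a ≠ b ∧ ∀ g : G, (g • a = a ∧ g • b = b) ∨ (g • a = b ∧ g • b = a)) ∨
        N = 12 ∨ (N = 24 ∧ ∃ x : X, Nat.card (stabilizer G x) = 4) ∨
        (N = 60 ∧ ∃ x : X, Nat.card (stabilizer G x) = 5) := by
      intro u v w h1 h2 h3 h4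
      rcases arith (hne u) (hne v) (hne w) h1 h2 h3 hNpos h4 with h5 | h5 | ⟨h5, h6⟩ | ⟨h5, h6⟩
      · exact Or.inl (htwo w h5)
      · exact Or.inr (Or.inl h5)
      · exact Or.inr (Or.inr (Or.inl ⟨h5, w, h6⟩))
      · exact Or.inr (Or.inr (Or.inr ⟨h5, w, h6⟩))
    rcases le_total (Nat.card (stabilizer G r)) (Nat.card (stabilizer G s)) with h1 | h1 <;>
    rcases le_total (Nat.card (stabilizer G r)) (Nat.card (stabilizer G t)) with h2 | h2 <;>
    rcases le_total (Nat.card (stabilizer G s)) (Nat.card (stabilizer G t)) with h3 | h3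
    · exact key r s t hr2 h1 h3 (by omega)
    · exact key r t s hr2 h2 h3 (by omega)
    · exact key r s t hr2 h1 h3 (by omega)
    · exact key t r s ht2 h2 h1 (by omega)
    · exact key s r t hs2 h1 h2 (by omega)
    · exact key s r t hs2 h1 h2 (by omega)
    · exact key s t r hs2 h3 h2 (by omega)
    · exact key t s r ht2 h3 h1 (by omega)

end Cfsg.Agent.H697.Tricho
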