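import Cfsg.Agent.H275.GLTwoFix
import Cfsg.Agent.H697.Tricho
import Cfsg.Agent.H697.ClassCount

/-!
# `p'`-subgroups of `GL₂(p)`: projection to the permutations of the projective line
-/

set_option autoImplicit false

namespace Cfsg.Agent.H697.TwoDim

open Matrix MulAction Cfsg.Agent.H275.TwoFix Cfsg.Agent.H275.GLTwoFix
open scoped OnePoint

section Vec

variable {K : Type*} [Field K] [DecidableEq K]

/-- A vector over a point of the projective line. -/
def vec (x : OnePoint K) : Fin 2 → K :=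
  match x with
  | ∞ => ![1, 0]
  | (k : K) => ![k, 1]

theorem vec_infty : vec (∞ : OnePoint K) = ![1, 0] := rfl
theorem vec_coe (k : K) : vec (k : OnePoint K) = ![k, 1] := rfl

theorem vec_ne_zero (x : OnePoint K) : vec x ≠ 0 := by
  intro h
  cases x with
  | infty =>
    have := congrFun h 0
    rw [vec_infty] at this
    simp at this
  | coe k =>
    have := congrFun h 1
    rw [vec_coe] at this
    simp at this

theorem eig (g : GL (Fin 2) K) (x : OnePoint K) (h : g • x = x) :
    ∃ c : K, (g : Matrix (Fin 2) (Fin 2) K) *ᵥ vec x = c • vec x := by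
  cases x with
  | infty =>
    rw [OnePoint.smul_infty_eq_self_iff] at h
    refine ⟨g 0 0, ?_⟩
    rw [vec_infty]
    ext i
    fin_cases i
    · simp [Matrix.mulVec_fin_two]
    · simp [Matrix.mulVec_fin_two, h]
  | coe k =>
    rw [← Matrix.GeneralLinearGroup.fixpointPolynomial_aeval_eq_zero_iff] at h
    simp [Matrix.GeneralLinearGroup.fixpointPolynomial] at h
    refine ⟨g 1 0 * k + g 1 1, ?_⟩
    rw [vec_coe]
    ext i
    fin_cases i
    · simp [Matrix.mulVec_fin_two]
      linear_combination -h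
    · simp [Matrix.mulVec_fin_two]

theorem det_vec_ne {x y : OnePoint K} (hxy : x ≠ y) : vec x 0 * vec y 1 - vec y 0 * vec x 1 ≠ 0 := by
  cases x with
  | infty =>
    cases y with
    | infty => exact absurd rfl hxy
    | coe l => rw [vec_infty, vec_coe]; simp
  | coe k =>
    cases y with
    | infty => rw [vec_infty, vec_coe]; simp
    | coe l =>
      rw [vec_coe, vec_coe]
      simp
      intro h
      apply hxy
      rw [sub_eq_zero] at h
      rw [h]

/-- Elements with two common fixed points commute. -/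
theorem commute_of_two (g h : GL (Fin 2) K) {x y : OnePoint K} (hxy : x ≠ y) (hgx : g • x = x)
    (hgy : g • y = y) (hhx : h • x = x) (hhy : h • y = y) : g * h = h * g := by
  obtain ⟨a, ha⟩ := eig g x hgx
  obtain ⟨b, hb⟩ := eig g y hgy
  obtain ⟨c, hc⟩ := eig h x hhx
  obtain ⟨d, hd⟩ := eig h y hhy
  apply Units.ext
  rw [Units.val_mul, Units.val_mul]
  set A := (g : Matrix (Fin 2) (Fin 2) K)
  set B := (h : Matrix (Fin 2) (Fin 2) K)
  have h1 : (A * B) *ᵥ vec x = (B * A) *ᵥ vec x := by
    rw [← Matrix.mulVec_mulVec, ← Matrix.mulVec_mulVec, hc, ha, Matrix.mulVec_smul,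
      Matrix.mulVec_smul, ha, hc, smul_smul, smul_smul, mul_comm]
  have h2 : (A * B) *ᵥ vec y = (B * A) *ᵥ vec y := by
    rw [← Matrix.mulVec_mulVec, ← Matrix.mulVec_mulVec, hd, hb, Matrix.mulVec_smul,
      Matrix.mulVec_smul, hb, hd, smul_smul, smul_smul, mul_comm]
  have hdet := det_vec_ne hxy
  have key : ∀ (C D : Matrix (Fin 2) (Fin 2) K), C *ᵥ vec x = D *ᵥ vec x → C *ᵥ vec y = D *ᵥ vec y →
      C = D := by
    intro C D h1 h2
    have e0 : ∀ i, (C i 0 - D i 0) * vec x 0 + (C i 1 - D i 1) * vec x 1 = 0 := by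
      intro i
      have := congrFun h1 i
      simp only [Matrix.mulVec, dotProduct, Fin.sum_univ_two] at this
      linear_combination this
    have e1 : ∀ i, (C i 0 - D i 0) * vec y 0 + (C i 1 - D i 1) * vec y 1 = 0 := by
      intro i
      have := congrFun h2 i
      simp only [Matrix.mulVec, dotProduct, Fin.sum_univ_two] at this
      linear_combination this
    have f0 : ∀ i, C i 0 - D i 0 = 0 := by
      intro i
      have : (C i 0 - D i 0) * (vec x 0 * vec y 1 - vec y 0 * vec x 1) = 0 := by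
        linear_combination vec y 1 * e0 i - vec x 1 * e1 i
      exact (mul_eq_zero.1 this).resolve_right hdet
    have f1 : ∀ i, C i 1 - D i 1 = 0 := by
      intro i
      have : (C i 1 - D i 1) * (vec x 0 * vec y 1 - vec y 0 * vec x 1) = 0 := by
        linear_combination vec x 0 * e1 i - vec y 0 * e0 i
      exact (mul_eq_zero.1 this).resolve_right hdet
    ext i j
    fin_cases j
    · exact sub_eq_zero.1 (f0 i)
    · exact sub_eq_zero.1 (f1 i)
  exact key _ _ h1 h2

end Vec

section Main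

variable {p : ℕ} [hp : Fact p.Prime]

/-- The action on the projective line. -/
noncomputable def pr (L : Subgroup (GL (Fin 2) (ZMod p))) : L →* Equiv.Perm (OnePoint (KK p)) :=
  (MulAction.toPermHom (GL (Fin 2) (KK p)) (OnePoint (KK p))).comp ((bc p).comp L.subtype)

theorem pr_apply (L : Subgroup (GL (Fin 2) (ZMod p))) (g : L) (x : OnePoint (KK p)) :
    pr L g x = bc p (g : GL (Fin 2) (ZMod p)) • x := rfl

theorem bc_injective : Function.Injective (bc p) := by
  intro a b hab
  apply Units.ext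
  ext i j
  have h1 := congrArg (fun c : GL (Fin 2) (KK p) => (c : Matrix (Fin 2) (Fin 2) (KK p)) i j) hab
  exact (algebraMap (ZMod p) (KK p)).injective h1

theorem mem_ker (L : Subgroup (GL (Fin 2) (ZMod p))) (g : L) : g ∈ (pr L).ker ↔
    ((g : GL (Fin 2) (ZMod p)) 1 0 = 0 ∧ (g : GL (Fin 2) (ZMod p)) 0 1 = 0 ∧
      (g : GL (Fin 2) (ZMod p)) 0 0 = (g : GL (Fin 2) (ZMod p)) 1 1) := by
  constructor
  · intro h
    apply scalar_of_bc_pow
    intro x
    have h1 : pr L g = 1 := h
    have h2 := congrArg (fun f : Equiv.Perm (OnePoint (KK p)) => f x) h1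
    exact h2
  · rintro ⟨h1, h2, h3⟩
    show pr L g = 1
    ext x
    rw [pr_apply]
    apply smul_eq_self_of_scalar
    · rw [bc_apply, h1, map_zero]
    · rw [bc_apply, h2, map_zero]
    · rw [bc_apply, bc_apply, h3]

theorem mul_apply' (g h : GL (Fin 2) (ZMod p)) (i j : Fin 2) :
    (g * h) i j = g i 0 * h 0 j + g i 1 * h 1 j := by
  have h1 : ((g * h : GL (Fin 2) (ZMod p)) : Matrix (Fin 2) (Fin 2) (ZMod p)) i j =
      ((g : Matrix (Fin 2) (Fin 2) (ZMod p)) * (h : Matrix (Fin 2) (Fin 2) (ZMod p))) i j := by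
    rw [Units.val_mul]
  rw [Matrix.mul_apply, Fin.sum_univ_two] at h1
  exact h1

/-- The scalar of an element of the kernel. -/
noncomputable def sc (L : Subgroup (GL (Fin 2) (ZMod p))) : (pr L).ker →* ZMod p where
  toFun g := ((g : L) : GL (Fin 2) (ZMod p)) 0 0
  map_one' := by simp
  map_mul' g h := by
    have h1 := (mem_ker L g).1 g.2
    show (((g : L) * (h : L) : L) : GL (Fin 2) (ZMod p)) 0 0 = _
    rw [Subgroup.coe_mul, mul_apply', h1.2.1, zero_mul, add_zero]

theorem coe_ker (L : Subgroup (GL (Fin 2) (ZMod p))) (g : (pr L).ker) :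
    (((g : L) : GL (Fin 2) (ZMod p)) : Matrix (Fin 2) (Fin 2) (ZMod p)) = sc L g • 1 := by
  obtain ⟨h1, h2, h3⟩ := (mem_ker L g).1 g.2
  ext i j
  fin_cases i <;> fin_cases j
  · simp [sc]
  · simpa using h2
  · simpa using h1
  · simp [sc]
    exact h3.symm

theorem sc_injective (L : Subgroup (GL (Fin 2) (ZMod p))) : Function.Injective (sc L) := by
  intro a b hab
  apply Subtype.ext
  apply Subtype.ext
  apply Units.ext
  rw [coe_ker, coe_ker, hab]

theorem card_ker_dvd (L : Subgroup (GL (Fin 2) (ZMod p))) : Nat.card (pr L).ker ∣ p - 1 := by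
  have h1 : Function.Injective (sc L).toHomUnits := by
    intro a b hab
    apply sc_injective L
    have := congrArg Units.val hab
    simpa using this
  have h2 := Subgroup.card_dvd_of_injective _ h1
  rwa [Nat.card_eq_fintype_card (α := (ZMod p)ˣ), ZMod.card_units] at h2

theorem card_mul (L : Subgroup (GL (Fin 2) (ZMod p))) :
    Nat.card L = Nat.card (pr L).range * Nat.card (pr L).ker := by
  rw [Subgroup.card_eq_card_quotient_mul_card_subgroup (pr L).ker]
  congr 1
  exact Nat.card_congr (QuotientGroup.quotientKerEquivRange (pr L)).toEquiv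

theorem twoFixed (hp2 : p ≠ 2) (L : Subgroup (GL (Fin 2) (ZMod p))) (hL : ¬ p ∣ Nat.card L) :
    TwoFixed (pr L).range (OnePoint (KK p)) := by
  rintro ⟨_, g, rfl⟩ hne
  have h1 : (bc p g) ^ Nat.card L = 1 := by
    have : g ^ Nat.card L = 1 := pow_card_eq_one'
    rw [← map_pow, ← Subgroup.coe_pow, this, Subgroup.coe_one, map_one]
  have h2 : ∃ x : OnePoint (KK p), bc p g • x ≠ x := by
    by_contra hcon
    push Not at hcon
    apply hne
    apply Subtype.ext
    ext x
    exact hcon x
  obtain ⟨x, y, hxy, h3⟩ := exists_two_fixed hp2 (bc p g) _ hL h1 h2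
  exact ⟨x, y, hxy, h3⟩

/-- Conjugacy of `g c` and `g c'`, `c`, `c'` scalars. -/
theorem conj_scalar (L : Subgroup (GL (Fin 2) (ZMod p))) (g : L) (c c' : (pr L).ker)
    (h : IsConj (g * (c : L)) (g * c')) : c = c' ∨ (sc L c' = - sc L c ∧
      Matrix.trace ((g : GL (Fin 2) (ZMod p)) : Matrix (Fin 2) (Fin 2) (ZMod p)) = 0) := by
  obtain ⟨t, ht⟩ := isConj_iff.1 h
  set G := ((g : GL (Fin 2) (ZMod p)) : Matrix (Fin 2) (Fin 2) (ZMod p)) with hG
  have e1 : ∀ d : (pr L).ker, (((g * (d : L) : L) : GL (Fin 2) (ZMod p)) :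
      Matrix (Fin 2) (Fin 2) (ZMod p)) = sc L d • G := by
    intro d
    rw [Subgroup.coe_mul, Units.val_mul, coe_ker, mul_smul_comm, mul_one]
  have htr : Matrix.trace (sc L c' • G) = Matrix.trace (sc L c • G) := by
    rw [← e1, ← e1, ← ht, Subgroup.coe_mul, Subgroup.coe_mul, Units.val_mul, Units.val_mul,
      Matrix.trace_mul_cycle, ← Units.val_mul, Subgroup.coe_inv, inv_mul_cancel, Units.val_one,
      one_mul]
  have hdet : Matrix.det (sc L c' • G) = Matrix.det (sc L c • G) := by
    rw [← e1, ← e1, ← ht, Subgroup.coe_mul, Subgroup.coe_mul, Units.val_mul, Units.val_mul,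
      Matrix.det_mul, Matrix.det_mul, mul_right_comm, ← Matrix.det_mul, ← Units.val_mul,
      Subgroup.coe_inv, mul_inv_cancel, Units.val_one, Matrix.det_one, one_mul]
  rw [Matrix.det_smul, Matrix.det_smul, Fintype.card_fin] at hdet
  have hG0 : Matrix.det G ≠ 0 := (g : GL (Fin 2) (ZMod p)).det_ne_zero
  have h2 : sc L c' ^ 2 = sc L c ^ 2 := mul_right_cancel₀ hG0 hdet
  rcases sq_eq_sq_iff_eq_or_eq_neg.1 h2 with h3 | h3
  · exact Or.inl (sc_injective L h3.symm)
  · by_cases h4 : sc L c' = sc L c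
    · exact Or.inl (sc_injective L h4.symm)
    · right
      refine ⟨h3, ?_⟩
      rw [Matrix.trace_smul, Matrix.trace_smul, smul_eq_mul, smul_eq_mul] at htr
      have h5 : (sc L c' - sc L c) * Matrix.trace G = 0 := by linear_combination htr
      exact (mul_eq_zero.1 h5).resolve_left (sub_ne_zero.2 h4)

/-- Trace zero: the image is an involution. -/
theorem orderOf_of_trace (hp2 : p ≠ 2) (L : Subgroup (GL (Fin 2) (ZMod p))) (g : L)
    (h : Matrix.trace ((g : GL (Fin 2) (ZMod p)) : Matrix (Fin 2) (Fin 2) (ZMod p)) = 0) :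
    orderOf (pr L g) = 2 := by
  have h2 : (2 : ZMod p) ≠ 0 := by
    have : ((2 : ℕ) : ZMod p) ≠ 0 := by
      rw [ne_eq, ZMod.natCast_eq_zero_iff]
      intro hc
      exact hp2 ((Nat.prime_dvd_prime_iff_eq hp.out Nat.prime_two).1 hc)
    exact_mod_cast this
  set G := ((g : GL (Fin 2) (ZMod p)) : Matrix (Fin 2) (Fin 2) (ZMod p)) with hG
  rw [Matrix.trace_fin_two] at h
  have hd : G 0 0 * G 1 1 - G 0 1 * G 1 0 ≠ 0 := by
    have := (g : GL (Fin 2) (ZMod p)).det_ne_zero
    rwa [Matrix.det_fin_two] at this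
  have hG11 : G 1 1 = - G 0 0 := by linear_combination h
  apply orderOf_eq_prime
  · rw [← map_pow]
    show g ^ 2 ∈ (pr L).ker
    rw [mem_ker, Subgroup.coe_pow]
    have e : ∀ i j, ((g : GL (Fin 2) (ZMod p)) ^ 2) i j = G i 0 * G 0 j + G i 1 * G 1 j := by
      intro i j
      rw [sq, mul_apply']
    rw [e, e, e, e, hG11]
    refine ⟨by ring, by ring, by ring⟩
  · intro h1
    have h3 : g ∈ (pr L).ker := h1
    rw [mem_ker] at h3
    obtain ⟨h4, h5, h6⟩ := h3
    change G 1 0 = 0 at h4
    change G 0 1 = 0 at h5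
    change G 0 0 = G 1 1 at h6
    apply hd
    rw [hG11] at h6
    have h7 : G 0 0 = 0 := by
      have : 2 * G 0 0 = 0 := by linear_combination h6
      exact (mul_eq_zero.1 this).resolve_left h2
    rw [h7, h4]; ring

/-- The classes whose image has order `d`. -/
def Cl (L : Subgroup (GL (Fin 2) (ZMod p))) (d : ℕ) : Type :=
  {c : ConjClasses L // ∃ g : L, ConjClasses.mk g = c ∧ orderOf (pr L g) = d}

theorem orderOf_conj (L : Subgroup (GL (Fin 2) (ZMod p))) {g h : L} (hgh : IsConj g h) :
    orderOf (pr L g) = orderOf (pr L h) := by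
  obtain ⟨c, hc⟩ := isConj_iff.1 hgh
  rw [← hc, map_mul, map_mul, map_inv]
  exact (MulEquiv.orderOf_eq (MulAut.conj (pr L c)) (pr L g)).symm

theorem finite_Cl (L : Subgroup (GL (Fin 2) (ZMod p))) (d : ℕ) : Finite (Cl L d) :=
  inferInstanceAs (Finite {c : ConjClasses L // ∃ g : L, ConjClasses.mk g = c ∧ orderOf (pr L g) = d})

theorem pr_mul_ker (L : Subgroup (GL (Fin 2) (ZMod p))) (g : L) (c : (pr L).ker) :
    pr L (g * (c : L)) = pr L g := by
  rw [map_mul, show pr L (c : L) = 1 from c.2, mul_one]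

theorem card_ker_le_of_ne_two (hp2 : p ≠ 2) (L : Subgroup (GL (Fin 2) (ZMod p))) {d : ℕ} (hd : d ≠ 2)
    (g : L) (hg : orderOf (pr L g) = d) : Nat.card (pr L).ker ≤ Nat.card (Cl L d) := by
  have := finite_Cl L d
  refine Nat.card_le_card_of_injective (fun c : (pr L).ker =>
    (⟨ConjClasses.mk (g * (c : L)), g * (c : L), rfl, by rw [pr_mul_ker, hg]⟩ : Cl L d)) ?_
  intro c c' hcc
  have h1 : ConjClasses.mk (g * (c : L)) = ConjClasses.mk (g * (c' : L)) := congrArg Subtype.val hcc
  rcases conj_scalar L g c c' (ConjClasses.mk_eq_mk_iff_isConj.1 h1) with h2 | ⟨-, h2⟩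
  · exact h2
  · exfalso
    apply hd
    rw [← hg]
    exact orderOf_of_trace hp2 L g h2

theorem card_ker_le_two_mul (L : Subgroup (GL (Fin 2) (ZMod p)))
    (g : L) (hg : orderOf (pr L g) = 2) : Nat.card (pr L).ker ≤ 2 * Nat.card (Cl L 2) := by
  classical
  have := finite_Cl L 2
  have := Fintype.ofFinite (Cl L 2)
  have := Fintype.ofFinite (pr L).ker
  let f : (pr L).ker → Cl L 2 := fun c =>
    ⟨ConjClasses.mk (g * (c : L)), g * (c : L), rfl, by rw [pr_mul_ker, hg]⟩
  have h1 := Finset.card_le_mul_card_image_of_maps_to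
    (s := (Finset.univ : Finset (pr L).ker)) (t := (Finset.univ : Finset (Cl L 2)))
    (f := f) (fun a _ => Finset.mem_univ _) 2 (by
      intro b _
      rcases (Finset.univ.filter fun a : (pr L).ker => f a = b).eq_empty_or_nonempty with h0 | ⟨a, ha⟩
      · rw [h0, Finset.card_empty]; exact Nat.zero_le _
      · have hfa : f a = b := (Finset.mem_filter.1 ha).2
        have h2 : (Finset.univ.filter fun c : (pr L).ker => f c = b).image (sc L) ⊆
            {sc L a, - sc L a} := by
          intro x hx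
          obtain ⟨c, hc, rfl⟩ := Finset.mem_image.1 hx
          have hfc : f c = b := (Finset.mem_filter.1 hc).2
          have h3 : ConjClasses.mk (g * (a : L)) = ConjClasses.mk (g * (c : L)) :=
            congrArg Subtype.val (hfa.trans hfc.symm)
          rcases conj_scalar L g a c (ConjClasses.mk_eq_mk_iff_isConj.1 h3) with h4 | ⟨h4, -⟩
          · rw [h4]; simp
          · rw [h4]; simp
        have h3 := Finset.card_le_card h2
        rw [Finset.card_image_of_injective _ (sc_injective L)] at h3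
        exact h3.trans Finset.card_le_two)
  rw [Finset.card_univ, Finset.card_univ, ← Nat.card_eq_fintype_card, ← Nat.card_eq_fintype_card] at h1
  exact h1

theorem sum_Cl_le (L : Subgroup (GL (Fin 2) (ZMod p))) (S : Finset ℕ) :
    ∑ d ∈ S, Nat.card (Cl L d) ≤ Nat.card (ConjClasses L) := by
  classical
  have := fun d => finite_Cl L d
  rw [← Finset.sum_coe_sort, ← Nat.card_sigma]
  refine Nat.card_le_card_of_injective (fun x : Σ d : S, Cl L d => (x.2.1 : ConjClasses L)) ?_
  rintro ⟨⟨d, hd⟩, ⟨c, g, hg, hgd⟩⟩ ⟨⟨d', hd'⟩, ⟨c', g', hg', hgd'⟩⟩ hcc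
  have hcc' : c = c' := hcc
  have h1 : IsConj g g' := ConjClasses.mk_eq_mk_iff_isConj.1 (by rw [hg, hg', hcc'])
  have h2 : d = d' := by
    have := orderOf_conj L h1
    change orderOf (pr L g) = d at hgd
    change orderOf (pr L g') = d' at hgd'
    rw [← hgd, ← hgd', this]
  subst h2
  subst hcc'
  rfl

end Main

end Cfsg.Agent.H697.TwoDim
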