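import Cfsg.Agent.H697.TwoDim
import Cfsg.Agent.S0003

/-!
# `p'`-subgroups of `GL₂(p)`: elements of order four, groups of order 60
-/

set_option autoImplicit false

namespace Cfsg.Agent.H697.TwoDim

open Matrix MulAction Cfsg.Agent.H275.TwoFix Cfsg.Agent.H275.GLTwoFix
open scoped OnePoint

section Four

variable {p : ℕ} [hp : Fact p.Prime]

/-- A point stabiliser of the image is cyclic. -/
theorem exists_orderOf (hp2 : p ≠ 2) (L : Subgroup (GL (Fin 2) (ZMod p))) (hL : ¬ p ∣ Nat.card L)
    (x : OnePoint (KK p)) : ∃ g : L,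
      orderOf (pr L g) = Nat.card (stabilizer (pr L).range x) := by
  classical
  have hfin : Finite L := inferInstance
  let T' : Subgroup L := (stabilizer (Equiv.Perm (OnePoint (KK p))) x).comap (pr L)
  have hT' : ∀ g : T', bc p ((g : L) : GL (Fin 2) (ZMod p)) • x = x := fun g => g.2
  have hv := vec_ne_zero x
  choose lam hlam using fun g : T' => eig (bc p ((g : L) : GL (Fin 2) (ZMod p))) x (hT' g)
  have huniq : ∀ c d : KK p, c • vec x = d • vec x → c = d := fun c d h => smul_left_injective _ hv h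
  have hcoe : ∀ g h : T', ((bc p (((g * h : T') : L) : GL (Fin 2) (ZMod p)) : GL (Fin 2) (KK p)) :
      Matrix (Fin 2) (Fin 2) (KK p)) = (bc p ((g : L) : GL (Fin 2) (ZMod p)) :
      Matrix (Fin 2) (Fin 2) (KK p)) * (bc p ((h : L) : GL (Fin 2) (ZMod p)) :
      Matrix (Fin 2) (Fin 2) (KK p)) := by
    intro g h
    rw [Subgroup.coe_mul, Subgroup.coe_mul, map_mul, Units.val_mul]
  have hlam1 : lam 1 = 1 := by
    apply huniq
    rw [← hlam, Subgroup.coe_one, Subgroup.coe_one, map_one, Units.val_one, Matrix.one_mulVec, one_smul]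
  have hlamm : ∀ g h, lam (g * h) = lam g * lam h := by
    intro g h
    apply huniq
    rw [← hlam, hcoe, ← Matrix.mulVec_mulVec, hlam, Matrix.mulVec_smul, hlam, smul_smul, mul_comm]
  let μ : T' →* KK p :=
    { toFun := fun g => lam g * lam g * (Matrix.det (bc p ((g : L) : GL (Fin 2) (ZMod p)) :
        Matrix (Fin 2) (Fin 2) (KK p)))⁻¹
      map_one' := by
        rw [hlam1, Subgroup.coe_one, Subgroup.coe_one, map_one, Units.val_one, Matrix.det_one]
        simp
      map_mul' := fun g h => by
        rw [hlamm, hcoe, Matrix.det_mul, mul_inv]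
        ring }
  have hμ : ∀ g : T', μ g = 1 ↔ pr L (g : L) = 1 := by
    intro g
    set M : Matrix (Fin 2) (Fin 2) (KK p) := (bc p ((g : L) : GL (Fin 2) (ZMod p)) :
        Matrix (Fin 2) (Fin 2) (KK p)) with hM
    have hd : Matrix.det M ≠ 0 := (bc p ((g : L) : GL (Fin 2) (ZMod p))).det_ne_zero
    have e0 : M 0 0 * vec x 0 + M 0 1 * vec x 1 = lam g * vec x 0 := by
      have := congrFun (hlam g) 0
      simp only [Matrix.mulVec, dotProduct, Fin.sum_univ_two, Pi.smul_apply, smul_eq_mul] at this
      exact this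
    have e1 : M 1 0 * vec x 0 + M 1 1 * vec x 1 = lam g * vec x 1 := by
      have := congrFun (hlam g) 1
      simp only [Matrix.mulVec, dotProduct, Fin.sum_univ_two, Pi.smul_apply, smul_eq_mul] at this
      exact this
    have hdet0 : (M 0 0 - lam g) * (M 1 1 - lam g) - M 0 1 * M 1 0 = 0 := by
      by_contra hne
      apply hv
      have h0 : ((M 0 0 - lam g) * (M 1 1 - lam g) - M 0 1 * M 1 0) * vec x 0 = 0 := by
        linear_combination (M 1 1 - lam g) * e0 - M 0 1 * e1
      have h1 : ((M 0 0 - lam g) * (M 1 1 - lam g) - M 0 1 * M 1 0) * vec x 1 = 0 := by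
        linear_combination (M 0 0 - lam g) * e1 - M 1 0 * e0
      ext i
      fin_cases i
      · exact (mul_eq_zero.1 h0).resolve_left hne
      · exact (mul_eq_zero.1 h1).resolve_left hne
    constructor
    · intro h
      have h1 : lam g * lam g * (Matrix.det M)⁻¹ = 1 := h
      have h2 : lam g * lam g = Matrix.det M := by
        rw [← div_eq_mul_inv, div_eq_one_iff_eq hd] at h1
        exact h1
      have hl0 : lam g ≠ 0 := by
        intro h0
        rw [h0, mul_zero] at h2
        exact hd h2.symm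
      rw [Matrix.det_fin_two] at h2
      have h3 : M 0 0 + M 1 1 = 2 * lam g := by
        apply mul_left_cancel₀ hl0
        linear_combination -hdet0 - h2
      have hsq : (M - lam g • (1 : Matrix (Fin 2) (Fin 2) (KK p))) *
          (M - lam g • (1 : Matrix (Fin 2) (Fin 2) (KK p))) = 0 := by
        ext i j
        rw [Matrix.mul_apply, Fin.sum_univ_two]
        fin_cases i <;> fin_cases j <;>
          simp [Matrix.sub_apply, Matrix.smul_apply]
        · linear_combination (M 0 0 - lam g) * h3 - hdet0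
        · linear_combination (M 0 1) * h3
        · linear_combination (M 1 0) * h3
        · linear_combination (M 1 1 - lam g) * h3 - hdet0
      have hpow : M ^ Nat.card L = 1 := by
        have : (g : L) ^ Nat.card L = 1 := pow_card_eq_one'
        rw [hM, ← Units.val_pow_eq_pow_val, ← map_pow, ← Subgroup.coe_pow, this, Subgroup.coe_one,
          map_one, Units.val_one]
      have hs := scalar_of_discr_eq_zero M (Nat.card L) hL hpow (lam g) hsq hl0
      ext y
      rw [pr_apply]
      apply smul_eq_self_of_scalar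
      · have := congrFun (congrFun hs 1) 0
        simpa using this
      · have := congrFun (congrFun hs 0) 1
        simpa using this
      · have e1 := congrFun (congrFun hs 0) 0
        have e2 := congrFun (congrFun hs 1) 1
        simp at e1 e2
        exact e1.trans e2.symm
    · intro h
      have h1 := (mem_ker L (g : L)).1 h
      obtain ⟨h2, h3, h4⟩ := h1
      have h2' : M 1 0 = 0 := by rw [hM, bc_apply, h2, map_zero]
      have h3' : M 0 1 = 0 := by rw [hM, bc_apply, h3, map_zero]
      have h4' : M 0 0 = M 1 1 := by rw [hM, bc_apply, bc_apply, h4]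
      have h5 : lam g = M 0 0 := by
        by_contra hne
        rw [h3', zero_mul, sub_zero, ← h4'] at hdet0
        have := mul_self_eq_zero.1 hdet0
        exact hne (sub_eq_zero.1 this).symm
      show lam g * lam g * (Matrix.det M)⁻¹ = 1
      rw [Matrix.det_fin_two, h2', h3', ← h4', h5, mul_zero, sub_zero]
      apply mul_inv_cancel₀
      rw [Matrix.det_fin_two, h2', h3', ← h4', mul_zero, sub_zero] at hd
      exact hd
  -- the kernels
  let ν : T' →* Equiv.Perm (OnePoint (KK p)) := (pr L).comp T'.subtype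
  let μ' := μ.toHomUnits
  have hμ' : ∀ g : T', μ' g = 1 ↔ ν g = 1 := by
    intro g
    refine Iff.trans ?_ (hμ g)
    have hval : ((μ' g : (KK p)ˣ) : KK p) = μ g := MonoidHom.coe_toHomUnits μ g
    constructor
    · intro h
      rw [← hval, h, Units.val_one]
    · intro h
      apply Units.ext
      rw [hval, h, Units.val_one]
  have hker : μ'.ker = ν.ker := by
    ext g
    exact hμ' g
  have hcard : Nat.card μ'.range = Nat.card ν.range := by
    rw [← Nat.card_congr (QuotientGroup.quotientKerEquivRange μ').toEquiv,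
      ← Nat.card_congr (QuotientGroup.quotientKerEquivRange ν).toEquiv, hker]
  have hν : Nat.card ν.range = Nat.card (stabilizer (pr L).range x) := by
    refine Nat.card_congr ⟨fun y => ⟨⟨y, ?_⟩, ?_⟩, fun y => ⟨y, ?_⟩, fun _ => rfl, fun _ => rfl⟩
    · obtain ⟨_, g, rfl⟩ := y
      exact ⟨(g : L), rfl⟩
    · obtain ⟨_, g, rfl⟩ := y
      exact hT' g
    · obtain ⟨⟨_, g, rfl⟩, hy⟩ := y
      exact ⟨⟨g, hy⟩, rfl⟩
  have : Finite μ'.range := inferInstance
  obtain ⟨u, hu⟩ := IsCyclic.exists_ofOrder_eq_natCard (α := μ'.range)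
  obtain ⟨_, g, rfl⟩ := u
  refine ⟨(g : L), ?_⟩
  rw [← hν, ← hcard, ← hu, ← Subgroup.orderOf_coe]
  show orderOf (ν g) = orderOf (μ' g)
  apply Nat.dvd_antisymm
  · apply orderOf_dvd_of_pow_eq_one
    rw [← map_pow, ← hμ', map_pow, pow_orderOf_eq_one]
  · apply orderOf_dvd_of_pow_eq_one
    rw [← map_pow, hμ', map_pow, pow_orderOf_eq_one]

end Four

section Sixty

variable {G : Type*} [Group G] [Finite G]

theorem normal_sylow_five {A : Type*} [Group A] [Finite A] {m : ℕ} (hm : m = 3 ∨ m = 4)
    (hA : Nat.card A = 5 * m) (Q : Sylow 5 A) : Nat.card Q = 5 ∧ (Q : Subgroup A).Normal := by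
  have : Fact (Nat.Prime 5) := ⟨Nat.prime_five⟩
  have hQ : Nat.card Q = 5 := by
    rw [Q.card_eq_multiplicity, hA]
    rcases hm with rfl | rfl
    · rw [show 5 * 3 = 5 ^ 1 * 3 by norm_num, Nat.factorization_mul (by norm_num) (by norm_num)]
      simp [Nat.factorization_eq_zero_of_not_dvd, Nat.prime_five]
    · rw [show 5 * 4 = 5 ^ 1 * 4 by norm_num, Nat.factorization_mul (by norm_num) (by norm_num)]
      simp [Nat.factorization_eq_zero_of_not_dvd, Nat.prime_five]
  refine ⟨hQ, ?_⟩
  have h1 := card_sylow_modEq_one 5 A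
  have h2 : Nat.card (Sylow 5 A) ∣ (Q : Subgroup A).index := Q.card_dvd_index
  have h3 : (Q : Subgroup A).index = m := by
    have := (Q : Subgroup A).card_mul_index
    rw [hA] at this
    have h4 : Nat.card (Q : Subgroup A) = 5 := hQ
    rw [h4] at this
    omega
  rw [h3] at h2
  have h4 : Nat.card (Sylow 5 A) = 1 := by
    have h5 : Nat.card (Sylow 5 A) ≤ m := Nat.le_of_dvd (by omega) h2
    have h6 : Nat.card (Sylow 5 A) % 5 = 1 := h1
    omega
  have : Subsingleton (Sylow 5 A) := (Nat.card_eq_one_iff_unique.1 h4).1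
  exact Sylow.normal_of_subsingleton Q

theorem dvd_normalizer (hG : Nat.card G = 60) (A : Subgroup G) {m : ℕ} (hm : m = 3 ∨ m = 4)
    (hA : Nat.card A = 5 * m) (P : Sylow 5 G) :
    5 * m ∣ Nat.card (Subgroup.normalizer ((P : Subgroup G) : Set G)) := by
  have : Fact (Nat.Prime 5) := ⟨Nat.prime_five⟩
  obtain ⟨Q⟩ : Nonempty (Sylow 5 A) := inferInstance
  obtain ⟨hQ, hQn⟩ := normal_sylow_five hm hA Q
  let Q' : Subgroup G := (Q : Subgroup A).map A.subtype
  have hQ'c : Nat.card Q' = 5 := by
    rw [Subgroup.card_map_of_injective A.subtype_injective]; exact hQ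
  have hfac : (Nat.card G).factorization 5 = 1 := by
    rw [hG, show 60 = 5 ^ 1 * 12 by norm_num, Nat.factorization_mul (by norm_num) (by norm_num)]
    simp [Nat.factorization_eq_zero_of_not_dvd, Nat.prime_five]
  let S : Sylow 5 G := Sylow.ofCard Q' (by rw [hQ'c, hfac, pow_one])
  have hS : (S : Subgroup G) = Q' := rfl
  have hAN : A ≤ Subgroup.normalizer ((S : Subgroup G) : Set G) := by
    rw [hS]
    have key : ∀ a : A, ∀ y ∈ Q', (a : G) * y * (a : G)⁻¹ ∈ Q' := by
      rintro a _ ⟨q, hq, rfl⟩
      exact ⟨a * q * a⁻¹, hQn.conj_mem q hq a, rfl⟩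
    intro a ha
    rw [Subgroup.mem_normalizer_iff]
    intro y
    refine ⟨key ⟨a, ha⟩ y, fun hy => ?_⟩
    have := key ⟨a, ha⟩⁻¹ _ hy
    simpa [mul_assoc] using this
  obtain ⟨g, rfl⟩ := MulAction.exists_smul_eq G S P
  have h1 : Nat.card (Subgroup.normalizer (((g • S : Sylow 5 G) : Subgroup G) : Set G)) =
      Nat.card (Subgroup.normalizer ((S : Subgroup G) : Set G)) := by
    have h2 : Nat.card (Sylow 5 G) =
      (Subgroup.normalizer (((g • S : Sylow 5 G) : Subgroup G) : Set G)).index :=
      Sylow.card_eq_index_normalizer (g • S)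
    have h3 : Nat.card (Sylow 5 G) = (Subgroup.normalizer ((S : Subgroup G) : Set G)).index :=
      Sylow.card_eq_index_normalizer S
    have h4 := (Subgroup.normalizer (((g • S : Sylow 5 G) : Subgroup G) : Set G)).card_mul_index
    have h5 := (Subgroup.normalizer ((S : Subgroup G) : Set G)).card_mul_index
    rw [← h2] at h4
    rw [← h3] at h5
    exact Nat.eq_of_mul_eq_mul_right Nat.card_pos (h4.trans h5.symm)
  rw [h1, ← hA]
  exact Subgroup.card_dvd_of_le hAN

/-- A solvable group of order 60 has a normal Sylow 5-subgroup. -/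
theorem normal_of_solvable_sixty (hG : Nat.card G = 60) (hs : Group.IsSolvable G) (P : Sylow 5 G) :
    (P : Subgroup G).Normal := by
  obtain ⟨A, hA⟩ := Cfsg.Agent.S0003.result (G := G) 15 4 (by rw [hG]) (by norm_num)
  obtain ⟨B, hB⟩ := Cfsg.Agent.S0003.result (G := G) 20 3 (by rw [hG]) (by norm_num)
  have h1 := dvd_normalizer hG A (m := 3) (Or.inl rfl) hA P
  have h2 := dvd_normalizer hG B (m := 4) (Or.inr rfl) hB P
  rw [← Subgroup.normalizer_eq_top_iff]
  apply Subgroup.eq_top_of_card_eq
  rw [hG]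
  have h3 : 60 ∣ Nat.card (Subgroup.normalizer ((P : Subgroup G) : Set G)) := by
    have : Nat.lcm (5 * 3) (5 * 4) ∣ Nat.card (Subgroup.normalizer ((P : Subgroup G) : Set G)) :=
      Nat.lcm_dvd h1 h2
    exact this
  have h4 : Nat.card (Subgroup.normalizer ((P : Subgroup G) : Set G)) ∣ 60 := by
    rw [← hG]; exact Subgroup.card_subgroup_dvd_card _
  exact Nat.dvd_antisymm h4 h3

/-- The icosahedral case is not solvable. -/
theorem not_solvable_of_twoFixed {X : Type*} [MulAction G X] (h : TwoFixed G X)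
    (hG : Nat.card G = 60) (x : X) (hx : Nat.card (stabilizer G x) = 5) : ¬ Group.IsSolvable G := by
  classical
  intro hs
  have : Fact (Nat.Prime 5) := ⟨Nat.prime_five⟩
  have hfac : (Nat.card G).factorization 5 = 1 := by
    rw [hG, show 60 = 5 ^ 1 * 12 by norm_num, Nat.factorization_mul (by norm_num) (by norm_num)]
    simp [Nat.factorization_eq_zero_of_not_dvd, Nat.prime_five]
  let S : Sylow 5 G := Sylow.ofCard (stabilizer G x) (by rw [hx, hfac, pow_one])
  have hn : (stabilizer G x).Normal := normal_of_solvable_sixty hG hs S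
  have hnt : Nontrivial (stabilizer G x) := Finite.one_lt_card_iff_nontrivial.1 (by omega)
  obtain ⟨g, hg⟩ := exists_ne (1 : stabilizer G x)
  have hg1 : (g : G) ≠ 1 := fun hc => hg (Subtype.ext hc)
  obtain ⟨a, b, -, hab⟩ := h g hg1
  have hsub : orbit G x ⊆ {a, b} := by
    rintro _ ⟨c, rfl⟩
    have h1 : c⁻¹ * g * c⁻¹⁻¹ ∈ stabilizer G x := hn.conj_mem g g.2 c⁻¹
    have h2 : (c⁻¹ * (g : G) * c) • x = x := by simpa using h1
    have h3 : (g : G) • (c • x) = c • x := by
      rw [mul_smul, mul_smul, inv_smul_eq_iff] at h2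
      exact h2
    have h4 := (hab (c • x)).1 h3
    simpa using h4
  have h1 := Cfsg.Agent.ClassicalGeometry.DicksonCount.card_orbit_mul (G := G) x
  rw [hx, hG] at h1
  have h2 : Nat.card (orbit G x) ≤ 2 := by
    rw [Nat.card_coe_set_eq]
    refine (Set.ncard_le_ncard hsub (Set.toFinite _)).trans ?_
    refine (Set.ncard_insert_le a {b}).trans ?_
    rw [Set.ncard_singleton]
  omega

end Sixty

end Cfsg.Agent.H697.TwoDim
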